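import Groth.Agent.DelIll.K904.LogCxM

/-!
# (LC3) on the complexes of abelian sheaves; the case without divisor
-/

set_option autoImplicit false
set_option linter.unusedSectionVars false

universe u

open CategoryTheory CategoryTheory.Limits AlgebraicGeometry Opposite TopologicalSpace exteriorPower
open Groth.Agent.Sga67.Sec
open scoped TensorProduct

namespace K904.LogCxT

open _root_.K904.LogCxS _root_.K904.LogCxK _root_.K904.LogCxM
open Groth.Agent.CohqA.BCPull (toU)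
open Groth.Agent.Fga.PicTanSheaf (Sh sec rs ap ap_rs)

section main

variable {R R' : Type u} [CommRing R] [CommRing R'] [Algebra R R'] {X X' : Scheme.{u}}
  {f : X ⟶ Spec (CommRingCat.of R)} {f' : X' ⟶ Spec (CommRingCat.of R')} {g : X' ⟶ X}

/-- multiplication by a scalar of the base on the sections of a term -/
noncomputable def sc {X : Scheme.{u}} {R : Type u} [CommRing R] (f : X ⟶ Spec (CommRingCat.of R))
    {S : Scheme.{u}} {h : X ⟶ S} {L : X.Modules} {δ : OmegaSh.Der h L} (K : DeRhamSh.Cx h L δ) (a : ℕ) (x : R)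
    (U : X.Opens) : sec (K.K.X a) U →+ sec (K.K.X a) U :=
  ap (KLinDR.scalarEnd (Coh.toGlobal f) K.term K.iso x a) U

section term

variable {S : Scheme.{u}} {h : X ⟶ S} {L : X.Modules} {δ : OmegaSh.Der h L} (K : DeRhamSh.Cx h L δ)

/-- sections of the complex are sections of the terms -/
noncomputable def ie (a : ℕ) (U : X.Opens) : sec (K.K.X a) U ≃+ Sec (K.term a) U where
  toFun := ap (K.iso a).hom U
  invFun := ap (K.iso a).inv U
  left_inv s := congr($(((K.iso a).hom_inv_id)).hom.app (op U) s)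
  right_inv s := congr($(((K.iso a).inv_hom_id)).hom.app (op U) s)
  map_add' := map_add (ap (K.iso a).hom U)

theorem ie_rs (a : ℕ) {U V : X.Opens} (e : V ≤ U) (s : sec (K.K.X a) U) :
    ie K a V (rs (K.K.X a) e s) = res (K.term a) e (ie K a U s) := ap_rs (K.iso a).hom e s

theorem ie_sc (f : X ⟶ Spec (CommRingCat.of R)) (a : ℕ) (x : R) (U : X.Opens) (s : sec (K.K.X a) U) :
    ie K a U (sc f K a x U s) = toU f U x • ie K a U s := by
  have h1 : KLinDR.scalarEnd (Coh.toGlobal f) K.term K.iso x a ≫ (K.iso a).hom =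
    (K.iso a).hom ≫ Coh.smulAb (K.term a) (Coh.toGlobal f x) := by simp [KLinDR.scalarEnd]
  exact congr(ap $h1 U s)

theorem ie_d (a : ℕ) (U : X.Opens) (s : sec (K.K.X a) U) :
    ie K (a + 1) U (ap (K.K.d a (a + 1)) U s) =
      apS ((K.iso a).inv ≫ K.K.d a (a + 1) ≫ (K.iso (a + 1)).hom) U (ie K a U s) := by
  have h1 : K.K.d a (a + 1) ≫ (K.iso (a + 1)).hom =
    (K.iso a).hom ≫ ((K.iso a).inv ≫ K.K.d a (a + 1) ≫ (K.iso (a + 1)).hom) := by simp
  exact congr(ap $h1 U s)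

end term

variable {Ω : X.Modules} {d : OmegaSh.Der f Ω} {Ω' : X'.Modules} {d' : OmegaSh.Der f' Ω'} {r : ℕ}
  {D : Fin r → X.IdealSheafData} (Λ : LogNCD.LogMod d D) (Λ' : LogNCD.LogMod d' (fun i => (D i).comap g))

/-- **(LC3) on the complexes.** -/
theorem exists_beta [Smooth f] (sq : IsPullback g f' f (Spec.map (CommRingCat.ofHom (algebraMap R R'))))
    (hd : OmegaSh.IsUniversal d) (hd' : OmegaSh.IsUniversal d') (hD : LogNCD.IsNCD D f)
    (K : DeRhamSh.Cx f Λ.L (LogNCD.der Λ)) (K' : DeRhamSh.Cx f' Λ'.L (LogNCD.der Λ')) :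
    ∃ β : ∀ (a : ℕ) (U : X.affineOpens), sec (K.K.X a) U.1 →+ sec (K'.K.X a) (g ⁻¹ᵁ U.1),
      (∀ (a : ℕ) (U V : X.affineOpens) (h : V.1 ≤ U.1) (s : sec (K.K.X a) U.1),
        β a V (rs _ h s) = rs _ (g.preimage_mono h) (β a U s)) ∧
      (∀ (a : ℕ) (U : X.affineOpens) (x : R) (s : sec (K.K.X a) U.1),
        β a U (sc f K a x U.1 s) = sc f' K' a (algebraMap R R' x) (g ⁻¹ᵁ U.1) (β a U s)) ∧
      (∀ (a b : ℕ) (U : X.affineOpens) (s : sec (K.K.X a) U.1),
        β b U (ap (K.K.d a b) U.1 s) = ap (K'.K.d a b) (g ⁻¹ᵁ U.1) (β a U s)) ∧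
      (∀ (a : ℕ) (U : X.affineOpens) [Module R (sec (K.K.X a) U.1)]
        (_ : ∀ (x : R) (s : sec (K.K.X a) U.1), x • s = sc f K a x U.1 s)
        (l : R' ⊗[R] sec (K.K.X a) U.1 →+ sec (K'.K.X a) (g ⁻¹ᵁ U.1))
        (_ : ∀ (x : R') (s : sec (K.K.X a) U.1), l (x ⊗ₜ s) = sc f' K' a x (g ⁻¹ᵁ U.1) (β a U s)),
        Function.Bijective l) := by
  obtain ⟨β, h1, h2, h3, h4⟩ := LogCxM.exists_beta Λ Λ' sq hd hd' hD K K'
  have haff : IsAffineHom g := MorphismProperty.of_isPullback (P := @IsAffineHom) sq.flip inferInstance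
  refine ⟨fun a U => ((ie K' a (g ⁻¹ᵁ U.1)).symm.toAddMonoidHom.comp (β a U)).comp (ie K a U.1).toAddMonoidHom,
    ?_, ?_, ?_, ?_⟩
  · intro a U V h s
    apply (ie K' a (g ⁻¹ᵁ V.1)).injective
    rw [ie_rs]
    change (ie K' a (g ⁻¹ᵁ V.1)) ((ie K' a (g ⁻¹ᵁ V.1)).symm (β a V (ie K a V.1 (rs _ h s)))) =
      res _ _ (ie K' a (g ⁻¹ᵁ U.1) ((ie K' a (g ⁻¹ᵁ U.1)).symm (β a U (ie K a U.1 s))))
    rw [AddEquiv.apply_symm_apply, AddEquiv.apply_symm_apply, ie_rs, h1]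
  · intro a U x s
    apply (ie K' a (g ⁻¹ᵁ U.1)).injective
    rw [ie_sc]
    change (ie K' a (g ⁻¹ᵁ U.1)) ((ie K' a (g ⁻¹ᵁ U.1)).symm (β a U (ie K a U.1 (sc f K a x U.1 s)))) =
      toU f' (g ⁻¹ᵁ U.1) (algebraMap R R' x) •
        (ie K' a (g ⁻¹ᵁ U.1) ((ie K' a (g ⁻¹ᵁ U.1)).symm (β a U (ie K a U.1 s))))
    rw [AddEquiv.apply_symm_apply, AddEquiv.apply_symm_apply, ie_sc, h2]
    congr 1
    have hpo := Groth.Agent.CohqA.BCPull.isPushout_toU f f' g sq U.1 U.2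
    have := congr($(hpo.w).hom x)
    rw [Scheme.Hom.app_eq_appLE]
    exact this
  · intro a b U s
    by_cases hab : a + 1 = b
    · subst hab
      apply (ie K' (a + 1) (g ⁻¹ᵁ U.1)).injective
      rw [ie_d]
      change (ie K' (a + 1) (g ⁻¹ᵁ U.1)) ((ie K' (a + 1) (g ⁻¹ᵁ U.1)).symm
        (β (a + 1) U (ie K (a + 1) U.1 (ap (K.K.d a (a + 1)) U.1 s)))) =
        apS _ _ (ie K' a (g ⁻¹ᵁ U.1) ((ie K' a (g ⁻¹ᵁ U.1)).symm (β a U (ie K a U.1 s))))
      rw [AddEquiv.apply_symm_apply, AddEquiv.apply_symm_apply, ie_d]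
      exact h3 a U _
    · have e1 : K.K.d a b = 0 := K.K.shape a b hab
      have e2 : K'.K.d a b = 0 := K'.K.shape a b hab
      rw [e1, e2]
      exact map_zero _
  · intro a U _ hm l hl
    let : Module R (Sec (K.term a) U.1) := Module.compHom _ (toU f U.1)
    let ε : sec (K.K.X a) U.1 ≃ₗ[R] Sec (K.term a) U.1 :=
      { (ie K a U.1) with
        map_smul' := fun x s => by
          change ie K a U.1 (x • s) = toU f U.1 x • ie K a U.1 s
          rw [hm, ie_sc] }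
    let l' : R' ⊗[R] Sec (K.term a) U.1 →+ Sec (K'.term a) (g ⁻¹ᵁ U.1) :=
      (ie K' a (g ⁻¹ᵁ U.1)).toAddMonoidHom.comp (l.comp (LinearEquiv.lTensor R' ε.symm).toLinearMap.toAddMonoidHom)
    have hl' : Function.Bijective l' := by
      refine h4 a U (fun _ _ => rfl) l' ?_
      intro x s
      change ie K' a (g ⁻¹ᵁ U.1) (l (x ⊗ₜ ε.symm s)) = _
      rw [hl, ie_sc]
      change _ • (ie K' a (g ⁻¹ᵁ U.1)) ((ie K' a (g ⁻¹ᵁ U.1)).symm (β a U (ε (ε.symm s)))) = _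
      rw [AddEquiv.apply_symm_apply, LinearEquiv.apply_symm_apply]
    have h5 : (l : R' ⊗[R] sec (K.K.X a) U.1 → sec (K'.K.X a) (g ⁻¹ᵁ U.1)) =
        (ie K' a (g ⁻¹ᵁ U.1)).symm ∘ l' ∘ (LinearEquiv.lTensor R' ε) := by
      funext z
      change l z = (ie K' a (g ⁻¹ᵁ U.1)).symm (ie K' a (g ⁻¹ᵁ U.1)
        (l ((LinearEquiv.lTensor R' ε.symm) ((LinearEquiv.lTensor R' ε) z))))
      rw [AddEquiv.symm_apply_apply]
      congr 1
      induction z with
      | zero => simp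
      | add x y hx hy => rw [map_add, map_add, ← hx, ← hy]
      | tmul a s => simp
    rw [h5]
    exact (ie K' a (g ⁻¹ᵁ U.1)).symm.bijective.comp (hl'.comp (LinearEquiv.bijective _))

end main

section triv

variable {X S : Scheme.{u}} {f : X ⟶ S} {Ω' : X.Modules}

/-- The log module of the empty divisor. -/
noncomputable def triv (d : OmegaSh.Der f Ω') (D : Fin 0 → X.IdealSheafData) : LogNCD.LogMod d D where
  L := Ω'
  ι := 𝟙 _
  res i := i.elim0
  mono := inferInstance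
  res_ι i := i.elim0
  rule U g _ := ⟨fun x hx => by simpa using hx, fun i => i.elim0, fun i => i.elim0, by
    rw [eq_top_iff]
    intro x _
    exact Submodule.subset_span (Or.inl ⟨x, rfl⟩), fun i => i.elim0, fun i => i.elim0⟩

theorem isNCD_empty (f : X ⟶ S) (D : Fin 0 → X.IdealSheafData) : LogNCD.IsNCD D f :=
  fun _ ⟨i⟩ => i.1.elim0

/-- A de Rham complex is a logarithmic de Rham complex of the empty divisor. -/
noncomputable def ofCx {d : OmegaSh.Der f Ω'} (K : DeRhamSh.Cx f Ω' d) (D : Fin 0 → X.IdealSheafData) :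
    DeRhamSh.Cx f (triv d D).L (LogNCD.der (triv d D)) where
  K := K.K
  term := K.term
  iso := K.iso
  loc := K.loc
  loc_res := K.loc_res
  rule := K.rule

/-- A logarithmic de Rham complex of the empty divisor is a de Rham complex. -/
noncomputable def toCx {d : OmegaSh.Der f Ω'} {D : Fin 0 → X.IdealSheafData}
    (K : DeRhamSh.Cx f (triv d D).L (LogNCD.der (triv d D))) : DeRhamSh.Cx f Ω' d where
  K := K.K
  term := K.term
  iso := K.iso
  loc := K.loc
  loc_res := K.loc_res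
  rule := K.rule

/-- (LC1) without divisor. -/
theorem nonempty_cx_univ [IsAffine S] [Smooth f] {d : OmegaSh.Der f Ω'} (hd : OmegaSh.IsUniversal d) :
    Nonempty (DeRhamSh.Cx f Ω' d) := by
  obtain ⟨K⟩ := nonempty_cx (K922.Univ.affUniv hd) (triv d (Fin.elim0 : Fin 0 → X.IdealSheafData))
    (isNCD_empty f _)
  exact ⟨toCx K⟩

/-- (LC2) without divisor. -/
theorem termwiseLinear_univ {R : Type u} [CommRing R] {f : X ⟶ Spec (CommRingCat.of R)} [Smooth f]
    {d : OmegaSh.Der f Ω'} (hd : OmegaSh.IsUniversal d) (K : DeRhamSh.Cx f Ω' d) :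
    KLinDR.TermwiseLinear (Coh.toGlobal f) K.K K.term K.iso :=
  LogCxL.termwiseLinear (K922.Univ.affUniv hd) (triv d (Fin.elim0 : Fin 0 → X.IdealSheafData))
    (isNCD_empty f _) (ofCx K _)

end triv

section mainUniv

variable {R R' : Type u} [CommRing R] [CommRing R'] [Algebra R R'] {X X' : Scheme.{u}}
  {f : X ⟶ Spec (CommRingCat.of R)} {f' : X' ⟶ Spec (CommRingCat.of R')} {g : X' ⟶ X}
  {Ω : X.Modules} {d : OmegaSh.Der f Ω} {Ω' : X'.Modules} {d' : OmegaSh.Der f' Ω'}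

/-- (LC3) on the complexes, without divisor. -/
theorem exists_beta_univ [Smooth f] (sq : IsPullback g f' f (Spec.map (CommRingCat.ofHom (algebraMap R R'))))
    (hd : OmegaSh.IsUniversal d) (hd' : OmegaSh.IsUniversal d')
    (K : DeRhamSh.Cx f Ω d) (K' : DeRhamSh.Cx f' Ω' d') :
    ∃ β : ∀ (a : ℕ) (U : X.affineOpens), sec (K.K.X a) U.1 →+ sec (K'.K.X a) (g ⁻¹ᵁ U.1),
      (∀ (a : ℕ) (U V : X.affineOpens) (h : V.1 ≤ U.1) (s : sec (K.K.X a) U.1),
        β a V (rs _ h s) = rs _ (g.preimage_mono h) (β a U s)) ∧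
      (∀ (a : ℕ) (U : X.affineOpens) (x : R) (s : sec (K.K.X a) U.1),
        β a U (sc f K a x U.1 s) = sc f' K' a (algebraMap R R' x) (g ⁻¹ᵁ U.1) (β a U s)) ∧
      (∀ (a b : ℕ) (U : X.affineOpens) (s : sec (K.K.X a) U.1),
        β b U (ap (K.K.d a b) U.1 s) = ap (K'.K.d a b) (g ⁻¹ᵁ U.1) (β a U s)) ∧
      (∀ (a : ℕ) (U : X.affineOpens) [Module R (sec (K.K.X a) U.1)]
        (_ : ∀ (x : R) (s : sec (K.K.X a) U.1), x • s = sc f K a x U.1 s)
        (l : R' ⊗[R] sec (K.K.X a) U.1 →+ sec (K'.K.X a) (g ⁻¹ᵁ U.1))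
        (_ : ∀ (x : R') (s : sec (K.K.X a) U.1), l (x ⊗ₜ s) = sc f' K' a x (g ⁻¹ᵁ U.1) (β a U s)),
        Function.Bijective l) :=
  exists_beta (triv d (Fin.elim0 : Fin 0 → X.IdealSheafData))
    (triv d' (fun i => ((Fin.elim0 : Fin 0 → X.IdealSheafData) i).comap g)) sq hd hd' (isNCD_empty f _)
    (ofCx K _) (ofCx K' _)

end mainUniv

end K904.LogCxT
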