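import Groth.Agent.DelIll.K904.GeoDt

/-!
# Lifted logarithmic charts on a scheme

`LC i Dl Λ W` : a lifted chart on the affine open `W`; `LC.at` its restriction to smaller affine opens, as a chart of
the ring level data; `at_isRes`, `at_div`; local existence `exists_lc`.
-/

set_option autoImplicit false
set_option linter.unusedSectionVars false
set_option linter.style.haveILetI false

universe u

open CategoryTheory CategoryTheory.Limits AlgebraicGeometry Opposite TopologicalSpace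
open Groth.Agent.Sga67.Sec Groth.Agent.Sga67.LocBasis FrobAlg K673.W2Basic K673.Lift

namespace K904.GeoCh

open _root_.K904.GeoUp _root_.K904.GeoDt _root_.K922.DSec _root_.K904.EtLift _root_.K904.Ch
open _root_.K922.LogBasis

section ring

variable {p : ℕ} [Fact p.Prime] {k : Type u} [Field k] [CharP k p] [PerfectRing k p]
variable {B Bt : Type u} {L : Type u} [CommRing B] [Algebra k B] [CommRing Bt] [AddCommGroup L]
  [Module B L] [CharP B p] {X : Dt p k B Bt L}

/-- Divisibility criterion. -/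
theorem div_of_rel' (c c' : Chart X)
    (h : ∀ j, c.S j → IsUnit (c.x j) ∨
      ∃ (j' : Fin c'.n) (u : Bt) (w : B), c.xt j = u * c'.xt j' ∧ c'.x j' = w * c.x j) : Div c c' := by
  intro j hj
  rcases h j hj with ⟨u, hu⟩ | ⟨j', u, w, h1, h2⟩
  · refine ⟨((u⁻¹ : Bˣ) : B) ^ p * FrobMaps.lam c'.s (c.xt j), ?_⟩
    rw [← hu, ← mul_assoc, ← mul_pow, Units.mul_inv, one_pow, one_mul]
  · refine ⟨w ^ p * FrobMaps.lam c'.s u, ?_⟩
    have h3 : FrobMaps.lam c'.s (c.xt j) = (c'.x j') ^ p * FrobMaps.lam c'.s u := by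
      rw [h1, FrobMaps.lam_mul c'.isSec, FrobMaps.lam_coord c'.isSec, mul_zero, zero_add]
      rfl
    rw [h3, h2, mul_pow, mul_comm (w ^ p), mul_assoc]

omit [CharP B p] [AddCommGroup L] [Module B L] in
theorem span_aux {ι : W2 p k →+* Bt} {π : Bt →+* B} (hlift : IsLift p k B Bt ι π) (I : Ideal Bt)
    (hI : ∀ z, (p : Bt) * z ∈ I → ∃ z₁, z - (p : Bt) * z₁ ∈ I) (v : Bt) (hv : v ∈ I)
    (hspan : I.map π = Ideal.span {π v}) : I = Ideal.span {v} := by
  obtain ⟨hs, h1, h2, -⟩ := isLift_iff.1 hlift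
  have hpp := IsLift.natCast_mul_natCast hlift
  apply le_antisymm
  · have step : ∀ y ∈ I, ∃ a z, y = a * v + (p : Bt) * z := by
      intro y hy
      have h3 : π y ∈ I.map π := Ideal.mem_map_of_mem _ hy
      rw [hspan, Ideal.mem_span_singleton'] at h3
      obtain ⟨a', ha'⟩ := h3
      obtain ⟨a, rfl⟩ := hs a'
      obtain ⟨z, hz⟩ := h2 (y - a * v) (by rw [map_sub, map_mul, ha', sub_self])
      exact ⟨a, z, by rw [← hz]; ring⟩
    intro y hy
    obtain ⟨a, z, hyz⟩ := step y hy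
    have hz : (p : Bt) * z ∈ I := by
      have : (p : Bt) * z = y - a * v := by rw [hyz]; ring
      rw [this]
      exact Ideal.sub_mem _ hy (Ideal.mul_mem_left _ _ hv)
    obtain ⟨z₁, hz₁⟩ := hI z hz
    obtain ⟨a', z', hz'⟩ := step _ hz₁
    have h5 : (p : Bt) * z = (p : Bt) * a' * v := by
      have h6 : z = a' * v + (p : Bt) * z' + (p : Bt) * z₁ := by
        rw [← hz']; ring
      rw [h6, mul_add, mul_add, ← mul_assoc, ← mul_assoc, ← mul_assoc, hpp, zero_mul, zero_mul, add_zero, add_zero]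
    rw [Ideal.mem_span_singleton', hyz, h5]
    exact ⟨a + (p : Bt) * a', by ring⟩
  · rw [Ideal.span_singleton_le_iff_mem]
    exact hv

end ring

section et

variable {p : ℕ} [Fact p.Prime] {k : Type u} [Field k] [CharP k p] [PerfectRing k p]
variable {X : Scheme.{u}} [X.Over (Spec (CommRingCat.of k))]

attribute [local instance] algO

theorem etale_resO {U V : X.Opens} (hU : IsAffineOpen U) (hV : IsAffineOpen V) (h : V ≤ U) :
    (resO X h).Etale := by
  have h1 := Scheme.Hom.etale_appLE (𝟙 X) hU hV (show V ≤ (𝟙 X) ⁻¹ᵁ U from h)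
  have h2 : (𝟙 X : X ⟶ X).appLE U V h = X.presheaf.map (homOfLE h).op := by
    change (𝟙 X : X ⟶ X).app U ≫ _ = _
    rw [Scheme.Hom.id_app]
    exact Category.id_comp _
  rw [h2] at h1
  exact h1

theorem coord_resO {U V : X.Opens} (h : V ≤ U) {n : ℕ} (v : Fin n → Γ(X, U)) :
    coord k (fun j => resO X h (v j)) = (resO X h).comp (coord k v) := by
  apply MvPolynomial.ringHom_ext
  · intro a
    rw [coord_C, RingHom.comp_apply, coord_C, algebraMap_resO]
  · intro j
    rw [coord_X, RingHom.comp_apply, coord_X]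

theorem coord_etale_res {U V : X.Opens} (hU : IsAffineOpen U) (hV : IsAffineOpen V) (h : V ≤ U) {n : ℕ}
    (v : Fin n → Γ(X, U)) (hv : (coord k v).Etale) : (coord k (fun j => resO X h (v j))).Etale := by
  rw [coord_resO]
  exact RingHom.Etale.stableUnderComposition _ _ hv (etale_resO hU hV h)

/-- Coordinates over an affine open of `Spec k`. -/
theorem coord_etale_of {U : X.Opens} [Nonempty U] (V : (Spec (CommRingCat.of k)).Opens)
    (e : U ≤ (X ↘ Spec (CommRingCat.of k)) ⁻¹ᵁ V) {n : ℕ} (v : Fin n → Γ(X, U))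
    (hv : (MvPolynomial.eval₂Hom ((X ↘ Spec (CommRingCat.of k)).appLE V U e).hom v).Etale) :
    (coord k v).Etale := by
  have hV : V = ⊤ := by
    obtain ⟨x⟩ := (inferInstance : Nonempty U)
    have h1 : (X ↘ Spec (CommRingCat.of k)) x.1 ∈ V := e x.2
    ext y
    have : y = (X ↘ Spec (CommRingCat.of k)) x.1 := Subsingleton.elim _ _
    simp [this, h1]
  subst hV
  have h1 : coord k v = (MvPolynomial.eval₂Hom ((X ↘ Spec (CommRingCat.of k)).appLE ⊤ U e).hom v).comp
      (MvPolynomial.mapEquiv (Fin n) (Scheme.ΓSpecIso (CommRingCat.of k)).symm.commRingCatIsoToRingEquiv).toRingHom := by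
    apply MvPolynomial.ringHom_ext
    · intro a
      rw [coord_C, RingHom.comp_apply]
      simp only [RingEquiv.toRingHom_eq_coe, RingHom.coe_coe, MvPolynomial.mapEquiv_apply, MvPolynomial.map_C,
        MvPolynomial.eval₂Hom_C]
      rfl
    · intro j
      rw [coord_X, RingHom.comp_apply]
      simp
  rw [h1]
  exact RingHom.Etale.respectsIso.2 _ _ hv

end et

section ideal

variable {p : ℕ} [Fact p.Prime] {k : Type u} [Field k] [CharP k p] [PerfectRing k p]
variable {X : Scheme.{u}} {f : X ⟶ Spec (CommRingCat.of k)}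
variable {Xl : Scheme.{u}} {g : Xl ⟶ Spec (CommRingCat.of (W2 p k))} {i : X ⟶ Xl}
  [Flat g] [IsClosedImmersion i] [Surjective i] (hl : IsPullback i f g (spW p k))

/-- The affine open of the lifting. -/
def upA (i : X ⟶ Xl) [IsClosedImmersion i] [Surjective i] (W : X.affineOpens) : Xl.affineOpens :=
  ⟨up i W.1, isAffineOpen_up i W.2⟩

theorem ideal_comap_up (J : Xl.IdealSheafData) (W : X.affineOpens) :
    (J.comap i).ideal W = (J.ideal (upA i W)).map (red i W.1) :=
  Groth.Agent.Divis.IdealComap.ideal_comap J i (upA i W) W (le_preimage_up i W.1)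

/-- Flatness of the quotient. -/
theorem exists_of_mul_mem (J : Xl.IdealSheafData) (hf : Flat (J.subschemeι ≫ g)) (V : Xl.affineOpens)
    (z : Γ(Xl, V.1)) (hz : (p : Γ(Xl, V.1)) * z ∈ J.ideal V) :
    ∃ z₁, z - (p : Γ(Xl, V.1)) * z₁ ∈ J.ideal V := by
  have hsurj := J.subschemeι_app_surjective V
  have hker := J.ker_subschemeι_app V
  have hC : IsAffineOpen (J.subschemeι ⁻¹ᵁ V.1) := V.2.preimage J.subschemeι
  have hflat := hf.flat_appLE (isAffineOpen_top _) hC (le_pre (J.subschemeι ≫ g) _)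
  have hflat' : (((J.subschemeι ≫ g).appLE ⊤ (J.subschemeι ⁻¹ᵁ V.1) (le_pre _ _)).hom.comp
      (Scheme.ΓSpecIso (CommRingCat.of (W2 p k))).inv.hom).Flat := by
    refine RingHom.Flat.comp ?_ hflat
    exact RingHom.Flat.of_bijective (ConcreteCategory.bijective_of_isIso (Scheme.ΓSpecIso (CommRingCat.of (W2 p k))).inv)
  have h1 := (ringHom_flat_iff p k _).1 hflat'
  have hmem : ∀ y, y ∈ J.ideal V ↔ (J.subschemeι.app V.1).hom y = 0 := fun y => by
    rw [← hker, RingHom.mem_ker]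
  obtain ⟨c, hc⟩ := h1 ((J.subschemeι.app V.1).hom z) (by
    rw [← map_natCast (J.subschemeι.app V.1).hom, ← map_mul]
    exact (hmem _).1 hz)
  obtain ⟨z₁, rfl⟩ := hsurj c
  refine ⟨z₁, (hmem _).2 ?_⟩
  rw [map_sub, hc, map_mul, map_natCast]
  exact sub_self _

/-- The ideal over an affine open. -/
def idl (J : Xl.IdealSheafData) (W : X.affineOpens) : Ideal Γ(Xl, up i W.1) := J.ideal (upA i W)

include hl in
/-- The ideal of a flat lifting of a principal divisor is generated by any lifting of the equation. -/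
theorem ideal_eq_span (J : Xl.IdealSheafData) (hf : Flat (J.subschemeι ≫ g)) (W : X.affineOpens)
    (v : Γ(Xl, up i W.1)) (hv : v ∈ idl J W)
    (hspan : (J.comap i).ideal W = Ideal.span {red i W.1 v}) : idl J W = Ideal.span {v} := by
  letI := alg f W.1
  refine span_aux (isLift hl W.2) (idl J W) (exists_of_mul_mem J hf (upA i W)) v hv ?_
  rw [← hspan, ideal_comap_up]
  rfl

end ideal

section lc

variable {p : ℕ} [Fact p.Prime] {k : Type u} [Field k] [CharP k p] [PerfectRing k p]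
variable {X : Scheme.{u}} [X.Over (Spec (CommRingCat.of k))]
variable {Xl : Scheme.{u}} {g : Xl ⟶ Spec (CommRingCat.of (W2 p k))} {i : X ⟶ Xl}
  [Flat g] [IsClosedImmersion i] [Surjective i]
  (hl : IsPullback i (X ↘ Spec (CommRingCat.of k)) g (spW p k))
variable {r : ℕ} {D : Fin r → X.IdealSheafData} (Dl : Fin r → Xl.IdealSheafData)
  {Ω' : X.Modules} {d : OmegaSh.Der (X ↘ Spec (CommRingCat.of k)) Ω'} (Λ : LogNCD.LogMod d D)

attribute [local instance] algO

theorem Aff.le_trans {W₁ W₂ W₃ : Aff X} (h : W₂.U ≤ W₁.U) (h' : W₃.U ≤ W₂.U) : W₃.U ≤ W₁.U := h'.trans h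

variable (i) in
/-- A lifted logarithmic chart on the affine open `W`. -/
structure LC (W : Aff X) where
  /-- number of coordinates -/
  n : ℕ
  /-- the chart -/
  c : _root_.K922.Chart.Chart (X ↘ Spec (CommRingCat.of k)) D W.U n
  /-- the basis of logarithmic forms -/
  B : LogBasis Λ c
  et : (coord k c.v).Etale
  /-- the lifted coordinates -/
  xt : Fin n → Γ(Xl, up i W.U)
  red_xt : ∀ j, red i W.U (xt j) = c.v j
  mem : ∀ l j, c.e l = some j → xt j ∈ idl (Dl l) W.aO

variable {Dl Λ}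
variable {W W' W'' W₁ W₂ : Aff X} [CharP Γ(X, W.U) p] [CharP Γ(X, W'.U) p] [CharP Γ(X, W''.U) p]

/-- The restriction of a lifted chart, as a chart of the ring level data. -/
noncomputable def LC.at (L : LC i Dl Λ W₁) (h : W.U ≤ W₁.U) : Chart (dt hl (LogNCD.der Λ) W) where
  n := L.n
  S j := ∃ l, L.c.e l = some j
  xt j := resO Xl (up_mono i h) (L.xt j)
  e := L.B.isLocBasis.basis h
  log j hj := by
    obtain ⟨l, hlj⟩ := hj
    have h1 := L.B.smul_b l j hlj
    rw [L.c.g_some l j hlj, ← dS_der] at h1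
    have h2 := congrArg (res Λ.L h) h1
    rw [res_smul, dS_res] at h2
    rw [IsLocBasis.basis_apply, dt_π, red_resO, L.red_xt, h2]
    rfl
  plain j hj := by
    have h1 := L.B.b_none j (fun l hlj => hj ⟨l, hlj⟩)
    rw [← dS_der] at h1
    have h2 := congrArg (res Λ.L h) h1
    rw [dS_res] at h2
    rw [IsLocBasis.basis_apply, dt_π, red_resO, L.red_xt, h2]
    rfl
  et := by
    have h1 := coord_etale_res W₁.aff W.aff h L.c.v L.et
    have h2 : (fun j => resO X h (L.c.v j)) =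
        fun j => (dt hl (LogNCD.der Λ) W).π (resO Xl (up_mono i h) (L.xt j)) := by
      funext j
      rw [dt_π, red_resO, L.red_xt]
    rw [h2] at h1
    exact h1

theorem LC.at_x (L : LC i Dl Λ W₁) (h : W.U ≤ W₁.U) (j : Fin L.n) :
    (L.at hl h).x j = resO X h (L.c.v j) := by
  change (dt hl (LogNCD.der Λ) W).π (resO Xl (up_mono i h) (L.xt j)) = _
  rw [dt_π, red_resO, L.red_xt]

theorem LC.at_e (L : LC i Dl Λ W₁) (h : W.U ≤ W₁.U) (j : Fin L.n) :
    (L.at hl h).e j = res Λ.L h (L.B.b j) := IsLocBasis.basis_apply _ _ _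

theorem LC.at_isRes (L : LC i Dl Λ W₁) (h : W.U ≤ W₁.U) (h' : W'.U ≤ W.U) :
    IsRes (mor hl (LogNCD.der Λ) h') (L.at hl h) (L.at hl (h'.trans h)) := by
  refine ⟨Equiv.refl _, fun j => ?_, fun j => ?_, fun j => Iff.rfl⟩
  · exact (resO_resO (X := Xl) (up_mono i h) (up_mono i h') (L.xt j)).symm
  · exact (LC.at_e hl L (h'.trans h) j).trans ((res_res Λ.L h h' (L.B.b j)).symm.trans
      (congrArg (res Λ.L h') (LC.at_e hl L h j)).symm)

theorem mem_idl_res (J : Xl.IdealSheafData) {U V : X.affineOpens} (h : V.1 ≤ U.1) {x : Γ(Xl, up i U.1)}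
    (hx : x ∈ idl J U) : resO Xl (up_mono i h) x ∈ idl J V := by
  have h1 := J.ideal_le_comap_ideal (U := upA i V) (V := upA i U) (up_mono i h)
  exact h1 hx

variable (hDl : ∀ j, (Dl j).comap i = D j) (hDlf : ∀ j, Flat ((Dl j).subschemeι ≫ g))

include hl hDl hDlf in
theorem LC.idl_eq (L : LC i Dl Λ W₁) (h : W.U ≤ W₁.U) (l : Fin r) (j : Fin L.n) (hlj : L.c.e l = some j) :
    idl (Dl l) W.aO = Ideal.span {resO Xl (up_mono i h) (L.xt j)} := by
  refine ideal_eq_span hl (Dl l) (hDlf l) W.aO _ (mem_idl_res (Dl l) (U := W₁.aO) (V := W.aO) h (L.mem l j hlj)) ?_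
  rw [hDl]
  have h1 := L.c.ideal l W.aO h
  rw [L.c.g_some l j hlj] at h1
  refine h1.trans ?_
  congr 2
  exact ((red_resO i h (L.xt j)).trans (congrArg (resO X h) (L.red_xt j))).symm

include hl hDl hDlf in
/-- The divisibility between two charts. -/
theorem LC.at_div (L₁ : LC i Dl Λ W₁) (L₂ : LC i Dl Λ W₂) (h₁ : W.U ≤ W₁.U) (h₂ : W.U ≤ W₂.U) :
    Div (L₁.at hl h₁) (L₂.at hl h₂) := by
  apply div_of_rel'
  rintro j ⟨l, hlj⟩
  rcases he : L₂.c.e l with _ | j'
  · left
    have h1 := L₁.c.ideal l W.aO h₁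
    have h2 := L₂.c.ideal l W.aO h₂
    rw [L₂.c.g_none l he, map_one, Ideal.span_singleton_one] at h2
    rw [h2, L₁.c.g_some l j hlj] at h1
    exact (congrArg IsUnit (LC.at_x hl L₁ h₁ j)).mpr (Ideal.span_singleton_eq_top.1 h1.symm)
  · right
    have h1 := L₁.idl_eq hl hDl hDlf h₁ l j hlj
    have h2 := L₂.idl_eq hl hDl hDlf h₂ l j' he
    have h3 : resO Xl (up_mono i h₁) (L₁.xt j) ∈ Ideal.span {resO Xl (up_mono i h₂) (L₂.xt j')} := by
      rw [← h2, h1]
      exact Ideal.mem_span_singleton_self _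
    obtain ⟨a, ha⟩ := Ideal.mem_span_singleton'.1 h3
    have h4 : resO Xl (up_mono i h₂) (L₂.xt j') ∈ Ideal.span {resO Xl (up_mono i h₁) (L₁.xt j)} := by
      rw [← h1, h2]
      exact Ideal.mem_span_singleton_self _
    obtain ⟨b, hb⟩ := Ideal.mem_span_singleton'.1 h4
    refine ⟨j', a, (dt hl (LogNCD.der Λ) W).π b, ha.symm, ?_⟩
    change (dt hl (LogNCD.der Λ) W).π (resO Xl (up_mono i h₂) (L₂.xt j')) =
      (dt hl (LogNCD.der Λ) W).π b * (dt hl (LogNCD.der Λ) W).π (resO Xl (up_mono i h₁) (L₁.xt j))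
    rw [← hb, map_mul]

include hl hDl in
/-- **Local existence of lifted logarithmic charts.** -/
theorem exists_lc [Smooth (X ↘ Spec (CommRingCat.of k))] (hd : _root_.K922.Coord.AffUniv d)
    (hD : LogNCD.IsNCD D (X ↘ Spec (CommRingCat.of k))) {O : X.Opens} {x : X} (hx : x ∈ O) :
    ∃ (W : Aff X) (_ : LC i Dl Λ W), x ∈ W.U ∧ W.U ≤ O := by
  obtain ⟨U, n, c, B, hxU, hUO⟩ := exists_logChart hd hD Λ hx
  obtain ⟨W, h, V, e, hWU, hxW, het⟩ := c.coord x U.1 le_rfl hxU
  haveI : Nonempty W.1 := ⟨⟨x, hxW⟩⟩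
  have het' := coord_etale_of V.1 e _ het
  have hlift := isLift hl W.2
  have hsurj : Function.Surjective (red i W.1) := hlift.surj
  have hex : ∀ j, ∃ xt : Γ(Xl, up i W.1), red i W.1 xt = resO X h (c.v j) ∧
      ∀ l, c.e l = some j → xt ∈ idl (Dl l) W := by
    intro j
    by_cases hj : ∃ l, c.e l = some j
    · obtain ⟨l, hlj⟩ := hj
      have h1 : resO X h (c.v j) ∈ (idl (Dl l) W).map (red i W.1) := by
        have h2 := ideal_comap_up (i := i) (Dl l) W
        have h3 := c.ideal l W h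
        rw [← hDl, h2, c.g_some l j hlj] at h3
        have h4 : (idl (Dl l) W).map (red i W.1) = Ideal.span {resO X h (c.v j)} := h3
        rw [h4]
        exact Ideal.mem_span_singleton_self _
      rw [Ideal.mem_map_iff_of_surjective _ hsurj] at h1
      obtain ⟨xt, hxt, hxt'⟩ := h1
      refine ⟨xt, hxt', fun l' hl'j => ?_⟩
      rw [c.inj l' l j hl'j hlj]
      exact hxt
    · obtain ⟨xt, hxt⟩ := hsurj (resO X h (c.v j))
      exact ⟨xt, hxt, fun l hlj => absurd ⟨l, hlj⟩ hj⟩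
  choose xt hxt hxt' using hex
  refine ⟨⟨W.1, W.2, ⟨⟨x, hxW⟩⟩⟩, ⟨n, c.restrict h, B.restrict h, het', xt, hxt, fun l j hlj => hxt' j l hlj⟩,
    hxW, hWU.trans hUO⟩

end lc

end K904.GeoCh
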