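import Groth.Agent.DelIll.K904.LogCxM
import Groth.Agent.DeRhamSh.K853.Terms
import Groth.Agent.FlatB.AffSpaceSmooth

/-!
# The terms of a logarithmic de Rham complex vanish in high degrees
-/

set_option autoImplicit false
set_option linter.unusedSectionVars false

universe u

open CategoryTheory CategoryTheory.Limits AlgebraicGeometry Opposite TopologicalSpace exteriorPower
open Groth.Agent.Sga67.Sec Groth.Agent.Sga67.LocBasis Groth.Agent.Sga67.ExtSheaf

namespace K904.LogCxZ

open _root_.K922.DSec _root_.K922.Coord _root_.K922.Chart _root_.K922.LogBasis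

variable {X S : Scheme.{u}} {f : X ⟶ S} {Ω' : X.Modules} {d : OmegaSh.Der f Ω'} {r : ℕ}
  {D : Fin r → X.IdealSheafData} {Λ : LogNCD.LogMod d D}

/-- An exterior power is zero over opens where the module has a basis with fewer elements. -/
theorem isZero_of_basis {k : ℕ} {E L : X.Modules}
    (hE : ∀ x : X, ∃ (n : ℕ) (V : X.Opens) (b : Fin n → Sec E V), x ∈ V ∧ n < k ∧ IsLocBasis b)
    (hL : ExtPow.IsExtPow k E L) : IsZero L :=
  K853.Terms.isZero_of_isExtPow (fun x => by
    obtain ⟨n, V, b, hx, hn, hb⟩ := hE x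
    exact ⟨n, V, hx, hn, nonempty_restrict_iso_iff.mpr ⟨b, hb⟩⟩) hL

/-- Bound on a quasi-compact scheme. -/
theorem exists_bound [CompactSpace X] {E : X.Modules} (hE : FlatMod.IsFinLocFree E) :
    ∃ N : ℕ, ∀ (k : ℕ), N < k → ∀ L : X.Modules, ExtPow.IsExtPow k E L → IsZero L := by
  choose V n hx b hb using (isFinLocFree_iff E).1 hE
  obtain ⟨t, ht⟩ := isCompact_univ.elim_finite_subcover (fun x : X => (V x : Set X)) (fun x => (V x).isOpen)
    (fun x _ => Set.mem_iUnion.2 ⟨x, hx x⟩)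
  refine ⟨t.sup n, fun k hk L hL => isZero_of_basis (fun x => ?_) hL⟩
  obtain ⟨y, hy, hxy⟩ := Set.mem_iUnion₂.1 (ht (Set.mem_univ x))
  exact ⟨n y, V y, b y, hxy, (Finset.le_sup hy).trans_lt hk, hb y⟩

/-- The terms of a de Rham complex vanish in high degrees. -/
theorem exists_bound_term [CompactSpace X] {L : X.Modules} {δ : OmegaSh.Der f L} (hL : FlatMod.IsFinLocFree L)
    (K : DeRhamSh.Cx f L δ) : ∃ N : ℕ, ∀ (k : ℕ), N < k → IsZero (K.term k) := by
  obtain ⟨N, hN⟩ := exists_bound hL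
  exact ⟨N, fun k hk => hN k hk _ (K.isExtPow k)⟩

/-- On a log chart of a smooth scheme over a field of dimension at most `m` there are at most `m` coordinates. -/
theorem card_le {k : Type u} [Field k] {X : Scheme.{u}} {f : X ⟶ Spec (CommRingCat.of k)} [Smooth f]
    {Ω' : X.Modules} {d : OmegaSh.Der f Ω'} (hd : AffUniv d) {m : ℕ} (hm : topologicalKrullDim X ≤ m)
    {D : Fin r → X.IdealSheafData} {U : X.Opens} {n : ℕ} (c : Chart f D U n) (x : X) (hx : x ∈ U) : n ≤ m := by
  obtain ⟨W, hWU, V, e, -, hxW, het⟩ := c.coord x U le_rfl hx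
  have h0 : (MvPolynomial.eval₂Hom (f.appLE V.1 W.1 e).hom (fun j => resO X hWU (c.v j))).IsStandardSmoothOfRelativeDimension 0 :=
    RingHom.etale_iff_isStandardSmoothOfRelativeDimension_zero.1 het
  have h1 : (MvPolynomial.C (σ := Fin n) (R := Γ(Spec (CommRingCat.of k), V.1))).IsStandardSmoothOfRelativeDimension n := by
    change (algebraMap Γ(Spec (CommRingCat.of k), V.1) (MvPolynomial (Fin n) Γ(Spec (CommRingCat.of k), V.1))).IsStandardSmoothOfRelativeDimension n
    rw [RingHom.isStandardSmoothOfRelativeDimension_algebraMap]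
    exact Groth.Agent.FlatB.AffSpaceSmooth.isStandardSmoothOfRelativeDimension _ n
  have h2 := h0.comp h1
  have h3 : (f.appLE V.1 W.1 e).hom.IsStandardSmoothOfRelativeDimension n := by
    convert h2 using 1
    · simp
    · ext a
      simp
  have h4 := Groth.Agent.Ega2.GeoRelDim.smoothOfRelativeDimension_ι_comp f n V.1 V.2 W.1 W.2 e h3
  have h5 := Groth.Agent.UnramA.SmoothFibreDim.localDim_eq n (W.1.ι ≫ f) ⟨x, hxW⟩
  have h6 : FlatMor.localDim W.1 ⟨x, hxW⟩ ≤ topologicalKrullDim (W.1 : Set X) :=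
    Groth.Agent.VarietyB.DimTop.localDim_le_dim (X := W.1) ⟨x, hxW⟩
  have h7 := (h5 ▸ h6).trans ((topologicalKrullDim_subspace_le X (W.1 : Set X)).trans hm)
  exact_mod_cast h7

/-- Exterior powers of the log module vanish above the dimension. -/
theorem isZero_of_dim_lt {k : Type u} [Field k] {X : Scheme.{u}} {f : X ⟶ Spec (CommRingCat.of k)} [Smooth f]
    {Ω' : X.Modules} {d : OmegaSh.Der f Ω'} (hd : AffUniv d) {m : ℕ} (hm : topologicalKrullDim X ≤ m)
    {D : Fin r → X.IdealSheafData} (hD : LogNCD.IsNCD D f) (Λ : LogNCD.LogMod d D) {a : ℕ} (ha : m < a)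
    {La : X.Modules} (hLa : ExtPow.IsExtPow a Λ.L La) : IsZero La :=
  isZero_of_basis (fun x => by
    obtain ⟨U, n, c, B, hx, -⟩ := exists_logChart hd hD Λ (O := ⊤) (x := x) trivial
    exact ⟨n, U.1, B.b, hx, (card_le hd hm c x hx).trans_lt ha, B.isLocBasis⟩) hLa

/-- The terms of a logarithmic de Rham complex vanish above the dimension. -/
theorem isZero_term {k : Type u} [Field k] {X : Scheme.{u}} {f : X ⟶ Spec (CommRingCat.of k)} [Smooth f]
    {Ω' : X.Modules} {d : OmegaSh.Der f Ω'} (hd : AffUniv d) {m : ℕ} (hm : topologicalKrullDim X ≤ m)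
    {D : Fin r → X.IdealSheafData} (hD : LogNCD.IsNCD D f) {Λ : LogNCD.LogMod d D}
    (K : DeRhamSh.Cx f Λ.L (LogNCD.der Λ)) (a : ℕ) (ha : m < a) : IsZero (K.term a) :=
  isZero_of_dim_lt hd hm hD Λ ha (K.isExtPow a)

/-- A logarithmic de Rham complex on a quasi-compact scheme is bounded. -/
theorem exists_isZero_term {X S : Scheme.{u}} {f : X ⟶ S} {Ω' : X.Modules} {d : OmegaSh.Der f Ω'}
    {D : Fin r → X.IdealSheafData} {Λ : LogNCD.LogMod d D} [CompactSpace X] [Smooth f] (hd : AffUniv d)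
    (hD : LogNCD.IsNCD D f) (K : DeRhamSh.Cx f Λ.L (LogNCD.der Λ)) :
    ∃ N : ℕ, ∀ (a : ℕ), N < a → IsZero (K.term a) :=
  exists_bound_term (isFinLocFree hd hD Λ) K

end K904.LogCxZ
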