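import Groth.Agent.DelIll.K904.ChRes
import Groth.Agent.Flat2C.AffineThickening
import Groth.Agent.Flat2C.Thick
import Groth.Agent.Sga67.Sec
import Mathlib.AlgebraicGeometry.Morphisms.Flat
import Mathlib.AlgebraicGeometry.Morphisms.ClosedImmersion

/-!
# Opens of a lifting, and the ring level lifting over affine opens
-/

set_option autoImplicit false
set_option linter.unusedSectionVars false
set_option linter.style.haveILetI false

universe u

open CategoryTheory CategoryTheory.Limits AlgebraicGeometry Opposite TopologicalSpace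
open Groth.Agent.Sga67.Sec FrobAlg K673.W2Basic K673.Lift

namespace K904.GeoUp

section up

variable {X Xl : Scheme.{u}} (i : X ⟶ Xl) [IsClosedImmersion i] [Surjective i]

/-- The open of the lifting with the same points. -/
def up (U : X.Opens) : Xl.Opens :=
  ⟨i.base '' (U : Set X), by
    have h : IsHomeomorph i.base := by
      refine (isHomeomorph_iff_continuous_isClosedMap_bijective).2 ⟨i.base.hom.continuous, ?_, ?_, i.surjective⟩
      · exact i.isClosedEmbedding.isClosedMap
      · exact i.isClosedEmbedding.injective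
    exact h.isOpenMap _ U.2⟩

theorem preimage_up (U : X.Opens) : i ⁻¹ᵁ (up i U) = U := by
  ext x
  constructor
  · rintro ⟨y, hy, hxy⟩
    rwa [← i.isClosedEmbedding.injective hxy]
  · intro hx
    exact ⟨x, hx, rfl⟩

theorem up_mono {U V : X.Opens} (h : U ≤ V) : up i U ≤ up i V := Set.image_mono h

theorem up_preimage (V : Xl.Opens) : up i (i ⁻¹ᵁ V) = V :=
  Groth.Agent.Flat2C.AffineThickening.eq_of_preimage_eq i (preimage_up i _)

theorem isAffineOpen_up {U : X.Opens} (hU : IsAffineOpen U) : IsAffineOpen (up i U) := by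
  apply Groth.Agent.Flat2C.AffineThickening.isAffineOpen_of_preimage i
  rwa [preimage_up]

theorem le_preimage_up (U : X.Opens) : U ≤ i ⁻¹ᵁ (up i U) := (preimage_up i U).ge

/-- The reduction map on functions. -/
noncomputable def red (U : X.Opens) : Γ(Xl, up i U) →+* Γ(X, U) :=
  (i.appLE (up i U) U (le_preimage_up i U)).hom

theorem red_resO {U V : X.Opens} (h : V ≤ U) (s : Γ(Xl, up i U)) :
    red i V (resO Xl (up_mono i h) s) = resO X h (red i U s) := by
  change (i.appLE (up i V) V _) ((Xl.presheaf.map (homOfLE (up_mono i h)).op) s) =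
    (X.presheaf.map (homOfLE h).op) ((i.appLE (up i U) U _) s)
  rw [← CommRingCat.comp_apply, ← CommRingCat.comp_apply, Scheme.Hom.map_appLE, Scheme.Hom.appLE_map]

end up

section lift

variable {p : ℕ} [Fact p.Prime] {k : Type u} [Field k] [CharP k p] [PerfectRing k p]
variable {X Xl : Scheme.{u}}

theorem le_pre {Y S : Scheme.{u}} (g : Y ⟶ S) (V : Y.Opens) : V ≤ g ⁻¹ᵁ ⊤ := le_top

/-- The structure map on functions. -/
noncomputable def str {R : Type u} [CommRing R] {Y : Scheme.{u}} (g : Y ⟶ Spec (CommRingCat.of R)) (V : Y.Opens) :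
    R →+* Γ(Y, V) :=
  (g.appLE ⊤ V (le_pre g V)).hom.comp (Scheme.ΓSpecIso (CommRingCat.of R)).inv.hom

theorem str_resO {R : Type u} [CommRing R] {Y : Scheme.{u}} (g : Y ⟶ Spec (CommRingCat.of R)) {U V : Y.Opens}
    (h : V ≤ U) (a : R) : resO Y h (str g U a) = str g V a := by
  change (Y.presheaf.map (homOfLE h).op) ((g.appLE ⊤ U (le_pre g U)) _) = (g.appLE ⊤ V (le_pre g V)) _
  rw [← CommRingCat.comp_apply, Scheme.Hom.appLE_map]

/-- `Γ(X, U)` as an algebra over the base field. -/
noncomputable abbrev alg {R : Type u} [CommRing R] {Y : Scheme.{u}} (g : Y ⟶ Spec (CommRingCat.of R)) (V : Y.Opens) :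
    Algebra R Γ(Y, V) := (str g V).toAlgebra

variable (p k) in
/-- `Spec k → Spec W₂(k)`. -/
noncomputable abbrev spW : Spec (CommRingCat.of k) ⟶ Spec (CommRingCat.of (W2 p k)) :=
  Spec.map (CommRingCat.ofHom (FrobAlg.res p k))

instance : IsClosedImmersion (spW p k) :=
  IsClosedImmersion.spec_of_surjective _ (res_surjective p k)

instance : Surjective (spW p k) := by
  constructor
  intro x
  have h1 : Set.range (PrimeSpectrum.comap (FrobAlg.res p k)) = PrimeSpectrum.zeroLocus (RingHom.ker (FrobAlg.res p k)) :=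
    range_comap_of_surjective _ _ (res_surjective p k)
  have h2 : (x : PrimeSpectrum (W2 p k)) ∈ Set.range (PrimeSpectrum.comap (FrobAlg.res p k)) := by
    rw [h1]
    change ((RingHom.ker (FrobAlg.res p k) : Ideal (W2 p k)) : Set (W2 p k)) ⊆ (x : PrimeSpectrum (W2 p k)).asIdeal
    rw [ker_res]
    intro y hy
    obtain ⟨z, rfl⟩ := Ideal.mem_span_singleton.1 hy
    have hx : (x : PrimeSpectrum (W2 p k)).asIdeal.IsPrime := PrimeSpectrum.isPrime _
    have h3 : (p : W2 p k) ∈ (x : PrimeSpectrum (W2 p k)).asIdeal := by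
      rcases hx.mem_or_mem (x := (p : W2 p k)) (y := (p : W2 p k)) (by
        rw [natCast_mul_natCast]; exact Ideal.zero_mem _) with h | h <;> exact h
    exact Ideal.mul_mem_right _ _ h3
  exact h2

variable {f : X ⟶ Spec (CommRingCat.of k)} {g : Xl ⟶ Spec (CommRingCat.of (W2 p k))} {i : X ⟶ Xl}
  (hl : IsPullback i f g (spW p k))

include hl in
theorem isClosedImmersion : IsClosedImmersion i := MorphismProperty.of_isPullback hl.flip inferInstance

include hl in
theorem surjective : Surjective i := MorphismProperty.of_isPullback hl.flip inferInstance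

include hl in
/-- **The ring level lifting over an affine open.** -/
theorem isLift [Flat g] [IsClosedImmersion i] [Surjective i] {U : X.Opens} (hU : IsAffineOpen U) :
    letI := alg f U
    IsLift p k Γ(X, U) Γ(Xl, up i U) (str g (up i U)) (red i U) := by
  letI := alg f U
  have hV := isAffineOpen_up i hU
  have hflat : (g.appLE ⊤ (up i U) (le_pre g _)).hom.Flat := g.flat_appLE (isAffineOpen_top _) hV (le_pre g _)
  obtain ⟨h1, h2⟩ := Groth.Agent.Flat2C.Thick.surjective_app_and_ker_app hl (isAffineOpen_top _) hV (le_pre g _)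
  have hred : ∀ s, red i U s = resO X (le_preimage_up i U) (i.app (up i U) s) := by
    intro s
    change (i.appLE (up i U) U _) s = (X.presheaf.map _) (i.app (up i U) s)
    rw [Scheme.Hom.appLE]
    rfl
  have hbij : Function.Bijective (resO X (le_preimage_up i U)) := by
    have : ∀ {W : X.Opens} (h : U = W) (h' : U ≤ W), Function.Bijective (resO X h') := by
      rintro W rfl h'
      have : (resO X h' : Γ(X, U) → Γ(X, U)) = id := funext fun s => resO_self h' s
      rw [this]
      exact Function.bijective_id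
    exact this (preimage_up i U).symm _
  have key : (Scheme.ΓSpecIso (CommRingCat.of (W2 p k))).inv ≫ g.appLE ⊤ (up i U) (le_pre g _) ≫
      i.appLE (up i U) U (le_preimage_up i U) =
      CommRingCat.ofHom (FrobAlg.res p k) ≫ (Scheme.ΓSpecIso (CommRingCat.of k)).inv ≫ f.appLE ⊤ U (le_pre f U) := by
    have e0 : (i ≫ g).appLE ⊤ U (le_pre _ U) = (f ≫ spW p k).appLE ⊤ U (le_pre _ U) := by
      congr 1
      exact hl.w
    have e1 : g.appLE ⊤ (up i U) (le_pre g _) ≫ i.appLE (up i U) U (le_preimage_up i U) =
        (i ≫ g).appLE ⊤ U (le_pre _ U) := Scheme.Hom.appLE_comp_appLE _ _ _ _ _ _ _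
    have e2 : (f ≫ spW p k).appLE ⊤ U (le_pre _ U) = (spW p k).appTop ≫ f.appLE ⊤ U (le_pre f U) :=
      Scheme.Hom.comp_appLE _ _ _ _ _
    rw [e1, e0, e2, ← Category.assoc, ← Category.assoc]
    congr 1
    exact (Scheme.ΓSpecIso_inv_naturality (CommRingCat.ofHom (FrobAlg.res p k))).symm
  have hcomm : ∀ w : W2 p k, red i U (str g (up i U) w) = str f U (FrobAlg.res p k w) := fun w =>
    congr($(key).hom w)
  refine ⟨?_, ?_, ?_, ?_⟩
  · have : str g (up i U) = (g.appLE ⊤ (up i U) (le_pre g _)).hom.comp (Scheme.ΓSpecIso (CommRingCat.of (W2 p k))).inv.hom := rfl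
    rw [this]
    refine RingHom.Flat.comp ?_ hflat
    exact RingHom.Flat.of_bijective (ConcreteCategory.bijective_of_isIso (Scheme.ΓSpecIso (CommRingCat.of (W2 p k))).inv)
  · intro b
    obtain ⟨b', rfl⟩ := hbij.2 b
    obtain ⟨s, rfl⟩ := h1 b'
    exact ⟨s, hred s⟩
  · ext s
    rw [RingHom.mem_ker, hred]
    have e3 : resO X (le_preimage_up i U) (i.app (up i U) s) = 0 ↔ s ∈ RingHom.ker (i.app (up i U)).hom := by
      rw [RingHom.mem_ker]
      constructor
      · intro h
        exact hbij.1 (h.trans (map_zero _).symm)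
      · intro h
        have h' : (i.app (up i U)) s = 0 := h
        rw [h', map_zero]
    rw [e3, h2]
    have e4 : (RingHom.ker ((spW p k).app ⊤).hom) =
        (RingHom.ker (FrobAlg.res p k)).map (Scheme.ΓSpecIso (CommRingCat.of (W2 p k))).inv.hom := by
      have e5 : ∀ w : W2 p k, (spW p k).app ⊤ ((Scheme.ΓSpecIso (CommRingCat.of (W2 p k))).inv w) =
          (Scheme.ΓSpecIso (CommRingCat.of k)).inv (FrobAlg.res p k w) := fun w =>
        congr($(Scheme.ΓSpecIso_inv_naturality (CommRingCat.ofHom (FrobAlg.res p k))).hom w).symm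
      have e6 : Function.Bijective (Scheme.ΓSpecIso (CommRingCat.of (W2 p k))).inv :=
        ConcreteCategory.bijective_of_isIso _
      have e7 : Function.Bijective (Scheme.ΓSpecIso (CommRingCat.of k)).inv :=
        ConcreteCategory.bijective_of_isIso _
      apply le_antisymm
      · intro y hy
        obtain ⟨w, rfl⟩ := e6.2 y
        apply Ideal.mem_map_of_mem
        have h3 : (spW p k).app ⊤ ((Scheme.ΓSpecIso (CommRingCat.of (W2 p k))).inv w) = 0 := hy
        rw [e5] at h3
        exact e7.1 (h3.trans (map_zero _).symm)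
      · rw [Ideal.map_le_iff_le_comap]
        intro w hw
        have h3 : FrobAlg.res p k w = 0 := hw
        change (spW p k).app ⊤ ((Scheme.ΓSpecIso (CommRingCat.of (W2 p k))).inv w) = 0
        rw [e5, h3, map_zero]
        rfl
    rw [e4, Ideal.map_map]
    rfl
  · ext1 w
    exact hcomm w

end lift

end K904.GeoUp
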