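import Groth.Agent.DelIll.K904.Iso

/-!
# Ring homomorphisms of exterior algebras induced by semilinear maps
-/

set_option autoImplicit false
set_option linter.unusedSectionVars false
set_option linter.style.haveILetI false

open Module ExteriorAlgebra

namespace K904.Semi

variable {A B M N : Type*} [CommRing A] [CommRing B] [AddCommGroup M] [Module A M] [AddCommGroup N] [Module B N]

/-- The ring homomorphism `Λ_A M → Λ_B N` induced by a `ρ`-semilinear map `f`. -/
noncomputable def extR (ρ : A →+* B) (f : M →+ N) (hf : ∀ (a : A) (m : M), f (a • m) = ρ a • f m) :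
    ExteriorAlgebra A M →+* ExteriorAlgebra B N :=
  letI : Algebra A B := ρ.toAlgebra
  letI : Module A N := Module.compHom N ρ
  haveI : IsScalarTower A B N := ⟨fun a b n => by
    rw [Algebra.smul_def, mul_smul]; rfl⟩
  (Iso.jL (A := A) (B := B) (V := M) (L := N) ⟨⟨f, map_add f⟩, hf⟩).toRingHom

variable (ρ : A →+* B) (f : M →+ N) (hf : ∀ (a : A) (m : M), f (a • m) = ρ a • f m)

@[simp]
theorem extR_ι (m : M) : extR ρ f hf (ι A m) = ι B (f m) := by
  letI : Algebra A B := ρ.toAlgebra
  letI : Module A N := Module.compHom N ρ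
  haveI : IsScalarTower A B N := ⟨fun a b n => by
    rw [Algebra.smul_def, mul_smul]; rfl⟩
  exact Iso.jL_ι (A := A) (B := B) (V := M) (L := N) ⟨⟨f, map_add f⟩, hf⟩ m

theorem extR_ιMulti {n : ℕ} (v : Fin n → M) : extR ρ f hf (ιMulti A n v) = ιMulti B n (fun i => f (v i)) := by
  letI : Algebra A B := ρ.toAlgebra
  letI : Module A N := Module.compHom N ρ
  haveI : IsScalarTower A B N := ⟨fun a b n => by
    rw [Algebra.smul_def, mul_smul]; rfl⟩
  exact Iso.jL_ιMulti (A := A) (B := B) (V := M) (L := N) ⟨⟨f, map_add f⟩, hf⟩ v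

@[simp]
theorem extR_algebraMap (a : A) : extR ρ f hf (algebraMap A _ a) = algebraMap B _ (ρ a) := by
  letI : Algebra A B := ρ.toAlgebra
  letI : Module A N := Module.compHom N ρ
  haveI : IsScalarTower A B N := ⟨fun a b n => by
    rw [Algebra.smul_def, mul_smul]; rfl⟩
  refine ((Iso.jL (A := A) (B := B) (V := M) (L := N) ⟨⟨f, map_add f⟩, hf⟩).commutes a).trans ?_
  exact IsScalarTower.algebraMap_apply A B (ExteriorAlgebra B N) a

theorem extR_smul (a : A) (x : ExteriorAlgebra A M) : extR ρ f hf (a • x) = ρ a • extR ρ f hf x := by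
  rw [Algebra.smul_def, map_mul, extR_algebraMap, ← Algebra.smul_def]

/-- Ring homomorphisms out of an exterior algebra. -/
theorem ringHom_ext {R : Type*} [Ring R] {g h : ExteriorAlgebra A M →+* R}
    (h1 : ∀ a : A, g (algebraMap A _ a) = h (algebraMap A _ a)) (h2 : ∀ m : M, g (ι A m) = h (ι A m)) : g = h := by
  ext x
  induction x using ExteriorAlgebra.induction with
  | algebraMap r => exact h1 r
  | ι x => exact h2 x
  | mul a b ha hb => rw [map_mul, map_mul, ha, hb]
  | add a b ha hb => rw [map_add, map_add, ha, hb]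

theorem extR_mem (n : ℕ) (x : ExteriorAlgebra A M) (hx : x ∈ ⋀[A]^n M) : extR ρ f hf x ∈ ⋀[B]^n N := by
  rw [← ιMulti_span_fixedDegree] at hx
  induction hx using Submodule.span_induction with
  | mem y hy =>
    obtain ⟨v, rfl⟩ := hy
    rw [extR_ιMulti]
    exact ιMulti_range B n ⟨_, rfl⟩
  | zero => rw [map_zero]; exact Submodule.zero_mem _
  | add x y _ _ hx hy => rw [map_add]; exact Submodule.add_mem _ hx hy
  | smul a x _ hx => rw [extR_smul]; exact Submodule.smul_mem _ _ hx

end K904.Semi
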