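import Groth.Agent.DelIll.K904.EtLift
import Groth.Agent.FrobAlg.K674.Ghost
import Mathlib.Algebra.MvPolynomial.PDeriv
import Mathlib.RingTheory.Derivation.Basic
import Mathlib.Algebra.MvPolynomial.CommRing
import Mathlib.Algebra.MvPolynomial.NoZeroDivisors

/-!
# Witt vectors of length two: components of sums and products; the carry polynomial and derivations
-/

set_option autoImplicit false
set_option linter.unusedSectionVars false
set_option linter.style.haveILetI false

open FrobAlg K673.W2Basic K674.Ghost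

namespace K904.Witt

universe u v

section coeff

variable {p : ℕ} [Fact p.Prime] {A : Type u} [CommRing A]

/-- The Teichmüller representative. -/
noncomputable def tau (a : A) : W2 p A := WittVector.truncate 2 (WittVector.teichmuller p a)

theorem tau_zero (a : A) : (tau (p := p) a).coeff 0 = a := by
  rw [tau, WittVector.coeff_truncate]
  exact WittVector.teichmuller_coeff_zero p a

theorem tau_one (a : A) : (tau (p := p) a).coeff 1 = 0 := by
  rw [tau, WittVector.coeff_truncate]
  exact WittVector.teichmuller_coeff_pos p a 1 one_pos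

theorem tau_mul (a b : A) : tau (p := p) (a * b) = tau a * tau b := by
  rw [tau, tau, tau, map_mul, map_mul]

/-- The vector `(0, a)`. -/
def vv (a : A) : W2 p A := TruncatedWittVector.mk p ![0, a]

theorem vv_zero (a : A) : (vv (p := p) a).coeff 0 = 0 := rfl

theorem vv_one (a : A) : (vv (p := p) a).coeff 1 = a := rfl

theorem eq_tau_add_vv (x : W2 p A) : x = tau (x.coeff 0) + vv (x.coeff 1) := by
  refine ext2 ?_ ?_
  · rw [coeff_zero_add, tau_zero, vv_zero, add_zero]
  · rw [coeff_one_add_of_disjoint _ _ (tau_one _) (vv_zero _), vv_one]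

/-- The carry. -/
noncomputable def carry (p : ℕ) [Fact p.Prime] (a b : A) : A := (tau (p := p) a + tau b).coeff 1

theorem coeff_one_add' (x y : W2 p A) :
    (x + y).coeff 1 = x.coeff 1 + y.coeff 1 + carry p (x.coeff 0) (y.coeff 0) := by
  have h : x + y = tau (x.coeff 0 + y.coeff 0) +
      (vv (carry p (x.coeff 0) (y.coeff 0)) + (vv (x.coeff 1) + vv (y.coeff 1))) := by
    have h1 := eq_tau_add_vv (tau (p := p) (x.coeff 0) + tau (y.coeff 0))
    rw [coeff_zero_add, tau_zero, tau_zero] at h1
    conv_lhs => rw [eq_tau_add_vv x, eq_tau_add_vv y]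
    rw [← add_assoc (tau _) (vv (carry _ _ _)), carry, ← h1]
    abel
  rw [h, coeff_one_add_of_disjoint _ _ (tau_one _)]
  · rw [K674.Ghost.coeff_one_add _ _ (vv_zero _), K674.Ghost.coeff_one_add _ _ (vv_zero _) (vv_zero _), vv_one, vv_one,
      vv_one, add_comm]
    rw [coeff_zero_add, vv_zero, vv_zero, add_zero]
  · rw [coeff_zero_add, coeff_zero_add, vv_zero, vv_zero, vv_zero, add_zero, add_zero]

theorem coeff_one_mul' [CharP A p] (x y : W2 p A) :
    (x * y).coeff 1 = x.coeff 0 ^ p * y.coeff 1 + y.coeff 0 ^ p * x.coeff 1 := by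
  have h : x * y = tau (x.coeff 0 * y.coeff 0) + (tau (x.coeff 0) * vv (y.coeff 1) + y * vv (x.coeff 1)) := by
    rw [tau_mul]
    conv_lhs => rw [eq_tau_add_vv x, add_mul, mul_comm (vv _) y]
    conv_lhs => enter [1]; rw [eq_tau_add_vv y, mul_add]
    rw [add_assoc]
  have h1 : (tau (p := p) (x.coeff 0) * vv (y.coeff 1)).coeff 0 = 0 := by
    rw [coeff_zero_mul, vv_zero, mul_zero]
  have h2 : (y * vv (p := p) (x.coeff 1)).coeff 0 = 0 := by
    rw [coeff_zero_mul, vv_zero, mul_zero]
  rw [h, coeff_one_add_of_disjoint _ _ (tau_one _), K674.Ghost.coeff_one_add _ _ h1 h2,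
    K674.Ghost.coeff_one_mul _ _ (vv_zero _), K674.Ghost.coeff_one_mul _ _ (vv_zero _), vv_one, vv_one, tau_zero]
  rw [coeff_zero_add, h1, h2, add_zero]

theorem carry_map {A' : Type v} [CommRing A'] (f : A →+* A') (a b : A) : f (carry p a b) = carry p (f a) (f b) := by
  have h : ∀ a : A, WittGrp.truncMap p 2 f (tau a) = tau (f a) := by
    intro a
    rw [tau, tau, WittGrp.truncMap_truncate]
    congr 1
    exact WittVector.map_teichmuller p f a
  rw [carry, carry, ← h, ← h, ← map_add, WittGrp.coeff_truncMap]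

theorem carry_rel (a b : A) : (p : A) * carry p a b = a ^ p + b ^ p - (a + b) ^ p := by
  have h : ∀ w : WittVector p A, WittVector.ghostComponent 1 w = w.coeff 0 ^ p + p * w.coeff 1 := by
    intro w
    rw [WittVector.ghostComponent_apply, wittPolynomial_one]
    simp [MvPolynomial.aeval_X]
    ring
  have h1 := h (WittVector.teichmuller p a + WittVector.teichmuller p b)
  rw [map_add, WittVector.ghostComponent_teichmuller, WittVector.ghostComponent_teichmuller, pow_one] at h1
  have h2 : (WittVector.teichmuller p a + WittVector.teichmuller p b).coeff 0 = a + b := by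
    rw [WittVector.add_coeff_zero, WittVector.teichmuller_coeff_zero, WittVector.teichmuller_coeff_zero]
  have h3 : (WittVector.teichmuller p a + WittVector.teichmuller p b).coeff 1 = carry p a b := by
    rw [carry, tau, tau, ← map_add (WittVector.truncate (p := p) (R := A) 2), WittVector.coeff_truncate]
    rfl
  rw [h2, h3] at h1
  rw [h1]
  ring

end coeff

section deriv

variable (p : ℕ) [Fact p.Prime] {A : Type u} [CommRing A] {L : Type v} [AddCommGroup L] [Module A L]

open MvPolynomial

theorem pderiv_carry (i : Fin 2) :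
    pderiv i (carry p (X 0 : MvPolynomial (Fin 2) ℤ) (X 1)) =
      X i ^ (p - 1) - (X 0 + X 1) ^ (p - 1) := by
  have hp : (p : MvPolynomial (Fin 2) ℤ) ≠ 0 := by
    have : (p : MvPolynomial (Fin 2) ℤ) = C (p : ℤ) := (map_natCast _ _).symm
    rw [this, Ne, ← map_zero C, MvPolynomial.C_inj]
    exact_mod_cast (Fact.out : p.Prime).ne_zero
  apply mul_left_cancel₀ hp
  have h1 : (p : MvPolynomial (Fin 2) ℤ) * pderiv i (carry p (X 0 : MvPolynomial (Fin 2) ℤ) (X 1)) =
      pderiv i ((p : MvPolynomial (Fin 2) ℤ) * carry p (X 0 : MvPolynomial (Fin 2) ℤ) (X 1)) := by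
    rw [← nsmul_eq_mul, ← nsmul_eq_mul, map_nsmul]
  rw [h1, carry_rel, map_sub, map_add, Derivation.leibniz_pow, Derivation.leibniz_pow, Derivation.leibniz_pow,
    map_add]
  fin_cases i <;> simp [pderiv_X, mul_sub]

/-- The derivative of the carry. -/
theorem deriv_carry (D : A →+ L) (hD : ∀ b c, D (b * c) = b • D c + c • D b) (a b : A) :
    D (carry p a b) = a ^ (p - 1) • D a + b ^ (p - 1) • D b - (a + b) ^ (p - 1) • (D a + D b) := by
  let φ : MvPolynomial (Fin 2) ℤ →+* A := (aeval (R := ℤ) ![a, b]).toRingHom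
  have hφ0 : φ (X 0) = a := by simp [φ]
  have hφ1 : φ (X 1) = b := by simp [φ]
  letI : Module (MvPolynomial (Fin 2) ℤ) L := Module.compHom L φ
  have hsm : ∀ (f : MvPolynomial (Fin 2) ℤ) (m : L), f • m = φ f • m := fun _ _ => rfl
  have hone : D 1 = 0 := by
    have := hD 1 1
    simpa using this
  let D' : Derivation ℤ (MvPolynomial (Fin 2) ℤ) L :=
    { toFun := fun f => D (φ f)
      map_add' := fun f g => by rw [map_add, map_add]
      map_smul' := fun n f => by rw [map_zsmul, map_zsmul]; rfl
      map_one_eq_zero' := by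
        change D (φ 1) = 0
        rw [map_one, hone]
      leibniz' := fun f g => by
        change D (φ (f * g)) = f • D (φ g) + g • D (φ f)
        rw [map_mul, hD]
        rfl }
  let D'' : Derivation ℤ (MvPolynomial (Fin 2) ℤ) L :=
    (LinearMap.toSpanSingleton (MvPolynomial (Fin 2) ℤ) L (D a)).compDer (pderiv 0) +
      (LinearMap.toSpanSingleton (MvPolynomial (Fin 2) ℤ) L (D b)).compDer (pderiv 1)
  have hDD : D' = D'' := by
    refine MvPolynomial.derivation_ext fun i => ?_
    fin_cases i
    · change D (φ (X 0)) = (pderiv 0 (X 0 : MvPolynomial (Fin 2) ℤ)) • D a + (pderiv 1 (X 0 : MvPolynomial (Fin 2) ℤ)) • D b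
      rw [hφ0, pderiv_X_self, pderiv_X_of_ne (by decide), one_smul, zero_smul, add_zero]
    · change D (φ (X 1)) = (pderiv 0 (X 1 : MvPolynomial (Fin 2) ℤ)) • D a + (pderiv 1 (X 1 : MvPolynomial (Fin 2) ℤ)) • D b
      rw [hφ1, pderiv_X_self, pderiv_X_of_ne (by decide), one_smul, zero_smul, zero_add]
  have h1 := congr($hDD (carry p (X 0 : MvPolynomial (Fin 2) ℤ) (X 1)))
  change D (φ (carry p (X 0 : MvPolynomial (Fin 2) ℤ) (X 1))) =
    (pderiv 0 (carry p (X 0 : MvPolynomial (Fin 2) ℤ) (X 1))) • D a +
      (pderiv 1 (carry p (X 0 : MvPolynomial (Fin 2) ℤ) (X 1))) • D b at h1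
  rw [carry_map, hφ0, hφ1, pderiv_carry, pderiv_carry, hsm, hsm, map_sub, map_sub, map_pow, map_pow, map_pow, map_add,
    hφ0, hφ1] at h1
  rw [h1, sub_smul, sub_smul, smul_add]
  abel

end deriv

end K904.Witt
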