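import Groth.Agent.DelIll.K904.LatU

/-!
# The dimension inequality for the total complex, one component, no twist
-/

set_option autoImplicit false

universe u

open CategoryTheory CategoryTheory.Limits AlgebraicGeometry Opposite TopologicalSpace
open Groth.Agent.Sga67.Sec Groth.Agent.Sga67.LocBasis Groth.Agent.Sga67.ExtSheaf
open Groth.Agent.Fga.MumCech
open K912.Alt K912.Twist K912.Frame K912.LatCmp K912.Asm K912.Seq K912.Stair K912.Num K912.Dim K912.Cx

namespace K904.LatHyp

attribute [local instance] algV modS modP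

open K904.LatU

variable {p : ℕ} {k : Type u} [Field k] {X : Scheme.{u}} [X.Over (Spec (CommRingCat.of k))]
  {E : X.Modules} {n : ℕ} (G : Geo p k X E n)

/-- The trivial divisor of poles. -/
noncomputable def triv : Pole G where
  x _ := 1
  x_mem s _ _ := (G.As s).one_mem
  x_div s _ _ _ _ := by
    rw [Units.val_one, one_mul]
    rw [inv_one, Units.val_one]
    exact (G.As s).one_mem

theorem triv_Ps (s : Set G.ι) (i : G.ι) : (triv G).Ps s i = Subalgebra.toSubmodule (G.As s) := by
  ext r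
  rw [Pole.mem_Ps]
  change (1 : G.R) * r ∈ G.As s ↔ r ∈ G.As s
  rw [one_mul]

variable {G} {La : ℕ → X.Modules} (φ : ∀ a, Phi a E (La a)) (hφ : ∀ a, PhiComp (φ a))

variable (G) in
/-- The system of lattices of the modules `La a`. -/
noncomputable def latU (a : ℕ) : Set G.ι → Submodule k (Unit → ExteriorAlgebra G.R G.L) :=
  Nl k (fun i => (G.U i).1) G.le (La a) (phu (φ a) G.V₀ k)

include hφ in
theorem mem_latU (a : ℕ) {s : Set G.ι} (hs : s.Nonempty)
    (y : Unit → ExteriorAlgebra G.R G.L) : y ∈ latU G φ a s ↔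
      y () ∈ lat (Subalgebra.toSubmodule (G.As s)) (G.Ns s) a := by
  obtain ⟨i, hi⟩ := hs
  exact mem_Nl (φ a) G.V₀ k (hφ a) G.U G.le hi (G.aff s ⟨i, hi⟩) (G.hb i) y

theorem latU_empty (a : ℕ) : latU G φ a ∅ = ⊥ := Nl_empty _ _ _ _ _

theorem latU_mono (a : ℕ) : Monotone (latU G φ a) := Nl_mono _ _ _ _ _

include hφ in
/-- The local structures. -/
theorem nonempty_loc (hC : Cartier (triv G)) {s : Set G.ι} (hs : s.Nonempty) :
    Nonempty (Loc (k := k) G.D G.F (sysZ (latU G φ)) (sysZ (latU G φ)) s) := by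
  obtain ⟨i, hi⟩ := hs
  have hmem : ∀ (C : Matrix Unit Unit G.R) (_ : C = 1) (a : ℤ) (x : Unit → ExteriorAlgebra G.R G.L),
      x ∈ sysZ (latU G φ) a s ↔ ∃ y : Unit → ExteriorAlgebra G.R G.L,
        (∀ j, y j ∈ latZ (Subalgebra.toSubmodule (G.As s)) (G.Ns s) a) ∧ act C y = x := by
    rintro C rfl a x
    have h1 : x ∈ sysZ (latU G φ) a s ↔ x () ∈ latZ (Subalgebra.toSubmodule (G.As s)) (G.Ns s) a := by
      cases a with
      | ofNat a => exact mem_latU φ hφ a ⟨i, hi⟩ x
      | negSucc a =>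
        constructor
        · intro hx
          have hx' : x = 0 := hx
          rw [hx']
          exact Submodule.zero_mem _
        · intro hx
          have hx' : x () = 0 := hx
          have : x = 0 := funext fun _ => hx'
          rw [this]
          exact Submodule.zero_mem _
    rw [h1]
    constructor
    · intro h
      exact ⟨x, fun _ => h, act_one x⟩
    · rintro ⟨y, hy, rfl⟩
      rw [act_one]
      exact hy ()
  refine ⟨⟨G.As s, G.Ns s, (triv G).Ps s i, 1, 1, one_mul _, one_mul _, (triv G).le_Ps hi, G.f_mem s,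
    G.h_mem s, hmem 1 rfl, ?_, hC.d_mem s i hi, ?_, ?_⟩⟩
  · intro a x
    rw [triv_Ps]
    refine hmem _ ?_ a x
    ext i j
    cases i
    cases j
    change (1 : Matrix Unit Unit G.R) () () ^ p = (1 : Matrix Unit Unit G.R) () ()
    rw [Matrix.one_apply_eq, one_pow]
  · intro a ha i' hi' y hy hdy
    rw [(triv G).Ps_eq hi hi'] at hy ⊢
    exact hC.surj s i' hi' a ha y hy hdy
  · intro a ha i' hi' g hg z hz h
    rw [(triv G).Ps_eq hi hi'] at hz
    exact hC.inj s i' hi' a ha g hg z hz h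

section Main

variable [Fact p.Prime]

include hφ in
/-- The hypotheses of the staircase argument. -/
theorem hyp (hk : ∀ t : k, ∃ u : k, u ^ p = t) (hC : Cartier (triv G)) :
    haveI := G.charP
    Hyp (dJ G.D hk).toAddMonoidHom (sysZ (latU G φ)) (sysZ (latU G φ)) (ψJ (J := Unit) G.D) := by
  have := G.charP
  exact K912.Twist.hyp (F := G.F) G.D hk (sysZ_mono (latU_mono φ)) (sysZ_mono (latU_mono φ))
    (sysZ_empty (latU_empty φ)) (sysZ_empty (latU_empty φ))
    (fun s hs => nonempty_loc φ hφ hC hs)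

include hφ in
theorem surj [CharP k p] (hk : ∀ t : k, ∃ u : k, u ^ p = t) (hC : Cartier (triv G)) (a : ℤ)
    (ha : a < p ∨ ∀ s, sysZ (latU G φ) a s = ⊥) :
    haveI := G.charP
    Surj (dJ G.D hk).toAddMonoidHom (sysZ (latU G φ)) (sysZ (latU G φ)) (ψJ (J := Unit) G.D) a := by
  have := G.charP
  rcases ha with ha | ha
  · exact K912.Twist.surj (F := G.F) G.D hk G.hF G.hFι (fun s hs => nonempty_loc φ hφ hC hs) a ha
  · intro s _ i _ x hx _
    rw [ha s] at hx
    have hx0 : x = 0 := hx
    refine ⟨0, Submodule.zero_mem _, 0, Submodule.zero_mem _, ?_⟩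
    rw [hx0, map_zero, map_zero]
    exact (add_zero _).symm

include hφ in
theorem inj [CharP k p] (hk : ∀ t : k, ∃ u : k, u ^ p = t) (hC : Cartier (triv G)) (a : ℤ)
    (ha : a < p ∨ ∀ s, sysZ (latU G φ) a s = ⊥) :
    haveI := G.charP
    Inj (dJ G.D hk).toAddMonoidHom (sysZ (latU G φ)) (sysZ (latU G φ)) (ψJ (J := Unit) G.D) a := by
  have := G.charP
  rcases ha with ha | ha
  · exact K912.Twist.inj (F := G.F) G.D hk G.hF G.hFι (fun s hs => nonempty_loc φ hφ hC hs) a ha
  · intro s _ i _ g hg _ _ _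
    rw [ha s] at hg
    exact hg

omit [Fact p.Prime] in
theorem rho_injective (G : Geo p k X E n) (φ : ∀ a, Phi a E (La a)) (hφ : ∀ a, PhiComp (φ a)) (a : ℕ) (q : ℕ)
    (i : Fin (q + 1) → G.ι) :
    Function.Injective (rho k (La a) (phu (φ a) G.V₀ k) (le_iInf_U (fun i => (G.U i).1) G.le i)) := by
  have h1 := G.aff (Set.range i) (Set.range_nonempty i)
  have h3 := G.inj (Set.range i) (Set.range_nonempty i)
  have h2 : Us (fun i => (G.U i).1) (Set.range i) = ⨅ j, (G.U (i j)).1 := by
    rw [Us, iInf_range]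
  have haff : IsAffineOpen (⨅ j, (G.U (i j)).1) := by
    rwa [h2] at h1
  have hρ : Function.Injective (resO X (le_iInf_U (fun i => (G.U i).1) G.le i)) := by
    have key : ∀ (V : X.Opens) (hV : G.V₀.1 ≤ V), V = ⨅ j, (G.U (i j)).1 →
        Function.Injective (resO X hV) →
        Function.Injective (resO X (le_iInf_U (fun i => (G.U i).1) G.le i)) := by
      rintro _ hV rfl h
      exact h
    exact key _ _ h2 h3
  exact rho_phu_injective (φ a) G.V₀ k (U := G.U (i 0))
    (V := ⟨_, haff⟩) (iInf_le (fun j => (G.U (i j)).1) 0) (le_iInf_U (fun i => (G.U i).1) G.le i) hρ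
    (hφ a) (G.hb (i 0))

include hφ in
/-- **The dimension inequality for the total complex.** -/
theorem sum_le [CharP k p] (hk : ∀ t : k, ∃ u : k, u ^ p = t) (hC : Cartier (triv G)) (m : ℕ)
    (hm : ∀ a : ℕ, a ≤ m → a < p ∨ ∀ s, latU G φ a s = ⊥)
    (hfin : ∀ a ≤ m, Module.Finite k (Hc (latU G φ a) (m - a))) :
    ∑ a ∈ Finset.range (m + 1), Module.finrank k (Hc (latU G φ a) (m - a)) ≤
      Module.finrank k (Ht (dJ G.D hk) (sysZ (latU G φ)) m) := by
  have := G.charP
  have hm' : ∀ a : ℤ, a ≤ m → a < p ∨ ∀ s, sysZ (latU G φ) a s = ⊥ := by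
    intro a ha
    cases a with
    | ofNat a =>
      have h1 : (Int.ofNat a) = (a : ℤ) := rfl
      rw [h1] at ha ⊢
      rcases hm a (by omega) with h | h
      · left
        omega
      · right
        exact h
    | negSucc a =>
      left
      have : Int.negSucc a < 0 := Int.negSucc_lt_zero a
      omega
  exact (sum_finrank_le_Ht (hyp φ hφ hk hC) (Fact.out (p := p.Prime)).ne_zero hk
    (fun t g => ψJ_smul G.D t g) m (fun a ha => surj φ hφ hk hC a (hm' a ha))
    (fun a ha => inj φ hφ hk hC a (hm' a ha)) hfin).2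

include hφ in
theorem finite_Ht (hk : ∀ t : k, ∃ u : k, u ^ p = t) (hC : Cartier (triv G)) (m : ℕ)
    (hfin : ∀ a ≤ m, Module.Finite k (Hc (latU G φ a) (m - a))) :
    Module.Finite k (Ht (dJ G.D hk) (sysZ (latU G φ)) m) := by
  have := G.charP
  have h2 := hyp φ hφ hk hC
  exact (finrank_Ht_le (dJ G.D hk) h2.sysK h2.dd m hfin).1

end Main

end K904.LatHyp
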