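import Groth.Agent.DelIll.K904.GeoFm
import Groth.Agent.S2278
import Groth.Agent.S2258
import Groth.Agent.Ega1.LocNoethNhd
import Groth.Agent.Dix.NormalLoc
import Groth.Agent.Etcore.SmoothRed

/-!
# Existence of the geometric data over the components of a smooth proper scheme with a lift
-/

set_option autoImplicit false
set_option linter.unusedSectionVars false
set_option linter.style.haveILetI false

universe u

open CategoryTheory CategoryTheory.Limits AlgebraicGeometry Opposite TopologicalSpace
open Groth.Agent.Sga67.Sec Groth.Agent.Sga67.LocBasis FrobAlg K673.W2Basic K673.Lift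

namespace K904.FmExists

section top

theorem eq_closure_of_open {X : Type*} [TopologicalSpace X] {O Z : Set X} (hO : IsOpen O) (hOp : IsPreirreducible O)
    (hZ : Z ∈ irreducibleComponents X) (hne : (Z ∩ O).Nonempty) : Z = closure O := by
  have h1 : Z ⊆ closure O :=
    (subset_closure_inter_of_isPreirreducible_of_isOpen hZ.1.isPreirreducible hO hne).trans
      (closure_mono Set.inter_subset_right)
  have h2 : IsIrreducible (closure O) := ⟨hne.right.closure, hOp.closure⟩
  exact le_antisymm h1 (hZ.2 h2 h1)

/-- The irreducible components of a smooth scheme over a field are open and disjoint. -/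
theorem components {k : Type u} [Field k] {X : Scheme.{u}} (f : X ⟶ Spec (CommRingCat.of k)) [Smooth f] :
    (irreducibleComponents X).PairwiseDisjoint id ∧ ∀ Z ∈ irreducibleComponents X, IsOpen Z := by
  haveI : IsLocallyNoetherian X := LocallyOfFiniteType.isLocallyNoetherian f
  have hirr : ∀ x : X, ∃ O : X.Opens, x ∈ O ∧ IsIrreducible (O : Set X) := by
    intro x
    haveI := (Groth.Agent.Dix.NormalLoc.stalk_of_smooth f x).1
    refine Groth.Agent.S2258.result X x ?_
    rw [nilradical_eq_zero]
    exact Ideal.isPrime_bot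
  have h4 : (irreducibleComponents X).PairwiseDisjoint id := by
    intro Z hZ Z' hZ' hne
    rw [Function.onFun, Set.disjoint_iff_inter_eq_empty]
    by_contra h
    obtain ⟨x, hx, hx'⟩ := Set.nonempty_iff_ne_empty.2 h
    obtain ⟨O, hxO, hO⟩ := hirr x
    exact hne ((eq_closure_of_open O.2 hO.2 hZ ⟨x, hx, hxO⟩).trans (eq_closure_of_open O.2 hO.2 hZ' ⟨x, hx', hxO⟩).symm)
  have hN : ∀ x : X, ∃ U ∈ nhds x, TopologicalSpace.NoetherianSpace U := by
    intro x
    obtain ⟨_, ⟨V : X.Opens, hV, rfl⟩, hxV, -⟩ :=
      X.isBasis_affineOpens.exists_subset_of_mem_open (Set.mem_univ x) isOpen_univ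
    refine ⟨V, V.2.mem_nhds hxV, ?_⟩
    haveI := IsLocallyNoetherian.component_noetherian ⟨V, hV⟩
    exact noetherianSpace_of_isAffineOpen V hV
  exact ⟨h4, ((Groth.Agent.S2278.result X hN).out 3 0).1 h4⟩

end top

section main

open _root_.K904.GeoUp _root_.K904.GeoDt _root_.K904.GeoCh _root_.K922.DSec _root_.K904.GeoCover _root_.K904.DegCount
open K912.Fam K912.Asm

variable {p : ℕ} [Fact p.Prime] {k : Type u} [Field k] [CharP k p] [PerfectRing k p]
variable {X : Scheme.{u}} [X.Over (Spec (CommRingCat.of k))]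
variable {Xl : Scheme.{u}} {g : Xl ⟶ Spec (CommRingCat.of (W2 p k))} {i : X ⟶ Xl} [Flat g]
variable {r : ℕ} {D : Fin r → X.IdealSheafData} {Dl : Fin r → Xl.IdealSheafData}
  {Ω' : X.Modules} {d : OmegaSh.Der (X ↘ Spec (CommRingCat.of k)) Ω'}

/-- **Existence of the geometric data.** -/
theorem exists_fm [QuasiCompact (X ↘ Spec (CommRingCat.of k))] [IsSeparated (X ↘ Spec (CommRingCat.of k))]
    [Smooth (X ↘ Spec (CommRingCat.of k))]
    (hl : IsPullback i (X ↘ Spec (CommRingCat.of k)) g (spW p k)) (hd : _root_.K922.Coord.AffUniv d)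
    (hD : LogNCD.IsNCD D (X ↘ Spec (CommRingCat.of k))) (hDl : ∀ j, (Dl j).comap i = D j)
    (hDlf : ∀ j, Flat ((Dl j).subschemeι ≫ g)) (Λ : LogNCD.LogMod d D) : Nonempty (Fm p k Λ) := by
  haveI : IsClosedImmersion i := isClosedImmersion hl
  haveI : Surjective i := GeoUp.surjective hl
  haveI : CompactSpace X := QuasiCompact.compactSpace_of_compactSpace (X ↘ Spec (CommRingCat.of k))
  haveI : X.IsSeparated := ⟨by
    rw [← terminal.comp_from (X ↘ Spec (CommRingCat.of k))]
    infer_instance⟩
  haveI : IsLocallyNoetherian X := LocallyOfFiniteType.isLocallyNoetherian (X ↘ Spec (CommRingCat.of k))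
  haveI : IsNoetherian X := ⟨⟩
  haveI : IsReduced X := Groth.Agent.Etcore.SmoothRed.isReduced_of_smooth (X ↘ Spec (CommRingCat.of k))
  haveI : CharX X p := charX p k X
  obtain ⟨hdisj, hopen⟩ := components (X ↘ Spec (CommRingCat.of k))
  have hfin : (irreducibleComponents X).Finite := NoetherianSpace.finite_irreducibleComponents
  let T : irreducibleComponents X → X.Opens := fun c => ⟨c.1, hopen c.1 c.2⟩
  have hT : ∀ c : irreducibleComponents X, IsIrreducible (T c : Set X) := fun c => c.2.1
  have hC : ∀ c : irreducibleComponents X, ∃ C : GeoCovT.Cov i Dl Λ (T c), ∀ j : C.ι, True := fun c => by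
    obtain ⟨C, -⟩ := GeoCovT.exists_cov (isClosed_of_mem_irreducibleComponents c.1 c.2).isCompact (hT c) hl hd hD hDl
      (fun _ => True) (fun x _ => ⟨⊤, trivial, fun _ _ => trivial⟩)
    exact ⟨C, fun _ => trivial⟩
  choose C _ using hC
  exact ⟨{
    C := irreducibleComponents X
    fin := hfin.fintype
    n := _
    G := fun c => (C c).geo hl hDl hDlf
    finι := fun c => (C c).fin
    disj := by
      intro c c' j j' hcc
      have h1 : T c ⊓ T c' = ⊥ := by
        rw [eq_bot_iff]
        intro x hx
        have h2 := hdisj c.2 c'.2 (fun h => hcc (Subtype.ext h))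
        exact (Set.disjoint_iff.1 h2 ⟨hx.1, hx.2⟩).elim
      rw [eq_bot_iff, ← h1]
      exact inf_le_inf ((C c).le j) ((C c').le j')
    cov := by
      rw [eq_top_iff]
      intro x _
      let c : irreducibleComponents X := ⟨irreducibleComponent x, irreducibleComponent_mem_irreducibleComponents x⟩
      have hx : x ∈ T c := mem_irreducibleComponent
      rw [← (C c).sup] at hx
      obtain ⟨j, hj⟩ := Opens.mem_iSup.1 hx
      exact Opens.mem_iSup.2 ⟨⟨c, j⟩, hj⟩
    cartier := fun c => (C c).cartier hl hDl hDlf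
    le := fun c => (C c).V0_le_DC
    link := fun c => (C c).link hl hDl hDlf }⟩

end main

end K904.FmExists
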