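import Groth.Agent.DelIll.K904.LogCxB

/-!
# (LC3): base change of the logarithmic de Rham complex over affine bases
-/

set_option autoImplicit false
set_option linter.unusedSectionVars false

universe u

open CategoryTheory CategoryTheory.Limits AlgebraicGeometry Opposite TopologicalSpace exteriorPower
open Groth.Agent.Sga67.Sec Groth.Agent.Sga67.LocBasis Groth.Agent.Sga67.ExtSheaf
open Groth.Agent.Krr.H495.ExtPre Groth.Agent.Krr.H495.ExtSemi Groth.Agent.Krr.H487.LocBasisPull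
open scoped TensorProduct

namespace K904.LogCxM

open _root_.K922.DSec _root_.K922.Coord _root_.K922.Chart _root_.K922.LogBasis _root_.K852.DR _root_.K922.Univ
open _root_.K904.LogCxR _root_.K904.LogCxS _root_.K904.LogCxE _root_.K904.LogCxK _root_.K904.LogCxL _root_.K904.LogCxB
open Groth.Agent.CohqA.BCPull (toU isPushout_toU exists_bijective)

section terms

variable {X S : Scheme.{u}} [IsAffine S] {f : X ⟶ S} {Ω' : X.Modules} {d : OmegaSh.Der f Ω'} {r : ℕ}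
  {D : Fin r → X.IdealSheafData} {Λ : LogNCD.LogMod d D}

theorem isFinLocFree_term [Smooth f] (hd : AffUniv d) (hD : LogNCD.IsNCD D f)
    (K : DeRhamSh.Cx f Λ.L (LogNCD.der Λ)) (a : ℕ) : FlatMod.IsFinLocFree (K.term a) :=
  isFinLocFree_phi (isFinLocFree hd hD Λ) (kφ Λ K a) (kφ_comp Λ K a)

theorem isQCoh_term [Smooth f] (hd : AffUniv d) (hD : LogNCD.IsNCD D f)
    (K : DeRhamSh.Cx f Λ.L (LogNCD.der Λ)) (a : ℕ) : Coh.IsQCoh (K.term a) :=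
  Groth.Agent.PerfA.QCohEpi.isQCoh_of_isFinLocFree (isFinLocFree_term hd hD K a)

end terms

section main

variable {R R' : Type u} [CommRing R] [CommRing R'] [Algebra R R'] {X X' : Scheme.{u}}
  {f : X ⟶ Spec (CommRingCat.of R)} {f' : X' ⟶ Spec (CommRingCat.of R')} {g : X' ⟶ X}
  {Ω : X.Modules} {d : OmegaSh.Der f Ω} {Ω' : X'.Modules} {d' : OmegaSh.Der f' Ω'} {r : ℕ}
  {D : Fin r → X.IdealSheafData} (Λ : LogNCD.LogMod d D) (Λ' : LogNCD.LogMod d' (fun i => (D i).comap g))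

theorem bijective_of_isBaseChange (sq : IsPullback g f' f (Spec.map (CommRingCat.ofHom (algebraMap R R'))))
    {T : X.Modules} {T' : X'.Modules} (U : X.affineOpens)
    (β : Sec T U.1 →+ Sec T' (g ⁻¹ᵁ U.1))
    (hβ : letI : Algebra Γ(X, U.1) Γ(X', g ⁻¹ᵁ U.1) := (g.appLE U.1 (g ⁻¹ᵁ U.1) le_rfl).hom.toAlgebra
      letI : Module Γ(X, U.1) (Sec T' (g ⁻¹ᵁ U.1)) := Module.compHom _ (g.appLE U.1 (g ⁻¹ᵁ U.1) le_rfl).hom
      haveI : IsScalarTower Γ(X, U.1) Γ(X', g ⁻¹ᵁ U.1) (Sec T' (g ⁻¹ᵁ U.1)) :=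
        ⟨fun a b c => by rw [Algebra.smul_def, mul_smul]; rfl⟩
      ∃ k : Sec T U.1 →ₗ[Γ(X, U.1)] Sec T' (g ⁻¹ᵁ U.1), IsBaseChange Γ(X', g ⁻¹ᵁ U.1) k ∧ ∀ s, k s = β s)
    [Module R (Sec T U.1)] (hm : ∀ (a : R) (s : Sec T U.1), a • s = toU f U.1 a • s)
    (l : R' ⊗[R] Sec T U.1 →+ Sec T' (g ⁻¹ᵁ U.1))
    (hl : ∀ (a : R') (s : Sec T U.1), l (a ⊗ₜ s) = toU f' (g ⁻¹ᵁ U.1) a • β s) : Function.Bijective l := by
  let : Algebra R Γ(X, U.1) := (toU f U.1).toAlgebra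
  let : Algebra R' Γ(X', g ⁻¹ᵁ U.1) := (toU f' (g ⁻¹ᵁ U.1)).toAlgebra
  let j1 : Algebra Γ(X, U.1) Γ(X', g ⁻¹ᵁ U.1) := (g.appLE U.1 (g ⁻¹ᵁ U.1) le_rfl).hom.toAlgebra
  let : Algebra R Γ(X', g ⁻¹ᵁ U.1) := ((toU f' (g ⁻¹ᵁ U.1)).comp (algebraMap R R')).toAlgebra
  have : IsScalarTower R R' Γ(X', g ⁻¹ᵁ U.1) := IsScalarTower.of_algebraMap_eq (fun _ => rfl)
  have hpo := isPushout_toU f f' g sq U.1 U.2
  have : IsScalarTower R Γ(X, U.1) Γ(X', g ⁻¹ᵁ U.1) :=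
    IsScalarTower.of_algebraMap_eq (fun a => (congr($(hpo.w).hom a)).symm)
  have : Algebra.IsPushout R R' Γ(X, U.1) Γ(X', g ⁻¹ᵁ U.1) :=
    CommRingCat.isPushout_iff_isPushout.mp hpo.flip
  have : IsScalarTower R Γ(X, U.1) (Sec T U.1) := ⟨fun a b c => by
    rw [hm, Algebra.smul_def, mul_smul]; rfl⟩
  let j2 : Module Γ(X, U.1) (Sec T' (g ⁻¹ᵁ U.1)) := Module.compHom _ (g.appLE U.1 (g ⁻¹ᵁ U.1) le_rfl).hom
  have j3 : IsScalarTower Γ(X, U.1) Γ(X', g ⁻¹ᵁ U.1) (Sec T' (g ⁻¹ᵁ U.1)) :=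
    ⟨fun a b c => by rw [Algebra.smul_def, mul_smul]; rfl⟩
  obtain ⟨k, hk, hk'⟩ := hβ
  obtain ⟨l', hl', hl''⟩ := exists_bijective (A := R) (B := R') k hk
  have h1 : l = l' := by
    ext z
    induction z with
    | zero => rw [map_zero, map_zero]
    | add x y hx hy => rw [map_add, map_add, hx, hy]
    | tmul a s => rw [hl, hl'', hk']; rfl
  rw [h1]
  exact hl'

/-- **(LC3) Base change of the logarithmic de Rham complex.**  The maps `β a U : Γ(U, K^a) → Γ(g⁻¹U, K'^a)`. -/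
theorem exists_beta [Smooth f] (sq : IsPullback g f' f (Spec.map (CommRingCat.ofHom (algebraMap R R'))))
    (hd : OmegaSh.IsUniversal d) (hd' : OmegaSh.IsUniversal d') (hD : LogNCD.IsNCD D f)
    (K : DeRhamSh.Cx f Λ.L (LogNCD.der Λ)) (K' : DeRhamSh.Cx f' Λ'.L (LogNCD.der Λ')) :
    ∃ β : ∀ (a : ℕ) (U : X.affineOpens), Sec (K.term a) U.1 →+ Sec (K'.term a) (g ⁻¹ᵁ U.1),
      (∀ (a : ℕ) (U V : X.affineOpens) (h : V.1 ≤ U.1) (s : Sec (K.term a) U.1),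
        β a V (res _ h s) = res _ (g.preimage_mono h) (β a U s)) ∧
      (∀ (a : ℕ) (U : X.affineOpens) (x : Γ(X, U.1)) (s : Sec (K.term a) U.1),
        β a U (x • s) = (g.app U.1 x : Γ(X', g ⁻¹ᵁ U.1)) • β a U s) ∧
      (∀ (a : ℕ) (U : X.affineOpens) (s : Sec (K.term a) U.1),
        β (a + 1) U (apS (kd Λ K a) U.1 s) = apS (kd Λ' K' a) (g ⁻¹ᵁ U.1) (β a U s)) ∧
      (∀ (a : ℕ) (U : X.affineOpens) [Module R (Sec (K.term a) U.1)]
        (_ : ∀ (x : R) (s : Sec (K.term a) U.1), x • s = toU f U.1 x • s)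
        (l : R' ⊗[R] Sec (K.term a) U.1 →+ Sec (K'.term a) (g ⁻¹ᵁ U.1))
        (_ : ∀ (x : R') (s : Sec (K.term a) U.1), l (x ⊗ₜ s) = toU f' (g ⁻¹ᵁ U.1) x • β a U s),
        Function.Bijective l) := by
  have hf' : Smooth f' := MorphismProperty.of_isPullback (P := @Smooth) sq inferInstance
  have haff : IsAffineHom g := MorphismProperty.of_isPullback (P := @IsAffineHom) sq.flip inferInstance
  have hD' := K911.Ncd.isNCD_of_isPullback sq hD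
  obtain ⟨c, hc⟩ := exists_isMap Λ Λ' sq hd hd' hD
  have ha := affUniv hd
  have ha' := affUniv hd'
  refine ⟨fun a U => beta c.hom (kφ Λ K a) (kφ Λ' K' a) U ⟨g ⁻¹ᵁ U.1, U.2.preimage g⟩ le_rfl, ?_, ?_, ?_, ?_⟩
  · intro a U V h s
    exact beta_res c.hom (kφ Λ K a) (kφ Λ' K' a) (kφ_comp Λ K a) (kφ_comp Λ' K' a) U V
      ⟨g ⁻¹ᵁ U.1, U.2.preimage g⟩ ⟨g ⁻¹ᵁ V.1, V.2.preimage g⟩ le_rfl le_rfl h (g.preimage_mono h) s
  · intro a U x s
    refine (beta_smul c.hom (kφ Λ K a) (kφ Λ' K' a) U ⟨g ⁻¹ᵁ U.1, U.2.preimage g⟩ le_rfl x s).trans ?_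
    rw [Scheme.Hom.app_eq_appLE]
  · intro a U s
    exact beta_comm ha ha' hD' (isFinLocFree_term ha' hD' K' (a + 1)) (kφ_comp Λ K a) (kφ_comp Λ K (a + 1))
      (kφ_comp Λ' K' a) (kφ_comp Λ' K' (a + 1)) hc (isD_kd ha Λ K a) (isD_kd ha' Λ' K' a) U
      ⟨g ⁻¹ᵁ U.1, U.2.preimage g⟩ le_rfl s
  · intro a U _ hm l hl
    refine bijective_of_isBaseChange sq U
      (beta c.hom (kφ Λ K a) (kφ Λ' K' a) U ⟨g ⁻¹ᵁ U.1, U.2.preimage g⟩ le_rfl) ?_ hm l hl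
    exact isBaseChange_beta (U' := ⟨g ⁻¹ᵁ U.1, U.2.preimage g⟩) le_rfl c
      (Groth.Agent.PerfA.QCohEpi.isQCoh_of_isFinLocFree (isFinLocFree ha hD Λ)) (kφ Λ K a) (kφ Λ' K' a)

end main

end K904.LogCxM
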