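import Groth.Agent.DelIll.K904.LocalCartier

/-!
# The de Rham differential on the exterior algebra of logarithmic forms: rules, uniqueness, functoriality
-/

set_option autoImplicit false
set_option linter.unusedSectionVars false
set_option linter.style.haveILetI false

open Module TensorProduct ExteriorAlgebra

namespace K904.DR

open _root_.K904.LocalCartier

variable {p : ℕ} [Fact p.Prime] {B L J : Type*} [CommRing B] [CharP B p] [AddCommGroup L] [Module B L]
  [LinearOrder J] [Fintype J] {S : J → Prop} {x : J → B} {δ : B →+ L} {e : Basis J B L}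

section rules

variable (h : LogChart p S x δ e)
include h

/-- The transport of the twisted differential to `B ⊗ Λ`. -/
theorem Φ_D (pole : J → ℕ) (hpole : ∀ j, pole j < p) (hpole' : ∀ j, ¬ S j → pole j = 0) :
    letI := algCp p B
    letI := modCp p B L
    haveI : IsScalarTower (Cp B) B L := ⟨fun a b v => by
      rw [algCp_smul, mul_smul]; rfl⟩
    ∀ y, Iso.Φ (eCp e) e (Cartier.D (bas p h.pbasis) (eCp e) (model p B S pole) y) =
      db δ e pole (Iso.Φ (eCp e) e y) := by
  letI := algCp p B
  letI := modCp p B L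
  haveI : IsScalarTower (Cp B) B L := ⟨fun a b v => by
    rw [algCp_smul, mul_smul]; rfl⟩
  set bs := bas p h.pbasis with hbs
  set e' := eCp e with he'
  set m := model p B S pole with hm
  intro y
  rw [Cartier.D]
  refine (Iso.Φ_dd e e' (fun j => Slot.slot bs j (m j).θ) y).trans ?_
  rw [db_apply, d, Iso.dd_apply, Iso.dd_apply, ← Finset.sum_sub_distrib]
  refine Finset.sum_congr rfl fun j _ => ?_
  have hT : (Slot.slot bs j (m j).θ).toAddMonoidHom = θ δ e j - (AddMonoidHom.mulLeft (pole j : B)) := by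
    ext b
    exact slot_eq h pole hpole hpole' j b
  rw [hT]
  have h5 : Iso.sharp e (θ δ e j - AddMonoidHom.mulLeft (pole j : B)) (Iso.Φ e' e y) =
      Iso.sharp e (θ δ e j) (Iso.Φ e' e y) - (pole j : B) • Iso.Φ e' e y := by
    change ∑ s, _ = ∑ s, _ - _
    conv_rhs => rw [← e.ExteriorAlgebra.sum_repr (Iso.Φ e' e y)]
    rw [Finset.smul_sum, ← Finset.sum_sub_distrib]
    refine Finset.sum_congr rfl fun s _ => ?_
    rw [AddMonoidHom.sub_apply, sub_smul, AddMonoidHom.coe_mulLeft, mul_smul, e.ExteriorAlgebra.sum_repr]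
  rw [h5, mul_sub, Algebra.mul_smul_comm, Nat.cast_smul_eq_nsmul]

theorem db_db (pole : J → ℕ) (hpole : ∀ j, pole j < p) (hpole' : ∀ j, ¬ S j → pole j = 0)
    (y : ExteriorAlgebra B L) : db δ e pole (db δ e pole y) = 0 := by
  letI := algCp p B
  letI := modCp p B L
  haveI : IsScalarTower (Cp B) B L := ⟨fun a b v => by
    rw [algCp_smul, mul_smul]; rfl⟩
  obtain ⟨z, rfl⟩ := (Iso.Φ (eCp e) e).surjective y
  have h1 := Φ_D h pole hpole hpole' z
  have h2 := Φ_D h pole hpole hpole' (Cartier.D (bas p h.pbasis) (eCp e) (model p B S pole) z)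
  rw [← h1, ← h2]
  have h3 := LinearMap.congr_fun (Cartier.D_D (bas p h.pbasis) (eCp e) (model p B S pole)) z
  rw [Module.End.mul_apply] at h3
  rw [h3, LinearMap.zero_apply, map_zero]

omit h in
theorem db_zero : db δ e (fun _ => 0) = d δ e := by
  ext y
  rw [db_apply]
  simp

theorem d_d (y : ExteriorAlgebra B L) : d δ e (d δ e y) = 0 := by
  rw [← db_zero]
  exact db_db h _ (fun _ => (Fact.out : p.Prime).pos) (fun _ _ => rfl) y

theorem d_mul (y z : ExteriorAlgebra B L) : d δ e (y * z) = d δ e y * z + Iso.sg y * d δ e z :=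
  Iso.dd_mul e (θ δ e) (θ_mul h) y z

theorem d_algebraMap (b : B) : d δ e (algebraMap B _ b) = ι B (δ b) := by
  have h1 : algebraMap B (ExteriorAlgebra B L) b = b • e.ExteriorAlgebra ∅ := by
    have : e.ExteriorAlgebra ∅ = 1 := by
      obtain ⟨n, v, h1, h2, -, h3⟩ := Ext.exists_basis_eq e ∅
      rw [Finset.card_empty] at h3
      subst h3
      rw [h1, ιMulti_zero_apply]
    rw [this, Algebra.algebraMap_eq_smul_one]
  rw [h1, d, Iso.dd_basis]
  have : e.ExteriorAlgebra ∅ = 1 := by
    obtain ⟨n, v, h1, h2, -, h3⟩ := Ext.exists_basis_eq e ∅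
    rw [Finset.card_empty] at h3
    subst h3
    rw [h1, ιMulti_zero_apply]
  rw [this]
  conv_rhs => rw [← e.sum_repr (δ b), map_sum]
  refine Finset.sum_congr rfl fun j _ => ?_
  rw [mul_one, map_smul]
  rfl

theorem d_ι_e (j : J) : d δ e (ι B (e j)) = 0 := by
  have h1 : ι B (e j) = (1 : B) • e.ExteriorAlgebra {j} := by
    obtain ⟨n, v, h1, h2, -, h3⟩ := Ext.exists_basis_eq e {j}
    rw [Finset.card_singleton] at h3
    subst h3
    rw [h1, one_smul, ιMulti_apply]
    have h4 : v 0 = j := by
      have := (h2 (v 0)).2 ⟨0, rfl⟩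
      simpa using this
    simp [h4]
  rw [h1, d, Iso.dd_basis]
  refine Finset.sum_eq_zero fun i _ => ?_
  rw [θ_one h, zero_smul]

theorem d_smul (b : B) (y : ExteriorAlgebra B L) : d δ e (b • y) = ι B (δ b) * y + b • d δ e y := by
  rw [Algebra.smul_def, d_mul h, d_algebraMap h, AlgHom.commutes, ← Algebra.smul_def]

end rules

section functorial

variable {B' L' J' : Type*} [CommRing B'] [CharP B' p] [AddCommGroup L'] [Module B' L']
  [LinearOrder J'] [Fintype J'] {S' : J' → Prop} {x' : J' → B'} {δ' : B' →+ L'} {e' : Basis J' B' L'}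

theorem extR_sg (ρ : B →+* B') (g : L →+ L') (hg : ∀ (b : B) (v : L), g (b • v) = ρ b • g v)
    (y : ExteriorAlgebra B L) : Semi.extR ρ g hg (Iso.sg y) = Iso.sg (Semi.extR ρ g hg y) := by
  have : (Semi.extR ρ g hg).comp (Iso.sg (B := B) (L := L)).toRingHom =
      (Iso.sg (B := B') (L := L')).toRingHom.comp (Semi.extR ρ g hg) := by
    apply Semi.ringHom_ext
    · intro a
      change Semi.extR ρ g hg (Iso.sg (algebraMap B _ a)) = Iso.sg (Semi.extR ρ g hg (algebraMap B _ a))
      rw [AlgHom.commutes, Semi.extR_algebraMap, AlgHom.commutes]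
    · intro v
      change Semi.extR ρ g hg (Iso.sg (ι B v)) = Iso.sg (Semi.extR ρ g hg (ι B v))
      rw [Iso.sg_ι, map_neg, Semi.extR_ι, Iso.sg_ι]
  exact congr($this y)

/-- **Functoriality of the de Rham differential** for maps of charts (any coordinates on both sides). -/
theorem extR_d (h : LogChart p S x δ e) (h' : LogChart p S' x' δ' e') (ρ : B →+* B') (g : L →+ L')
    (hg : ∀ (b : B) (v : L), g (b • v) = ρ b • g v) (hgδ : ∀ b, g (δ b) = δ' (ρ b))
    (hreg : ∀ j, S j → ρ (x j) ∈ nonZeroDivisors B') (y : ExteriorAlgebra B L) :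
    Semi.extR ρ g hg (d δ e y) = d δ' e' (Semi.extR ρ g hg y) := by
  have hdδ : ∀ b, d δ' e' (ι B' (δ' b)) = 0 := fun b => by
    rw [← d_algebraMap h', d_d h']
  have hge : ∀ j, d δ' e' (ι B' (g (e j))) = 0 := by
    intro j
    by_cases hS : S j
    · have h1 := hdδ (ρ (x j))
      rw [← hgδ, h.log j hS, hg, map_smul, d_smul h', ← hgδ, h.log j hS, hg, map_smul, Algebra.smul_mul_assoc,
        ι_sq_zero, smul_zero, zero_add] at h1
      -- torsion-free
      have h2 : ∀ z : ExteriorAlgebra B' L', ρ (x j) • z = 0 → z = 0 := by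
        intro z hz
        apply e'.ExteriorAlgebra.repr.injective
        ext s
        have h3 := congrArg (fun w => e'.ExteriorAlgebra.repr w s) hz
        simp only [map_smul, Finsupp.smul_apply, smul_eq_mul, map_zero, Finsupp.zero_apply] at h3
        rw [map_zero, Finsupp.zero_apply]
        exact (mul_left_mem_nonZeroDivisors_eq_zero_iff (hreg j hS)).1 h3
      exact h2 _ h1
    · rw [← h.plain j hS, hgδ]
      exact hdδ _
  induction y using ExteriorAlgebra.induction with
  | algebraMap b => rw [d_algebraMap h, Semi.extR_ι, Semi.extR_algebraMap, d_algebraMap h', hgδ]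
  | ι v =>
    rw [← e.sum_repr v, map_sum, map_sum, map_sum, map_sum, map_sum]
    refine Finset.sum_congr rfl fun j _ => ?_
    rw [map_smul, d_smul h, d_ι_e h, smul_zero, add_zero, map_mul, Semi.extR_ι, Semi.extR_ι, Semi.extR_smul,
      Semi.extR_ι, d_smul h', hge, smul_zero, add_zero, hgδ]
  | mul a b ha hb =>
    rw [d_mul h, map_add, map_mul, map_mul, ha, hb, map_mul, d_mul h', extR_sg]
  | add a b ha hb => rw [map_add, map_add, ha, hb, map_add, map_add]

/-- The differential does not depend on the chart. -/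
theorem d_eq_d {S' : J' → Prop} {x' : J' → B} {e' : Basis J' B L} (h : LogChart p S x δ e)
    (h' : LogChart p S' x' δ e') (hreg : ∀ j, S j → x j ∈ nonZeroDivisors B) (y : ExteriorAlgebra B L) :
    d δ e y = d δ e' y := by
  have h1 := extR_d h h' (RingHom.id B) (AddMonoidHom.id L) (fun _ _ => rfl) (fun _ => rfl) hreg y
  have h2 : Semi.extR (RingHom.id B) (AddMonoidHom.id L) (fun _ _ => rfl) = RingHom.id (ExteriorAlgebra B L) := by
    apply Semi.ringHom_ext
    · intro a; rw [Semi.extR_algebraMap]; rfl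
    · intro a; rw [Semi.extR_ι]; rfl
  rw [h2] at h1
  exact h1

end functorial

end K904.DR
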