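import Groth.Agent.DelIll.K904.FmExists
import Groth.Agent.PerfA.CohSerre
import Groth.Agent.LogNCD.K922.Univ
import Groth.Agent.S0002

/-!
# Degeneration of the logarithmic Hodge to de Rham spectral sequence in characteristic `p`, `dim X < p`, and in total
degrees `< p`
-/

set_option autoImplicit false
set_option linter.unusedSectionVars false
set_option linter.style.haveILetI false

universe w u

open CategoryTheory CategoryTheory.Limits AlgebraicGeometry Opposite TopologicalSpace
open FrobAlg K673.W2Basic K673.Lift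

namespace K904.MainLt

open _root_.K904.GeoUp _root_.K904.DegCount _root_.K904.FmExists _root_.K922.Coord

variable {p : ℕ} [Fact p.Prime] {k : Type u} [Field k] [CharP k p] [PerfectRing k p]
variable {X : Scheme.{u}} [X.Over (Spec (CommRingCat.of k))] [IsProper (X ↘ Spec (CommRingCat.of k))]
  [Smooth (X ↘ Spec (CommRingCat.of k))]
variable {Xl : Scheme.{u}} {g : Xl ⟶ Spec (CommRingCat.of (W2 p k))} {i : X ⟶ Xl} [Flat g]
variable {r : ℕ} {D : Fin r → X.IdealSheafData} {Dl : Fin r → Xl.IdealSheafData}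
  {Ω' : X.Modules} {d : OmegaSh.Der (X ↘ Spec (CommRingCat.of k)) Ω'}

omit [CharP k p] [Fact p.Prime] [PerfectRing k p] in
/-- Finiteness of the Hodge groups. -/
theorem finite_term (hd : AffUniv d) (hD : LogNCD.IsNCD D (X ↘ Spec (CommRingCat.of k))) {Λ : LogNCD.LogMod d D}
    (K : DeRhamSh.Cx (X ↘ Spec (CommRingCat.of k)) Λ.L (LogNCD.der Λ)) (a q : ℕ) :
    Module.Finite k (Coh.HH X (K.term a) q) := by
  haveI : IsLocallyNoetherian X := LocallyOfFiniteType.isLocallyNoetherian (X ↘ Spec (CommRingCat.of k))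
  exact Groth.Agent.S0002.result k X (K.term a)
    (Groth.Agent.PerfA.CohSerre.isCoh_of_isFinLocFree (LogCxM.isFinLocFree_term hd hD K a)) q

omit [IsProper (X ↘ Spec (CommRingCat.of k))] in
theorem exists_root (t : k) : ∃ u : k, u ^ p = t := (frobeniusEquiv k p).surjective t

variable [HasDerivedCategory.{w} (Sheaf (Opens.grothendieckTopology X) AddCommGrpCat.{u})]

/-- **Degeneration in total degree `m`** if the terms in degrees `p ≤ a ≤ m` vanish. -/
theorem degeneratesAt (hl : IsPullback i (X ↘ Spec (CommRingCat.of k)) g (spW p k)) (hd : AffUniv d)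
    (hD : LogNCD.IsNCD D (X ↘ Spec (CommRingCat.of k))) (hDl : ∀ j, (Dl j).comap i = D j)
    (hDlf : ∀ j, Flat ((Dl j).subschemeι ≫ g)) {Λ : LogNCD.LogMod d D}
    (K : DeRhamSh.Cx (X ↘ Spec (CommRingCat.of k)) Λ.L (LogNCD.der Λ)) (m : ℕ)
    (hm : ∀ a : ℕ, a ≤ m → a < p ∨ IsZero (K.term a)) (j : ℤ) :
    E1Deg.DegeneratesAt (CohCx.freeSheaf (Opens.grothendieckTopology X) (⊤ : X.Opens)) K.KZ m j := by
  obtain ⟨F⟩ := exists_fm hl hd hD hDl hDlf Λ
  haveI : CompactSpace X := QuasiCompact.compactSpace_of_compactSpace (X ↘ Spec (CommRingCat.of k))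
  obtain ⟨N, hN⟩ := LogCxZ.exists_isZero_term hd hD K
  exact F.degeneratesAt hd hD K exists_root m hm (finite_term hd hD K) (N + 1) (fun i hi => hN i (by omega)) j

/-- **Degeneration for `dim X < p`.** -/
theorem main (hl : IsPullback i (X ↘ Spec (CommRingCat.of k)) g (spW p k)) (hd : AffUniv d)
    (hD : LogNCD.IsNCD D (X ↘ Spec (CommRingCat.of k))) (hDl : ∀ j, (Dl j).comap i = D j)
    (hDlf : ∀ j, Flat ((Dl j).subschemeι ≫ g)) {Λ : LogNCD.LogMod d D}
    (K : DeRhamSh.Cx (X ↘ Spec (CommRingCat.of k)) Λ.L (LogNCD.der Λ)) {n : ℕ}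
    (hdim : topologicalKrullDim X ≤ n) (hn : n < p) :
    E1Deg.HyperDegenerates K.KZ (⊤ : X.Opens) := by
  intro a j
  by_cases ha : a < 0
  · exact K905.HTAbs.degeneratesAt_of_neg _ _ (K905.HTSch.isZero_extend_neg K.K) a j ha
  · obtain ⟨m, rfl⟩ := Int.eq_ofNat_of_zero_le (show 0 ≤ a by omega)
    refine degeneratesAt hl hd hD hDl hDlf K m (fun a _ => ?_) j
    by_cases h : a < p
    · exact Or.inl h
    · exact Or.inr (LogCxZ.isZero_term hd hdim hD K a (by omega))

end K904.MainLt
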