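import Mathlib.LinearAlgebra.ExteriorAlgebra.Basis
import Mathlib.LinearAlgebra.CliffordAlgebra.Contraction

/-!
# Creation and annihilation operators on an exterior algebra

`V` free over `A` with basis `e : J → V`.  `E v` is multiplication by `ι v`, `C φ` is contraction with `φ`.
-/

set_option autoImplicit false

open ExteriorAlgebra Module

namespace K904.Ext

variable {A V : Type*} [CommRing A] [AddCommGroup V] [Module A V]

/-- Left multiplication by `ι v` on the exterior algebra. -/
noncomputable def E (v : V) : Module.End A (ExteriorAlgebra A V) := LinearMap.mulLeft A (ι A v)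

/-- Contraction with `φ` on the exterior algebra. -/
noncomputable def C (φ : Module.Dual A V) : Module.End A (ExteriorAlgebra A V) :=
  CliffordAlgebra.contractLeft (Q := (0 : QuadraticForm A V)) φ

theorem E_apply (v : V) (x : ExteriorAlgebra A V) : E (A := A) v x = ι A v * x := rfl

theorem C_ι_mul (φ : Module.Dual A V) (v : V) (x : ExteriorAlgebra A V) :
    C φ (ι A v * x) = φ v • x - ι A v * C φ x :=
  CliffordAlgebra.contractLeft_ι_mul φ v x

theorem C_one (φ : Module.Dual A V) : C φ (1 : ExteriorAlgebra A V) = 0 :=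
  CliffordAlgebra.contractLeft_one (Q := (0 : QuadraticForm A V)) φ

theorem E_E (v : V) : E (A := A) v * E v = 0 := by
  refine LinearMap.ext fun x => ?_
  change ι A v * (ι A v * x) = 0
  rw [← mul_assoc, ι_sq_zero, zero_mul]

theorem E_anti (v w : V) : E (A := A) v * E w + E w * E v = 0 := by
  refine LinearMap.ext fun x => ?_
  change ι A v * (ι A w * x) + ι A w * (ι A v * x) = 0
  rw [← mul_assoc, ← mul_assoc, ← add_mul]
  have : ι A v * ι A w + ι A w * ι A v = 0 := ι_add_mul_swap v w
  rw [this, zero_mul]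

theorem C_C (φ : Module.Dual A V) : C φ * C φ = 0 := by
  refine LinearMap.ext fun x => ?_
  exact CliffordAlgebra.contractLeft_contractLeft φ x

theorem C_anti (φ ψ : Module.Dual A V) : C φ * C ψ + C ψ * C φ = 0 := by
  refine LinearMap.ext fun x => ?_
  change C φ (C ψ x) + C ψ (C φ x) = 0
  rw [C, C, CliffordAlgebra.contractLeft_comm]
  exact neg_add_cancel _

theorem C_E (φ : Module.Dual A V) (v : V) : C φ * E v + E v * C φ = φ v • (1 : Module.End A (ExteriorAlgebra A V)) := by
  refine LinearMap.ext fun x => ?_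
  change C φ (ι A v * x) + ι A v * C φ x = φ v • x
  rw [C_ι_mul, sub_add_cancel]

theorem E_ιMulti_eq_zero {n : ℕ} (v : Fin n → V) (i : Fin n) :
    E (A := A) (v i) (ιMulti A n v) = 0 := by
  have h : E (A := A) (v i) (ιMulti A n v) = ιMulti A (n + 1) (Matrix.vecCons (v i) v) := by
    rw [ιMulti_succ_apply]
    rfl
  rw [h]
  exact AlternatingMap.map_eq_zero_of_eq _ _ (i := 0) (j := i.succ) (by simp) (Fin.succ_ne_zero i).symm

theorem C_ιMulti_eq_zero (φ : Module.Dual A V) {n : ℕ} (v : Fin n → V) (hv : ∀ i, φ (v i) = 0) :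
    C φ (ιMulti A n v) = 0 := by
  induction n with
  | zero => rw [ιMulti_zero_apply]; exact C_one φ
  | succ n ih =>
    rw [ιMulti_succ_apply, C_ι_mul, hv 0, zero_smul, ih (Matrix.vecTail v) (fun i => hv i.succ), mul_zero, sub_zero]

variable {J : Type*} [LinearOrder J] (e : Basis J A V)

theorem exists_basis_eq (s : Finset J) :
    ∃ (n : ℕ) (v : Fin n → J), e.ExteriorAlgebra s = ιMulti A n (fun i => e (v i)) ∧
      (∀ j, j ∈ s ↔ j ∈ Set.range v) ∧ Function.Injective v ∧ n = s.card := by
  obtain ⟨t, rfl⟩ := Set.powersetCard.prodEquiv.surjective s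
  obtain ⟨n, t⟩ := t
  refine ⟨n, Set.powersetCard.ofFinEmbEquiv.symm t, ?_, fun j => ?_, (Set.powersetCard.ofFinEmbEquiv.symm t).injective,
    t.2.symm⟩
  · rw [Set.powersetCard.prodEquiv_apply, basis_apply_powersetCard]
    rfl
  · exact (Set.powersetCard.mem_range_ofFinEmbEquiv_symm_iff_mem t j).symm

theorem E_basis (s : Finset J) (j : J) (hj : j ∈ s) : E (A := A) (e j) (e.ExteriorAlgebra s) = 0 := by
  obtain ⟨n, v, h1, h2, -⟩ := exists_basis_eq e s
  obtain ⟨i, rfl⟩ := (h2 j).1 hj
  rw [h1]
  exact E_ιMulti_eq_zero (fun i => e (v i)) i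

theorem C_basis (s : Finset J) (j : J) (hj : j ∉ s) : C (e.coord j) (e.ExteriorAlgebra s) = 0 := by
  obtain ⟨n, v, h1, h2, -⟩ := exists_basis_eq e s
  rw [h1]
  apply C_ιMulti_eq_zero
  intro i
  have hne : v i ≠ j := fun h => hj ((h2 j).2 ⟨i, h⟩)
  simp [Basis.coord_apply, hne]

omit [LinearOrder J] in
theorem CE_add_EC (j : J) : C (e.coord j) * E (e j) + E (e j) * C (e.coord j) = 1 := by
  rw [C_E]; simp

omit [LinearOrder J] in
theorem CE_anti (i j : J) (hij : i ≠ j) : C (e.coord i) * E (e j) + E (e j) * C (e.coord i) = 0 := by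
  rw [C_E]; simp [hij.symm]

open Classical in
theorem EC_basis (s : Finset J) (j : J) :
    (E (A := A) (e j) * C (e.coord j)) (e.ExteriorAlgebra s) = if j ∈ s then e.ExteriorAlgebra s else 0 := by
  split_ifs with h
  · have := LinearMap.congr_fun (CE_add_EC e j) (e.ExteriorAlgebra s)
    have h1 : (C (e.coord j) * E (A := A) (e j)) (e.ExteriorAlgebra s) = 0 := by
      change C (e.coord j) (E (e j) (e.ExteriorAlgebra s)) = 0
      rw [E_basis e s j h, map_zero]
    rw [LinearMap.add_apply, h1, zero_add] at this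
    exact this
  · change E (e j) (C (e.coord j) (e.ExteriorAlgebra s)) = 0
    rw [C_basis e s j h, map_zero]

open Classical in
theorem CE_basis (s : Finset J) (j : J) :
    (C (e.coord j) * E (A := A) (e j)) (e.ExteriorAlgebra s) = if j ∈ s then 0 else e.ExteriorAlgebra s := by
  have := LinearMap.congr_fun (CE_add_EC e j) (e.ExteriorAlgebra s)
  rw [LinearMap.add_apply, EC_basis] at this
  split_ifs with h
  · rw [if_pos h] at this
    have h2 : (C (e.coord j) * E (A := A) (e j)) (e.ExteriorAlgebra s) + e.ExteriorAlgebra s = 0 + e.ExteriorAlgebra s := by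
      rw [this, zero_add]; rfl
    exact add_right_cancel h2
  · rw [if_neg h, add_zero] at this
    exact this

/-- Contraction lowers the degree. -/
theorem C_mem (φ : Module.Dual A V) (n : ℕ) (x : ExteriorAlgebra A V) (hx : x ∈ ⋀[A]^(n + 1) V) :
    C φ x ∈ ⋀[A]^n V := by
  induction n generalizing x with
  | zero =>
    rw [← ιMulti_span_fixedDegree] at hx
    induction hx using Submodule.span_induction with
    | mem y hy =>
      obtain ⟨v, rfl⟩ := hy
      rw [ιMulti_succ_apply, C_ι_mul, ιMulti_zero_apply, C_one, mul_zero, sub_zero]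
      apply Submodule.smul_mem
      rw [← ιMulti_zero_apply (R := A) (M := V) ![]]
      exact ιMulti_range A 0 ⟨_, rfl⟩
    | zero => rw [map_zero]; exact Submodule.zero_mem _
    | add x y _ _ hx hy => rw [map_add]; exact Submodule.add_mem _ hx hy
    | smul a x _ hx => rw [map_smul]; exact Submodule.smul_mem _ _ hx
  | succ n ih =>
    rw [← ιMulti_span_fixedDegree] at hx
    induction hx using Submodule.span_induction with
    | mem y hy =>
      obtain ⟨v, rfl⟩ := hy
      rw [ιMulti_succ_apply, C_ι_mul]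
      apply Submodule.sub_mem
      · exact Submodule.smul_mem _ _ (ιMulti_range A (n + 1) ⟨_, rfl⟩)
      · have h1 : C φ (ιMulti A (n + 1) (Matrix.vecTail v)) ∈ ⋀[A]^n V := ih _ (ιMulti_range A (n + 1) ⟨_, rfl⟩)
        have h2 : ι A (v 0) ∈ ⋀[A]^1 V := by
          rw [exteriorPower, pow_one]; exact LinearMap.mem_range_self _ _
        have := Submodule.mul_mem_mul h2 h1
        rwa [exteriorPower, exteriorPower, ← pow_add, add_comm 1 n] at this
    | zero => rw [map_zero]; exact Submodule.zero_mem _
    | add x y _ _ hx hy => rw [map_add]; exact Submodule.add_mem _ hx hy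
    | smul a x _ hx => rw [map_smul]; exact Submodule.smul_mem _ _ hx

theorem C_eq_zero (φ : Module.Dual A V) (x : ExteriorAlgebra A V) (hx : x ∈ ⋀[A]^0 V) : C φ x = 0 := by
  rw [← ιMulti_span_fixedDegree] at hx
  induction hx using Submodule.span_induction with
  | mem y hy =>
    obtain ⟨v, rfl⟩ := hy
    rw [ιMulti_zero_apply, C_one]
  | zero => rw [map_zero]
  | add x y _ _ hx hy => rw [map_add, hx, hy, add_zero]
  | smul a x _ hx => rw [map_smul, hx, smul_zero]

theorem E_mem (v : V) (n : ℕ) (x : ExteriorAlgebra A V) (hx : x ∈ ⋀[A]^n V) : E v x ∈ ⋀[A]^(n + 1) V := by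
  have h2 : ι A v ∈ ⋀[A]^1 V := by
    rw [exteriorPower, pow_one]; exact LinearMap.mem_range_self _ _
  have := Submodule.mul_mem_mul h2 hx
  rwa [exteriorPower, exteriorPower, ← pow_add, add_comm 1 n] at this

end K904.Ext
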