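import Mathlib.LinearAlgebra.Basis.Basic
import Mathlib.LinearAlgebra.Matrix.ToLin
import Mathlib.Data.ZMod.Basic
import Mathlib.Algebra.Algebra.ZMod
import Mathlib.Algebra.Field.ZMod

/-!
# Operators acting on one slot of a basis indexed by functions `J → Q`

`bas : Basis (J → Q) A B`.  A matrix `T : Matrix Q Q A` acts on the `j`-th slot:
`slot bas j T (bas a) = ∑ m, T m (a j) • bas (update a j m)`.
-/

set_option autoImplicit false
set_option linter.unusedSectionVars false

open Module

namespace K904.Slot

variable {A B J Q : Type*} [CommRing A] [AddCommGroup B] [Module A B] [DecidableEq J] [Fintype Q] [DecidableEq Q]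
  (bas : Basis (J → Q) A B)


/-- The matrix `T` acting on the slot `j`. -/
noncomputable def slot (j : J) (T : Matrix Q Q A) : Module.End A B :=
  bas.constr A fun a => ∑ m, T m (a j) • bas (Function.update a j m)


theorem slot_basis (j : J) (T : Matrix Q Q A) (a : J → Q) :
    slot bas j T (bas a) = ∑ m, T m (a j) • bas (Function.update a j m) := by
  rw [slot, Basis.constr_basis]

theorem slot_one (j : J) : slot bas j (1 : Matrix Q Q A) = 1 := by
  refine bas.ext fun a => ?_
  rw [slot_basis, Finset.sum_eq_single (a j)]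
  · simp
  · intro m _ hm
    rw [Matrix.one_apply_ne hm, zero_smul]
  · intro h
    exact absurd (Finset.mem_univ _) h

theorem slot_zero (j : J) : slot bas j (0 : Matrix Q Q A) = 0 := by
  refine bas.ext fun a => ?_
  rw [slot_basis]
  simp

theorem slot_add (j : J) (T S : Matrix Q Q A) : slot bas j (T + S) = slot bas j T + slot bas j S := by
  refine bas.ext fun a => ?_
  rw [LinearMap.add_apply, slot_basis, slot_basis, slot_basis, ← Finset.sum_add_distrib]
  refine Finset.sum_congr rfl fun m _ => ?_
  rw [Matrix.add_apply, add_smul]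

theorem slot_neg (j : J) (T : Matrix Q Q A) : slot bas j (-T) = -slot bas j T := by
  rw [eq_neg_iff_add_eq_zero, ← slot_add, neg_add_cancel, slot_zero]

theorem slot_sub (j : J) (T S : Matrix Q Q A) : slot bas j (T - S) = slot bas j T - slot bas j S := by
  rw [sub_eq_add_neg, slot_add, slot_neg, sub_eq_add_neg]

theorem slot_mul (j : J) (T S : Matrix Q Q A) : slot bas j (T * S) = slot bas j T * slot bas j S := by
  refine bas.ext fun a => ?_
  rw [Module.End.mul_apply, slot_basis, slot_basis, map_sum]
  simp only [map_smul, slot_basis, Function.update_self, Function.update_idem, Finset.smul_sum, smul_smul,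
    Matrix.mul_apply, Finset.sum_smul]
  rw [Finset.sum_comm]
  refine Finset.sum_congr rfl fun m _ => Finset.sum_congr rfl fun l _ => ?_
  rw [mul_comm]

theorem slot_comm {i j : J} (hij : i ≠ j) (T S : Matrix Q Q A) :
    Commute (slot bas i T) (slot bas j S) := by
  refine bas.ext fun a => ?_
  rw [Module.End.mul_apply, Module.End.mul_apply, slot_basis, slot_basis, map_sum, map_sum]
  simp only [map_smul, slot_basis, Function.update_of_ne hij, Function.update_of_ne hij.symm, Finset.smul_sum, smul_smul]
  rw [Finset.sum_comm]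
  refine Finset.sum_congr rfl fun m _ => Finset.sum_congr rfl fun l _ => ?_
  rw [mul_comm, Function.update_comm hij]

/-- A diagonal matrix. -/
theorem slot_diagonal (j : J) (t : Q → A) (a : J → Q) :
    slot bas j (Matrix.diagonal t) (bas a) = t (a j) • bas a := by
  rw [slot_basis, Finset.sum_eq_single (a j)]
  · simp
  · intro m _ hm
    rw [Matrix.diagonal_apply_ne _ hm, zero_smul]
  · intro h
    exact absurd (Finset.mem_univ _) h

/-- The matrix `Q → Q`, `a ↦ t a • σ a`. -/
def mono (σ : Q → Q) (t : Q → A) : Matrix Q Q A := fun m a => if m = σ a then t a else 0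

theorem slot_mono (j : J) (σ : Q → Q) (t : Q → A) (a : J → Q) :
    slot bas j (mono σ t) (bas a) = t (a j) • bas (Function.update a j (σ (a j))) := by
  rw [slot_basis, Finset.sum_eq_single (σ (a j))]
  · simp [mono]
  · intro m _ hm
    simp [mono, hm]
  · intro h
    exact absurd (Finset.mem_univ _) h

omit [Fintype Q] in
theorem mono_id (t : Q → A) : mono id t = Matrix.diagonal t := by
  funext m a
  by_cases h : m = a
  · subst h; simp [mono]
  · simp [mono, h, Matrix.diagonal_apply_ne]

theorem mono_mul_mono (σ τ : Q → Q) (t s : Q → A) :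
    mono σ t * mono τ s = mono (σ ∘ τ) (fun a => t (τ a) * s a) := by
  funext m a
  rw [Matrix.mul_apply, Finset.sum_eq_single (τ a)]
  · by_cases h : m = σ (τ a)
    · simp [mono, h]
    · simp [mono, h]
  · intro l _ hl
    simp [mono, hl]
  · intro h
    exact absurd (Finset.mem_univ _) h

/-! ## The two model slots in characteristic `p` -/

variable (p : ℕ) [Fact p.Prime] [Algebra (ZMod p) A]

/-- A model slot: matrices `θ`, `η` and the slots `m0` (kernel) and `m1` (cokernel). -/
structure Model (Q A : Type*) [CommRing A] [Fintype Q] [DecidableEq Q] where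
  θ : Matrix Q Q A
  η : Matrix Q Q A
  m0 : Q
  m1 : Q
  θη : θ * η = 1 - Matrix.diagonal (Pi.single m1 1)
  ηθ : η * θ = 1 - Matrix.diagonal (Pi.single m0 1)
  θ0 : θ * Matrix.diagonal (Pi.single m0 1) = 0
  θ1 : Matrix.diagonal (Pi.single m1 1) * θ = 0

/-- The derivative `x^a ↦ a x^{a-1}`. -/
def dx : Matrix (ZMod p) (ZMod p) A := mono (fun a => a - 1) (fun a => algebraMap (ZMod p) A a)

/-- The primitive `x^a ↦ (a+1)⁻¹ x^{a+1}`. -/
def ix : Matrix (ZMod p) (ZMod p) A := mono (fun a => a + 1) (fun a => algebraMap (ZMod p) A (a + 1)⁻¹)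

theorem dx_ix : dx (A := A) p * ix (A := A) p = 1 - Matrix.diagonal (Pi.single (-1) 1) := by
  rw [dx, ix, mono_mul_mono, ← Matrix.diagonal_one, Matrix.diagonal_sub]
  have : ((fun a : ZMod p => a - 1) ∘ fun a => a + 1) = id := by
    funext a; simp
  rw [this, mono_id]
  congr 1
  funext a
  rw [← map_mul]
  by_cases h : a = -1
  · subst h; simp
  · have : a + 1 ≠ 0 := fun h' => h (eq_neg_of_add_eq_zero_left h')
    rw [mul_inv_cancel₀ this]
    simp [h]

theorem ix_dx : ix (A := A) p * dx (A := A) p = 1 - Matrix.diagonal (Pi.single 0 1) := by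
  rw [dx, ix, mono_mul_mono, ← Matrix.diagonal_one, Matrix.diagonal_sub]
  have : ((fun a : ZMod p => a + 1) ∘ fun a => a - 1) = id := by
    funext a; simp
  rw [this, mono_id]
  congr 1
  funext a
  rw [← map_mul, sub_add_cancel]
  by_cases h : a = 0
  · subst h; simp
  · rw [inv_mul_cancel₀ h]
    simp [h]

/-- The model slot of a coordinate which is not logarithmic. -/
def plain : Model (ZMod p) A where
  θ := dx p
  η := ix p
  m0 := 0
  m1 := -1
  θη := dx_ix p
  ηθ := ix_dx p
  θ0 := by
    rw [dx, ← mono_id, mono_mul_mono]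
    funext m a
    by_cases h : a = 0
    · subst h; simp [mono]
    · simp [mono, h]
  θ1 := by
    rw [dx, ← mono_id, mono_mul_mono]
    funext m a
    by_cases h : a = 0
    · subst h; simp [mono]
    · have : a - 1 ≠ -1 := fun h' => h (by simpa using h')
      simp [mono, this]

/-- The model slot of a logarithmic coordinate with pole order `b`: `x^a ↦ (a - b) x^a`. -/
def log (b : ZMod p) : Model (ZMod p) A where
  θ := Matrix.diagonal (fun a => algebraMap (ZMod p) A (a - b))
  η := Matrix.diagonal (fun a => algebraMap (ZMod p) A (a - b)⁻¹)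
  m0 := b
  m1 := b
  θη := by
    rw [Matrix.diagonal_mul_diagonal, ← Matrix.diagonal_one, Matrix.diagonal_sub]
    congr 1
    funext a
    rw [← map_mul]
    by_cases h : a = b
    · subst h; simp
    · rw [mul_inv_cancel₀ (sub_ne_zero.2 h)]
      simp [h]
  ηθ := by
    rw [Matrix.diagonal_mul_diagonal, ← Matrix.diagonal_one, Matrix.diagonal_sub]
    congr 1
    funext a
    rw [← map_mul]
    by_cases h : a = b
    · subst h; simp
    · rw [inv_mul_cancel₀ (sub_ne_zero.2 h)]
      simp [h]
  θ0 := by
    rw [Matrix.diagonal_mul_diagonal, ← Matrix.diagonal_zero]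
    congr 1
    funext a
    by_cases h : a = b
    · subst h; simp
    · simp [h]
  θ1 := by
    rw [Matrix.diagonal_mul_diagonal, ← Matrix.diagonal_zero]
    congr 1
    funext a
    by_cases h : a = b
    · subst h; simp
    · simp [h]

theorem log_θ (b : ZMod p) : (log (A := A) p b).θ = Matrix.diagonal (fun a => algebraMap (ZMod p) A (a - b)) := rfl

theorem log_m0 (b : ZMod p) : (log (A := A) p b).m0 = b := rfl

theorem log_m1 (b : ZMod p) : (log (A := A) p b).m1 = b := rfl

theorem plain_θ : (plain (A := A) p).θ = mono (fun a => a - 1) (fun a => algebraMap (ZMod p) A a) := rfl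

theorem plain_m0 : (plain (A := A) p).m0 = 0 := rfl

theorem plain_m1 : (plain (A := A) p).m1 = -1 := rfl

end K904.Slot
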