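import Groth.Agent.DelIll.K904.Kos
import Groth.Agent.DelIll.K904.Ext
import Groth.Agent.DelIll.K904.Slot
import Mathlib.LinearAlgebra.TensorProduct.Basis

/-!
# The Cartier isomorphism for a Koszul type de Rham complex

`N = B ⊗[A] Λ_A V`, `B` with a basis indexed by `J → Q` over `A`, `V` with basis `e : J → V`, and for every
`j : J` a model slot `m j`.  `D = ∑ θ_j ⊗ e_j ∧`, and there are `r : N → Λ`, `c : Λ → N`, `H : N → N` with
`D H + H D = 1 - c r`, `r c = 1`, `r D = 0`, `D c = 0`.
-/

set_option autoImplicit false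
set_option linter.unusedSectionVars false

open Module TensorProduct ExteriorAlgebra

namespace K904.Cartier

open K904.Slot K904.Ext

variable {A B V J Q : Type*} [CommRing A] [AddCommGroup B] [Module A B] [AddCommGroup V] [Module A V]
  [LinearOrder J] [Fintype J] [Fintype Q] [DecidableEq Q]
  (bas : Basis (J → Q) A B) (e : Basis J A V) (m : J → Model Q A)

/-- The operator `T ⊗ X`. -/
noncomputable abbrev op (T : Module.End A B) (X : Module.End A (ExteriorAlgebra A V)) :
    Module.End A (B ⊗[A] ExteriorAlgebra A V) := TensorProduct.map T X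

theorem op_mul (T S : Module.End A B) (X Y : Module.End A (ExteriorAlgebra A V)) :
    op T X * op S Y = op (T * S) (X * Y) := (TensorProduct.map_mul T S X Y).symm

theorem op_add_left (T S : Module.End A B) (X : Module.End A (ExteriorAlgebra A V)) :
    op (T + S) X = op T X + op S X := TensorProduct.map_add_left T S X

theorem op_add_right (T : Module.End A B) (X Y : Module.End A (ExteriorAlgebra A V)) :
    op T (X + Y) = op T X + op T Y := TensorProduct.map_add_right T X Y

theorem op_one : op (1 : Module.End A B) (1 : Module.End A (ExteriorAlgebra A V)) = 1 := TensorProduct.map_one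

theorem op_zero_left (X : Module.End A (ExteriorAlgebra A V)) : op (0 : Module.End A B) X = 0 := by
  refine TensorProduct.ext' fun x y => ?_
  simp [op]

theorem op_zero_right (T : Module.End A B) : op T (0 : Module.End A (ExteriorAlgebra A V)) = 0 := by
  refine TensorProduct.ext' fun x y => ?_
  simp [op]

theorem op_neg_right (T : Module.End A B) (X : Module.End A (ExteriorAlgebra A V)) : op T (-X) = -op T X := by
  rw [eq_neg_iff_add_eq_zero, ← op_add_right, neg_add_cancel, op_zero_right]

theorem op_sub_left (T S : Module.End A B) (X : Module.End A (ExteriorAlgebra A V)) :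
    op (T - S) X = op T X - op S X := by
  rw [eq_sub_iff_add_eq, ← op_add_left, sub_add_cancel]

/-- `D_j = θ_j ⊗ e_j ∧`. -/
noncomputable def Dj (j : J) : Module.End A (B ⊗[A] ExteriorAlgebra A V) := op (slot bas j (m j).θ) (E (e j))

/-- `H_j = η_j ⊗ c_j`. -/
noncomputable def Hj (j : J) : Module.End A (B ⊗[A] ExteriorAlgebra A V) := op (slot bas j (m j).η) (C (e.coord j))

/-- The projection to the slot `a`. -/
noncomputable def pr (j : J) (a : Q) : Module.End A B := slot bas j (Matrix.diagonal (Pi.single a 1))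

/-- `P_j = π1_j ⊗ e_j c_j + π0_j ⊗ c_j e_j`. -/
noncomputable def Pj (j : J) : Module.End A (B ⊗[A] ExteriorAlgebra A V) :=
  op (pr bas j (m j).m1) (E (e j) * C (e.coord j)) + op (pr bas j (m j).m0) (C (e.coord j) * E (e j))

/-- The differential. -/
noncomputable def D : Module.End A (B ⊗[A] ExteriorAlgebra A V) := ∑ j, Dj bas e m j

theorem Dj_Dj {i j : J} (hij : i ≠ j) : Dj bas e m i * Dj bas e m j + Dj bas e m j * Dj bas e m i = 0 := by
  rw [Dj, Dj, op_mul, op_mul, (slot_comm bas hij _ _).eq, ← op_add_right, E_anti, op_zero_right]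

theorem Dj_sq (j : J) : Dj bas e m j * Dj bas e m j = 0 := by
  rw [Dj, op_mul, E_E, op_zero_right]

theorem D_D : D bas e m * D bas e m = 0 := by
  classical
  rw [D, Finset.sum_mul_sum, ← Finset.sum_product']
  refine Finset.sum_involution (fun x _ => (x.2, x.1)) ?_ ?_ ?_ ?_
  · rintro ⟨i, j⟩ _
    by_cases h : i = j
    · subst h; simp [Dj_sq]
    · exact Dj_Dj bas e m h
  · rintro ⟨i, j⟩ _ h h'
    simp only [Prod.mk.injEq] at h'
    obtain ⟨rfl, -⟩ := h'
    exact h (Dj_sq bas e m _)
  · simp
  · simp

theorem aux {R : Type*} [Ring R] (x y z : R) (h1 : y * z + z * y = 0) (h2 : x * z + z * x = 0) :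
    x * y * z = z * (x * y) := by
  calc x * y * z = x * (y * z + z * y) - (x * z + z * x) * y + z * (x * y) := by noncomm_ring
    _ = z * (x * y) := by rw [h1, h2]; simp

theorem EC_E_comm {i j : J} (hij : i ≠ j) :
    Commute (E (A := A) (e i) * C (e.coord i)) (E (A := A) (e j)) :=
  aux _ _ _ (CE_anti e i j hij) (E_anti _ _)

theorem EC_C_comm {i j : J} (hij : i ≠ j) :
    Commute (E (A := A) (e i) * C (e.coord i)) (C (e.coord j)) :=
  aux _ _ _ (C_anti _ _) (by rw [add_comm]; exact CE_anti e j i hij.symm)

theorem CE_eq (i : J) : C (e.coord i) * E (A := A) (e i) = 1 - E (A := A) (e i) * C (e.coord i) := by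
  rw [eq_sub_iff_add_eq]; exact CE_add_EC e i

theorem CE_E_comm {i j : J} (hij : i ≠ j) :
    Commute (C (e.coord i) * E (A := A) (e i)) (E (A := A) (e j)) := by
  rw [CE_eq]; exact (Commute.one_left _).sub_left (EC_E_comm e hij)

theorem CE_C_comm {i j : J} (hij : i ≠ j) :
    Commute (C (e.coord i) * E (A := A) (e i)) (C (e.coord j)) := by
  rw [CE_eq]; exact (Commute.one_left _).sub_left (EC_C_comm e hij)

theorem op_comm {T S : Module.End A B} {X Y : Module.End A (ExteriorAlgebra A V)} (h1 : Commute T S)
    (h2 : Commute X Y) : Commute (op T X) (op S Y) := by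
  rw [Commute, SemiconjBy, op_mul, op_mul, h1.eq, h2.eq]

theorem θη (j : J) : slot bas j (m j).θ * slot bas j (m j).η = 1 - pr bas j (m j).m1 := by
  rw [← slot_mul, (m j).θη, slot_sub, slot_one, pr]

theorem ηθ (j : J) : slot bas j (m j).η * slot bas j (m j).θ = 1 - pr bas j (m j).m0 := by
  rw [← slot_mul, (m j).ηθ, slot_sub, slot_one, pr]

theorem θ0 (j : J) : slot bas j (m j).θ * pr bas j (m j).m0 = 0 := by
  rw [pr, ← slot_mul, (m j).θ0, slot_zero]

theorem θ1 (j : J) : pr bas j (m j).m1 * slot bas j (m j).θ = 0 := by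
  rw [pr, ← slot_mul, (m j).θ1, slot_zero]

theorem pack : Kos.Pack (Dj bas e m) (Hj bas e m) (Pj bas e m) where
  hom j := by
    rw [Dj, Hj, Pj, op_mul, op_mul, θη, ηθ, op_sub_left, op_sub_left]
    have : op (1 : Module.End A B) (E (e j) * C (e.coord j)) + op (1 : Module.End A B) (C (e.coord j) * E (e j)) = 1 := by
      rw [← op_add_right, add_comm, CE_add_EC, op_one]
    rw [← this]
    abel
  DP j := by
    rw [Dj, Pj, mul_add, op_mul, op_mul, θ0, op_zero_left, ← mul_assoc, E_E, zero_mul, op_zero_right, add_zero]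
  PD j := by
    rw [Dj, Pj, add_mul, op_mul, op_mul, θ1, op_zero_left, mul_assoc (C _), E_E, mul_zero, op_zero_right, add_zero]
  anti i j hij := by
    rw [Dj, Hj, op_mul, op_mul, (slot_comm bas hij _ _).eq, ← op_add_right, add_comm, CE_anti e j i hij.symm,
      op_zero_right]
  PDc i j hij := by
    rw [Pj, Dj]
    exact (op_comm (slot_comm bas hij _ _) (EC_E_comm e hij)).add_left
      (op_comm (slot_comm bas hij _ _) (CE_E_comm e hij))
  PHc i j hij := by
    rw [Pj, Hj]
    exact (op_comm (slot_comm bas hij _ _) (EC_C_comm e hij)).add_left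
      (op_comm (slot_comm bas hij _ _) (CE_C_comm e hij))
  PPc i j hij := by
    have h1 := (EC_E_comm e hij).mul_right (EC_C_comm e hij)
    have h2 := (EC_C_comm e hij).mul_right (EC_E_comm e hij)
    have h3 := (CE_E_comm e hij).mul_right (CE_C_comm e hij)
    have h4 := (CE_C_comm e hij).mul_right (CE_E_comm e hij)
    rw [Pj, Pj]
    exact ((op_comm (slot_comm bas hij _ _) h1).add_right (op_comm (slot_comm bas hij _ _) h2)).add_left
      ((op_comm (slot_comm bas hij _ _) h3).add_right (op_comm (slot_comm bas hij _ _) h4))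

/-- The slots of the Cartier classes. -/
def w (s : Finset J) (j : J) : Q := if j ∈ s then (m j).m1 else (m j).m0

/-- The inverse Cartier map. -/
noncomputable def c : ExteriorAlgebra A V →ₗ[A] B ⊗[A] ExteriorAlgebra A V :=
  e.ExteriorAlgebra.constr A fun s => bas (w m s) ⊗ₜ e.ExteriorAlgebra s

theorem c_basis (s : Finset J) : c bas e m (e.ExteriorAlgebra s) = bas (w m s) ⊗ₜ e.ExteriorAlgebra s := by
  rw [c, Basis.constr_basis]

open Classical in
/-- The Cartier map (retraction). -/
noncomputable def r : B ⊗[A] ExteriorAlgebra A V →ₗ[A] ExteriorAlgebra A V :=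
  (bas.tensorProduct e.ExteriorAlgebra).constr A fun x => if x.1 = w m x.2 then e.ExteriorAlgebra x.2 else 0

open Classical in
theorem r_basis (a : J → Q) (s : Finset J) :
    r bas e m (bas a ⊗ₜ e.ExteriorAlgebra s) = if a = w m s then e.ExteriorAlgebra s else 0 := by
  have : bas a ⊗ₜ e.ExteriorAlgebra s = (bas.tensorProduct e.ExteriorAlgebra) (a, s) := by
    rw [Basis.tensorProduct_apply]
  rw [this, r, Basis.constr_basis]

theorem r_c (x : ExteriorAlgebra A V) : r bas e m (c bas e m x) = x := by
  have : (r bas e m).comp (c bas e m) = LinearMap.id := by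
    refine e.ExteriorAlgebra.ext fun s => ?_
    rw [LinearMap.comp_apply, c_basis, r_basis, if_pos rfl, LinearMap.id_apply]
  exact LinearMap.congr_fun this x

theorem Pj_basis (j : J) (a : J → Q) (s : Finset J) :
    Pj bas e m j (bas a ⊗ₜ e.ExteriorAlgebra s) =
      if a j = w m s j then bas a ⊗ₜ e.ExteriorAlgebra s else 0 := by
  rw [Pj, LinearMap.add_apply, TensorProduct.map_tmul, TensorProduct.map_tmul, EC_basis, CE_basis, pr, pr,
    slot_diagonal, slot_diagonal, w]
  by_cases hj : j ∈ s
  · simp only [if_pos hj, tmul_zero, add_zero]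
    by_cases h : a j = (m j).m1
    · rw [h]; simp
    · simp [h]
  · simp only [if_neg hj, tmul_zero, zero_add]
    by_cases h : a j = (m j).m0
    · rw [h]; simp
    · simp [h]

theorem prod_basis (l : List J) (a : J → Q) (s : Finset J) :
    (l.map (Pj bas e m)).prod (bas a ⊗ₜ e.ExteriorAlgebra s) =
      if ∀ j ∈ l, a j = w m s j then bas a ⊗ₜ e.ExteriorAlgebra s else 0 := by
  induction l with
  | nil => simp
  | cons j l ih =>
    rw [List.map_cons, List.prod_cons, Module.End.mul_apply, ih]
    by_cases h : ∀ i ∈ l, a i = w m s i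
    · rw [if_pos h, Pj_basis]
      by_cases h' : a j = w m s j
      · rw [if_pos h', if_pos]
        intro i hi
        rcases List.mem_cons.1 hi with rfl | hi
        · exact h'
        · exact h i hi
      · rw [if_neg h', if_neg]
        exact fun H => h' (H j (List.mem_cons_self ..))
    · rw [if_neg h, map_zero, if_neg]
      exact fun H => h fun i hi => H i (List.mem_cons_of_mem _ hi)

theorem prod_eq : ((Finset.univ : Finset J).toList.map (Pj bas e m)).prod = (c bas e m).comp (r bas e m) := by
  refine (bas.tensorProduct e.ExteriorAlgebra).ext fun x => ?_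
  obtain ⟨a, s⟩ := x
  rw [Basis.tensorProduct_apply, prod_basis, LinearMap.comp_apply, r_basis]
  by_cases h : a = w m s
  · rw [if_pos h, if_pos, c_basis, h]
    intro j _
    rw [h]
  · rw [if_neg h, if_neg, map_zero]
    intro H
    exact h (funext fun j => H j (Finset.mem_toList.2 (Finset.mem_univ j)))

theorem sum_eq : ((Finset.univ : Finset J).toList.map (Dj bas e m)).sum = D bas e m := by
  rw [D, ← Finset.sum_map_toList]

/-- **The Cartier isomorphism**, as a homotopy. -/
theorem exists_homotopy (G : AddSubgroup (Module.End A (B ⊗[A] ExteriorAlgebra A V)))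
    (hG : ∀ j, Hj bas e m j ∈ G) (hPG : ∀ j, ∀ x ∈ G, Pj bas e m j * x ∈ G) :
    ∃ H ∈ G, (∀ x, D bas e m (H x) + H (D bas e m x) = x - c bas e m (r bas e m x)) ∧
      (∀ x, r bas e m (D bas e m x) = 0) ∧ ∀ x, D bas e m (c bas e m x) = 0 := by
  obtain ⟨H, hH, h1, h2, h3, -⟩ := Kos.exists_homotopy (pack bas e m) G hG hPG (Finset.univ : Finset J).toList
    (Finset.nodup_toList _)
  rw [sum_eq, prod_eq] at h1 h2 h3
  refine ⟨H, hH, fun x => LinearMap.congr_fun h1 x, fun x => ?_, fun x => ?_⟩
  · have := LinearMap.congr_fun h3 x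
    change c bas e m (r bas e m (D bas e m x)) = 0 at this
    rw [← r_c bas e m (r bas e m (D bas e m x)), this, map_zero]
  · have := LinearMap.congr_fun h2 (c bas e m x)
    change D bas e m (c bas e m (r bas e m (c bas e m x))) = 0 at this
    rwa [r_c] at this

end K904.Cartier
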