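import Groth.Agent.DelIll.K904.FrobMaps
import Groth.Agent.DelIll.K904.DR
import Mathlib.RingTheory.Flat.TorsionFree
import Mathlib.RingTheory.Smooth.Flat

/-!
# Lifted logarithmic charts on a ring, and the maps `f`, `h` attached to them

`Ch lift δ`: lifted étale coordinates `xt : Fin n → Bt`, a basis `e` of `L`, some coordinates being logarithmic.
`c.f : L →+ L`, `hh hdiv : L →+ B` for two charts.
-/

set_option autoImplicit false
set_option linter.unusedSectionVars false
set_option linter.style.haveILetI false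

open FrobAlg K673.W2Basic K673.Lift K674.Ghost Module

namespace K904.Ch

open _root_.K904.Witt _root_.K904.EtLift _root_.K904.LocalCartier _root_.K904.FrobMaps

universe u v

/-- Étale coordinates are nonzerodivisors. -/
theorem mem_nonZeroDivisors {k : Type u} [Field k] {B : Type u} [CommRing B] [Algebra k B] {n : ℕ} {x : Fin n → B}
    (hx : (coord k x).Etale) (j : Fin n) : x j ∈ nonZeroDivisors B := by
  letI : Algebra (MvPolynomial (Fin n) k) B := (coord k x).toAlgebra
  haveI : Algebra.Etale (MvPolynomial (Fin n) k) B := hx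
  have h1 : (MvPolynomial.X j : MvPolynomial (Fin n) k) ∈ nonZeroDivisors (MvPolynomial (Fin n) k) :=
    mem_nonZeroDivisors_of_ne_zero (MvPolynomial.X_ne_zero j)
  have h2 : IsSMulRegular B (MvPolynomial.X j : MvPolynomial (Fin n) k) :=
    Module.Flat.isSMulRegular_of_nonZeroDivisors h1
  rw [mem_nonZeroDivisors_iff_left]
  intro b hb
  apply h2
  change (MvPolynomial.X j : MvPolynomial (Fin n) k) • b = (MvPolynomial.X j : MvPolynomial (Fin n) k) • 0
  rw [smul_zero, Algebra.smul_def]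
  change coord k x (MvPolynomial.X j) * b = 0
  rw [coord_X]
  exact hb

variable {p : ℕ} [Fact p.Prime] {k : Type u} [Field k] [CharP k p] [PerfectRing k p]

/-- A ring `B` over `k` with a flat lifting `Bt` over `W₂(k)` and a derivation `δ : B → L`. -/
structure Dt (p : ℕ) [Fact p.Prime] (k : Type u) [Field k] [CharP k p] [PerfectRing k p]
    (B Bt : Type u) (L : Type v) [CommRing B] [Algebra k B] [CommRing Bt] [AddCommGroup L] [Module B L] where
  /-- the structure map of the lifting -/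
  ι : W2 p k →+* Bt
  /-- the reduction -/
  π : Bt →+* B
  lift : IsLift p k B Bt ι π
  /-- the derivation -/
  δ : B →+ L
  leib : ∀ b c, δ (b * c) = b • δ c + c • δ b
  δk : ∀ a : k, δ (algebraMap k B a) = 0

variable {B Bt : Type u} {L : Type v} [CommRing B] [CharP B p] [Algebra k B] [CommRing Bt] [AddCommGroup L]
  [Module B L]

/-- A lifted logarithmic chart. -/
structure Chart (X : Dt p k B Bt L) where
  /-- the number of coordinates -/
  n : ℕ
  /-- which coordinates are logarithmic -/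
  S : Fin n → Prop
  /-- the lifted coordinates -/
  xt : Fin n → Bt
  /-- the basis of logarithmic forms -/
  e : Basis (Fin n) B L
  log : ∀ j, S j → X.δ (X.π (xt j)) = X.π (xt j) • e j
  plain : ∀ j, ¬ S j → X.δ (X.π (xt j)) = e j
  et : (coord k (fun j => X.π (xt j))).Etale

variable {X : Dt p k B Bt L}

/-- The coordinates. -/
def Chart.x (c : Chart X) (j : Fin c.n) : B := X.π (c.xt j)

theorem Chart.logChart (c : Chart X) : LogChart p c.S c.x X.δ c.e where
  pbasis := PBasis.isPBasis_of_etale_coord p (k := k) c.x c.et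
  leib := X.leib
  log := c.log
  plain := c.plain

theorem Chart.reg (c : Chart X) (j : Fin c.n) : c.x j ∈ nonZeroDivisors B := mem_nonZeroDivisors c.et j

/-- The map `f`. -/
noncomputable def Chart.f (c : Chart X) : L →+ L := fadd p c.S c.x c.e

theorem Chart.f_smul (c : Chart X) (b : B) (ω : L) : c.f (b • ω) = b ^ p • c.f ω := fadd_smul b ω

/-- The Witt section. -/
noncomputable def Chart.s (c : Chart X) : Bt →+* W2 p B := (existsUnique_sec X.lift c.xt c.et).choose

theorem Chart.isSec (c : Chart X) : IsSec k X.ι X.π c.xt c.s := (existsUnique_sec X.lift c.xt c.et).choose_spec.1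

theorem Chart.f_δ (c : Chart X) (b : Bt) :
    c.f (X.δ (X.π b)) = X.π b ^ (p - 1) • X.δ (X.π b) + X.δ (lam c.s b) :=
  fadd_δ c.logChart X.δk X.lift (fun _ => rfl) c.et c.isSec b

/-- The divisibility which makes `h` regular. -/
def Div (c c' : Chart X) : Prop := ∀ j, c.S j → ∃ g, lam c'.s (c.xt j) = c.x j ^ p * g

theorem div_refl (c : Chart X) : Div c c := fun j _ => ⟨0, by rw [lam_coord c.isSec, mul_zero]⟩

theorem div_of_isUnit (c c' : Chart X) (h : ∀ j, c.S j → IsUnit (c.x j)) : Div c c' := by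
  intro j hj
  obtain ⟨u, hu⟩ := h j hj
  refine ⟨((u⁻¹ : Bˣ) : B) ^ p * lam c'.s (c.xt j), ?_⟩
  rw [← hu, ← mul_assoc, ← mul_pow, Units.mul_inv, one_pow, one_mul]

/-- Divisibility: each logarithmic coordinate of `c` is a unit or a unit times a logarithmic coordinate of `c'`. -/
theorem div_of_rel (c c' : Chart X)
    (h : ∀ j, c.S j → IsUnit (c.x j) ∨ ∃ (j' : Fin c'.n) (u : Bt), IsUnit u ∧ c.xt j = u * c'.xt j') : Div c c' := by
  intro j hj
  rcases h j hj with ⟨u, hu⟩ | ⟨j', u, hu, hxt⟩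
  · refine ⟨((u⁻¹ : Bˣ) : B) ^ p * lam c'.s (c.xt j), ?_⟩
    rw [← hu, ← mul_assoc, ← mul_pow, Units.mul_inv, one_pow, one_mul]
  · obtain ⟨w, rfl⟩ := hu
    refine ⟨(X.π ((w⁻¹ : Btˣ) : Bt)) ^ p * lam c'.s (w : Bt), ?_⟩
    rw [hxt, lam_mul c'.isSec, lam_coord c'.isSec, mul_zero, zero_add, Chart.x, hxt, ← mul_assoc, ← mul_pow,
      mul_comm (X.π _) (X.π ((w⁻¹ : Btˣ) : Bt)), ← map_mul, ← mul_assoc, Units.inv_mul, one_mul]

/-- Existence of `h`. -/
theorem exists_hh (c c' : Chart X) (hdiv : Div c c') :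
    ∃ h : L →+ B, (∀ (b : B) (ω : L), h (b • ω) = b ^ p * h ω) ∧
      ∀ b : Bt, h (X.δ (X.π b)) = lam c'.s b - lam c.s b := by
  obtain ⟨η, h1, h2, h3⟩ := exists_eta X.lift c.isSec c'.isSec
  obtain ⟨h, h4, h5⟩ := exists_h (k := k) c.logChart X.δk c.et η h2 h3 (fun j hj => by
    obtain ⟨g, hg⟩ := hdiv j hj
    refine ⟨g, ?_⟩
    rw [Chart.x, h1, lam_coord c.isSec, sub_zero, hg]
    rfl)
  exact ⟨h, h4, fun b => by rw [h5, h1]⟩

/-- The map `h` of two charts. -/
noncomputable def hh {c c' : Chart X} (hdiv : Div c c') : L →+ B := (exists_hh c c' hdiv).choose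

theorem hh_smul {c c' : Chart X} (hdiv : Div c c') (b : B) (ω : L) : hh hdiv (b • ω) = b ^ p * hh hdiv ω :=
  (exists_hh c c' hdiv).choose_spec.1 b ω

theorem hh_δ {c c' : Chart X} (hdiv : Div c c') (b : Bt) : hh hdiv (X.δ (X.π b)) = lam c'.s b - lam c.s b :=
  (exists_hh c c' hdiv).choose_spec.2 b

theorem reg_pow {M : Type*} [AddCommGroup M] [Module B M] {J : Type*} (e : Basis J B M) {b : B}
    (hb : b ∈ nonZeroDivisors B) (m : M) (h : b ^ p • m = 0) : m = 0 := by
  apply e.repr.injective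
  ext j
  have h3 := congrArg (fun w => e.repr w j) h
  simp only [map_smul, Finsupp.smul_apply, smul_eq_mul, map_zero, Finsupp.zero_apply] at h3
  rw [map_zero, Finsupp.zero_apply]
  exact (mul_left_mem_nonZeroDivisors_eq_zero_iff (pow_mem hb p)).1 h3

theorem hh_cocycle {c c' c'' : Chart X} (h1 : Div c c') (h2 : Div c' c'') (h3 : Div c c'') (ω : L) :
    hh h1 ω + hh h2 ω = hh h3 ω := by
  have key : hh h1 + hh h2 = hh h3 := by
    refine semi_ext c.logChart (M := B) (fun j _ m hm => ?_) _ _ (fun b ω => ?_) (fun b ω => hh_smul h3 b ω)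
      (fun b => ?_)
    · exact (mul_left_mem_nonZeroDivisors_eq_zero_iff (pow_mem (c.reg j) p)).1 hm
    · change hh h1 (b • ω) + hh h2 (b • ω) = b ^ p • (hh h1 ω + hh h2 ω)
      rw [hh_smul, hh_smul, smul_eq_mul, mul_add]
    · obtain ⟨b, rfl⟩ := X.lift.surj b
      change hh h1 _ + hh h2 _ = _
      rw [hh_δ, hh_δ, hh_δ]
      ring
  exact DFunLike.congr_fun key ω

theorem δ_pow (c : Chart X) (b : B) : X.δ (b ^ p) = 0 := by
  rw [← c.e.sum_repr (X.δ (b ^ p))]
  refine Finset.sum_eq_zero fun j _ => ?_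
  have := θ_pow_p c.logChart j b
  change c.e.coord j (X.δ (b ^ p)) = 0 at this
  rw [Basis.coord_apply] at this
  rw [this, zero_smul]

theorem δ_pow_mul (c : Chart X) (b a : B) : X.δ (b ^ p * a) = b ^ p • X.δ a := by
  rw [X.leib, δ_pow c, smul_zero, add_zero]

theorem f_sub_f {c c' : Chart X} (hdiv : Div c c') (ω : L) : c'.f ω - c.f ω = X.δ (hh hdiv ω) := by
  have key : c'.f - c.f = X.δ.comp (hh hdiv) := by
    refine semi_ext c.logChart (M := L) (fun j _ m hm => reg_pow c.e (c.reg j) m hm) _ _ (fun b ω => ?_)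
      (fun b ω => ?_) (fun b => ?_)
    · change c'.f (b • ω) - c.f (b • ω) = b ^ p • (c'.f ω - c.f ω)
      rw [c'.f_smul, c.f_smul, smul_sub]
    · change X.δ (hh hdiv (b • ω)) = b ^ p • X.δ (hh hdiv ω)
      rw [hh_smul, δ_pow_mul c]
    · obtain ⟨b, rfl⟩ := X.lift.surj b
      change c'.f _ - c.f _ = X.δ (hh hdiv _)
      rw [hh_δ, c'.f_δ, c.f_δ, map_sub]
      abel
  exact DFunLike.congr_fun key ω

end K904.Ch
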