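import Groth.Agent.DelIll.K904.Ch

/-!
# Restriction of lifted charts
-/

set_option autoImplicit false
set_option linter.unusedSectionVars false
set_option linter.style.haveILetI false

open FrobAlg K673.W2Basic K673.Lift K674.Ghost Module

namespace K904.Ch

open _root_.K904.Witt _root_.K904.EtLift _root_.K904.LocalCartier _root_.K904.FrobMaps

universe u v

variable {p : ℕ} [Fact p.Prime] {k : Type u} [Field k] [CharP k p] [PerfectRing k p]
variable {B Bt : Type u} {L : Type v} [CommRing B] [CharP B p] [Algebra k B] [CommRing Bt] [AddCommGroup L]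
  [Module B L]
variable {B' Bt' : Type u} {L' : Type v} [CommRing B'] [CharP B' p] [Algebra k B'] [CommRing Bt'] [AddCommGroup L']
  [Module B' L']
variable {B'' Bt'' : Type u} {L'' : Type v} [CommRing B''] [CharP B'' p] [Algebra k B''] [CommRing Bt'']
  [AddCommGroup L''] [Module B'' L'']

/-- Uniqueness of Witt sections with values in another ring. -/
theorem sec_unique {ι : W2 p k →+* Bt} {π : Bt →+* B} (h : IsLift p k B Bt ι π) {J : Type} (xt : J → Bt)
    (hx : (coord k (fun j => π (xt j))).Etale)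
    (s₁ s₂ : Bt →+* W2 p B') (h0 : ∀ b, (s₁ b).coeff 0 = (s₂ b).coeff 0) (h1 : ∀ w, s₁ (ι w) = s₂ (ι w))
    (h2 : ∀ j, s₁ (xt j) = s₂ (xt j)) : s₁ = s₂ := by
  letI : Algebra (MvPolynomial J (W2 p k)) Bt := (coordt ι xt).toAlgebra
  haveI := formallyEtale h xt hx
  letI : Algebra (MvPolynomial J (W2 p k)) (W2 p B') := (s₁.comp (coordt ι xt)).toAlgebra
  have hc : s₂.comp (coordt ι xt) = s₁.comp (coordt ι xt) := by
    refine MvPolynomial.ringHom_ext (fun w => ?_) (fun j => ?_)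
    · rw [RingHom.comp_apply, coordt_C, RingHom.comp_apply, coordt_C, h1]
    · rw [RingHom.comp_apply, coordt_X, RingHom.comp_apply, coordt_X, h2]
  let a₁ : Bt →ₐ[MvPolynomial J (W2 p k)] W2 p B' := { s₁ with commutes' := fun f => rfl }
  let a₂ : Bt →ₐ[MvPolynomial J (W2 p k)] W2 p B' := { s₂ with commutes' := fun f => congr($hc f) }
  have key : a₁ = a₂ := by
    refine Algebra.FormallyUnramified.lift_unique_of_ringHom (res p B') ker_res_nilpotent a₁ a₂ ?_
    ext b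
    change res p B' (s₁ b) = res p B' (s₂ b)
    rw [res_apply, res_apply, h0]
  ext1 b
  exact congr($key b)

/-- A morphism of the data. -/
structure Mor (X : Dt p k B Bt L) (X' : Dt p k B' Bt' L') where
  /-- on functions -/
  ρ : B →+* B'
  /-- on functions of the lifting -/
  ρt : Bt →+* Bt'
  /-- on forms -/
  g : L →+ L'
  ρk : ∀ a : k, ρ (algebraMap k B a) = algebraMap k B' a
  comm : ∀ b, ρ (X.π b) = X'.π (ρt b)
  ρι : ∀ w, ρt (X.ι w) = X'.ι w
  g_smul : ∀ (b : B) (ω : L), g (b • ω) = ρ b • g ω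
  g_δ : ∀ b, g (X.δ b) = X'.δ (ρ b)

variable {X : Dt p k B Bt L} {X' : Dt p k B' Bt' L'} {X'' : Dt p k B'' Bt'' L''}

/-- `c'` is the restriction of the chart `c` along `m`. -/
def IsRes (m : Mor X X') (c : Chart X) (c' : Chart X') : Prop :=
  ∃ σ : Fin c.n ≃ Fin c'.n, (∀ j, c'.xt (σ j) = m.ρt (c.xt j)) ∧ (∀ j, c'.e (σ j) = m.g (c.e j)) ∧
    ∀ j, c'.S (σ j) ↔ c.S j

theorem IsRes.of_comp {m : Mor X X'} {m' : Mor X' X''} {m'' : Mor X X''} (hρ : ∀ b, m''.ρt b = m'.ρt (m.ρt b))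
    (hg : ∀ b, m''.g b = m'.g (m.g b)) {c : Chart X} {c' : Chart X'} {c'' : Chart X''} (h : IsRes m c c')
    (h'' : IsRes m'' c c'') : IsRes m' c' c'' := by
  obtain ⟨σ, h1, h2, h3⟩ := h
  obtain ⟨τ, h4, h5, h6⟩ := h''
  refine ⟨σ.symm.trans τ, fun j => ?_, fun j => ?_, fun j => ?_⟩
  · obtain ⟨i, rfl⟩ := σ.surjective j
    rw [Equiv.trans_apply, Equiv.symm_apply_apply, h4, hρ, h1]
  · obtain ⟨i, rfl⟩ := σ.surjective j
    rw [Equiv.trans_apply, Equiv.symm_apply_apply, h5, hg, h2]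
  · obtain ⟨i, rfl⟩ := σ.surjective j
    rw [Equiv.trans_apply, Equiv.symm_apply_apply, h6, h3]

section res

variable {m : Mor X X'} {c : Chart X} {c' : Chart X'} (h : IsRes m c c')
include h

theorem IsRes.s_eq (b : Bt) : c'.s (m.ρt b) = WittGrp.truncMap p 2 m.ρ (c.s b) := by
  obtain ⟨σ, h1, h2, h3⟩ := h
  have key : c'.s.comp m.ρt = (WittGrp.truncMap p 2 m.ρ).comp c.s := by
    refine sec_unique X.lift c.xt c.et _ _ (fun b => ?_) (fun w => ?_) (fun j => ?_)
    · rw [RingHom.comp_apply, c'.isSec.res, ← m.comm, RingHom.comp_apply, WittGrp.coeff_truncMap, c.isSec.res]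
    · rw [RingHom.comp_apply, m.ρι, c'.isSec.base, RingHom.comp_apply, c.isSec.base]
      refine TruncatedWittVector.ext fun i => ?_
      rw [WittGrp.coeff_truncMap, WittGrp.coeff_truncMap, WittGrp.coeff_truncMap, m.ρk]
    · rw [RingHom.comp_apply, ← h1, c'.isSec.coord, RingHom.comp_apply, c.isSec.coord, h1, ← m.comm]
      refine ext2 ?_ ?_
      · rw [tau_zero, WittGrp.coeff_truncMap, tau_zero]
      · rw [tau_one, WittGrp.coeff_truncMap, tau_one, map_zero]
  exact congr($key b)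

theorem IsRes.lam_eq (b : Bt) : lam c'.s (m.ρt b) = m.ρ (lam c.s b) := by
  rw [lam, h.s_eq, WittGrp.coeff_truncMap]; rfl

theorem IsRes.f_eq (ω : L) : c'.f (m.g ω) = m.g (c.f ω) := by
  obtain ⟨σ, h1, h2, h3⟩ := h
  rw [← c.e.sum_repr ω, map_sum, map_sum, map_sum, map_sum]
  refine Finset.sum_congr rfl fun j _ => ?_
  rw [m.g_smul, c'.f_smul, c.f_smul, m.g_smul, map_pow, ← h2]
  congr 1
  rw [Chart.f, Chart.f, fadd_basis, fadd_basis]
  by_cases hS : c.S j
  · rw [if_pos hS, if_pos ((h3 j).2 hS), h2]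
  · rw [if_neg hS, if_neg (fun h' => hS ((h3 j).1 h')), m.g_smul, h2, map_pow, Chart.x, Chart.x, h1, m.comm]

theorem IsRes.hh_eq {c₁ : Chart X} {c₁' : Chart X'} (h₁ : IsRes m c₁ c₁') (hdiv : Div c c₁) (hdiv' : Div c' c₁')
    (ω : L) : hh hdiv' (m.g ω) = m.ρ (hh hdiv ω) := by
  have hh' := h
  obtain ⟨σ, h1, h2, h3⟩ := h
  have hon : ∀ b : Bt, hh hdiv' (m.g (X.δ (X.π b))) = m.ρ (hh hdiv (X.δ (X.π b))) := by
    intro b
    rw [m.g_δ, m.comm, hh_δ, hh_δ, map_sub, hh'.lam_eq, h₁.lam_eq]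
  have he : ∀ j, hh hdiv' (m.g (c.e j)) = m.ρ (hh hdiv (c.e j)) := by
    intro j
    by_cases hS : c.S j
    · have h4 := hon (c.xt j)
      rw [c.log j hS, m.g_smul, hh_smul, hh_smul, map_mul, map_pow] at h4
      have h5 : m.ρ (X.π (c.xt j)) ^ p ∈ nonZeroDivisors B' := by
        rw [m.comm, ← h1]
        exact pow_mem (c'.reg (σ j)) p
      rw [← sub_eq_zero]
      refine (mul_left_mem_nonZeroDivisors_eq_zero_iff h5).1 ?_
      rw [mul_sub, h4, sub_self]
    · have h4 := hon (c.xt j)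
      rwa [c.plain j hS] at h4
  rw [← c.e.sum_repr ω, map_sum, map_sum, map_sum, map_sum]
  refine Finset.sum_congr rfl fun j _ => ?_
  rw [m.g_smul, hh_smul, hh_smul, map_mul, map_pow, he]

end res

end K904.Ch
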