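import Groth.Agent.DelIll.K912.Stair

/-!
# The Alexander--Whitney product on the total Čech complex
-/

set_option autoImplicit false

namespace K904.Cup

open K912.Seq K912.Cx K912.Stair

variable {ι W : Type*} [Ring W]

/-- The product of an element of total degree `m` with an arbitrary element. -/
def cup (m : ℕ) (x u : T ι W) : T ι W := fun n i =>
  ∑ q ∈ Finset.range (n + 1), (-1 : ℤ) ^ ((m + q) * (n - q)) • (x q i * u (n - q) (shift q i))

theorem cup_apply (m : ℕ) (x u : T ι W) (n : ℕ) (i : ℕ → ι) : cup m x u n i =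
    ∑ q ∈ Finset.range (n + 1), (-1 : ℤ) ^ ((m + q) * (n - q)) • (x q i * u (n - q) (shift q i)) := rfl

theorem cup_add (m : ℕ) (x x' u : T ι W) : cup m (x + x') u = cup m x u + cup m x' u := by
  funext n i
  simp only [cup_apply, Pi.add_apply, add_mul, smul_add, Finset.sum_add_distrib]

theorem cup_zero (m : ℕ) (u : T ι W) : cup m 0 u = 0 := by
  funext n i
  simp only [cup_apply, Pi.zero_apply, zero_mul, smul_zero, Finset.sum_const_zero]

theorem cup_neg (m : ℕ) (x u : T ι W) : cup m (-x) u = -cup m x u := by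
  rw [eq_neg_iff_add_eq_zero, ← cup_add, neg_add_cancel, cup_zero]

theorem cup_sub (m : ℕ) (x x' u : T ι W) : cup m (x - x') u = cup m x u - cup m x' u := by
  rw [sub_eq_add_neg, cup_add, cup_neg, sub_eq_add_neg]

theorem cup_add_right (m : ℕ) (x u u' : T ι W) : cup m x (u + u') = cup m x u + cup m x u' := by
  funext n i
  simp only [cup_apply, Pi.add_apply, mul_add, smul_add, Finset.sum_add_distrib]

theorem cup_zero_right (m : ℕ) (x : T ι W) : cup m x 0 = 0 := by
  funext n i
  simp only [cup_apply, Pi.zero_apply, mul_zero, smul_zero, Finset.sum_const_zero]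

theorem cup_sum (m : ℕ) {α : Type*} (s : Finset α) (x : α → T ι W) (u : T ι W) :
    cup m (∑ a ∈ s, x a) u = ∑ a ∈ s, cup m (x a) u := by
  classical
  induction s using Finset.induction_on with
  | empty => rw [Finset.sum_empty, Finset.sum_empty, cup_zero]
  | insert a s ha ih => rw [Finset.sum_insert ha, Finset.sum_insert ha, cup_add, ih]

theorem cup_congr (m : ℕ) {x x' : T ι W} (u : T ι W) {n : ℕ} (h : ∀ q ≤ n, x q = x' q) :
    cup m x u n = cup m x' u n := by
  funext i
  rw [cup_apply, cup_apply]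
  refine Finset.sum_congr rfl fun q hq => ?_
  rw [h q (by have := Finset.mem_range.1 hq; omega)]

theorem cup_sing (m q : ℕ) (c : (ℕ → ι) → W) (u : T ι W) (n : ℕ) (i : ℕ → ι) :
    cup m (sing q c) u n i =
      if q ≤ n then (-1 : ℤ) ^ ((m + q) * (n - q)) • (c i * u (n - q) (shift q i)) else 0 := by
  rw [cup_apply]
  split_ifs with h
  · rw [Finset.sum_eq_single q]
    · rw [sing_self]
    · intro b _ hb
      rw [sing_ne hb, Pi.zero_apply, zero_mul, smul_zero]
    · intro hq
      exact absurd (Finset.mem_range.2 (by omega)) hq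
  · refine Finset.sum_eq_zero fun b hb => ?_
    rw [sing_ne (by have := Finset.mem_range.1 hb; omega), Pi.zero_apply, zero_mul, smul_zero]

theorem cup_sing_add (m q r : ℕ) (c : (ℕ → ι) → W) (u : T ι W) (i : ℕ → ι) :
    cup m (sing q c) u (q + r) i = (-1 : ℤ) ^ ((m + q) * r) • (c i * u r (shift q i)) := by
  rw [cup_sing, if_pos (by omega), Nat.add_sub_cancel_left]

theorem cup_sing_lt (m : ℕ) {q n : ℕ} (h : n < q) (c : (ℕ → ι) → W) (u : T ι W) :
    cup m (sing q c) u n = 0 := by
  funext i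
  rw [cup_sing, if_neg (by omega)]
  rfl

/-- The value in the lowest degree. -/
theorem cup_low (m : ℕ) {x : T ι W} {n : ℕ} (hx : ∀ q < n, x q = 0) (u : T ι W) (i : ℕ → ι) :
    cup m x u n i = x n i * u 0 (shift n i) := by
  rw [cup_apply, Finset.sum_eq_single n]
  · rw [Nat.sub_self, Nat.mul_zero, pow_zero, one_smul]
  · intro q hq hq'
    rw [hx q (by have := Finset.mem_range.1 hq; omega), Pi.zero_apply, zero_mul, smul_zero]
  · intro hn
    exact absurd (Finset.mem_range.2 (by omega)) hn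

theorem cup_eq_zero (m : ℕ) {x : T ι W} {n : ℕ} (hx : ∀ q ≤ n, x q = 0) (u : T ι W) :
    cup m x u n = 0 := by
  rw [cup_congr m (x' := 0) u hx, cup_zero]
  rfl

theorem mul_delta (n : ℕ) (w : W) (c : (ℕ → ι) → W) (i : ℕ → ι) :
    w * δ n c i = ∑ j ∈ Finset.range (n + 2), (-1 : ℤ) ^ j • (w * c (face j i)) := by
  rw [δ_apply, Finset.mul_sum]
  exact Finset.sum_congr rfl fun j _ => by rw [mul_smul_comm]

theorem delta_mul (n : ℕ) (w : W) (c : (ℕ → ι) → W) (i : ℕ → ι) :
    δ n c i * w = ∑ j ∈ Finset.range (n + 2), (-1 : ℤ) ^ j • (c (face j i) * w) := by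
  rw [δ_apply, Finset.sum_mul]
  exact Finset.sum_congr rfl fun j _ => by rw [smul_mul_assoc]

/-- The Čech differential of a product. -/
theorem delta_cup (q r : ℕ) {c : (ℕ → ι) → W} (hc : Dep q c) (v : (ℕ → ι) → W) (i : ℕ → ι) :
    δ (q + r) (fun i => c i * v (shift q i)) i =
      δ q c i * v (shift (q + 1) i) + (-1 : ℤ) ^ q • (c i * δ r v (shift q i)) := by
  rw [δ_apply, show q + r + 2 = (q + 1) + (r + 1) by omega, Finset.sum_range_add]
  have e1 : ∑ x ∈ Finset.range (q + 1), (-1 : ℤ) ^ x • (c (face x i) * v (shift q (face x i))) =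
      δ q c i * v (shift (q + 1) i) - (-1 : ℤ) ^ (q + 1) • (c i * v (shift (q + 1) i)) := by
    rw [eq_sub_iff_add_eq, delta_mul, Finset.sum_range_succ (n := q + 1)]
    congr 1
    · refine Finset.sum_congr rfl fun x hx => ?_
      rw [shift_face_le (by have := Finset.mem_range.1 hx; omega)]
    · rw [hc.face_gt (by omega)]
  have e2 : ∑ x ∈ Finset.range (r + 1), (-1 : ℤ) ^ (q + 1 + x) •
      (c (face (q + 1 + x) i) * v (shift q (face (q + 1 + x) i))) =
      (-1 : ℤ) ^ q • (c i * δ r v (shift q i) - c i * v (shift (q + 1) i)) := by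
    rw [mul_delta, Finset.sum_range_succ' (n := r + 1), pow_zero, one_smul, face_zero, shift_shift,
      Nat.add_comm 1 q, add_sub_cancel_right, Finset.smul_sum]
    refine Finset.sum_congr rfl fun x _ => ?_
    rw [hc.face_gt (by omega), show q + 1 + x = q + (x + 1) by omega, shift_face_add, pow_add, mul_smul]
  rw [e1, e2, smul_sub, pow_succ, mul_smul, neg_one_smul]
  simp only [smul_neg]
  abel

/-- The Leibniz rule, one Čech degree. -/
theorem D_cup_sing (d : W →+ W) {u : T ι W} (hu : D d u = 0) (m q : ℕ) {c : (ℕ → ι) → W} (hc : Dep q c)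
    (hl : ∀ i z, d (c i * z) = d (c i) * z + (-1 : ℤ) ^ (m + q) • (c i * d z)) :
    D d (cup m (sing q c) u) = cup (m + 1) (D d (sing q c)) u := by
  funext n
  rcases Nat.lt_trichotomy n q with h | h | h
  · rw [cup_eq_zero (m + 1) (fun q' hq' => D_sing_lt d (by omega) c)]
    rw [D_congr d (y := 0) (fun m' hm' => cup_sing_lt m (by omega) c u), D_zero]
    rfl
  · subst h
    funext i
    rw [cup_low (m + 1) (fun q hq => D_sing_lt d hq c), D_sing_self]
    have h0 : d (u 0 (shift n i)) = 0 := congrFun (congrFun hu 0) (shift n i)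
    have h1 : d (cup m (sing n c) u n i) = d (c i) * u 0 (shift n i) := by
      have h2 := cup_sing_add m n 0 c u i
      rw [Nat.add_zero, Nat.mul_zero, pow_zero, one_smul] at h2
      rw [h2, hl, h0, mul_zero, smul_zero, add_zero]
    cases n with
    | zero => rw [D_zero_apply, h1, pow_zero, one_smul]
    | succ n =>
      rw [D_succ_apply, h1, cup_sing_lt m (by omega : n < n + 1), δ_zero, Pi.zero_apply, zero_add,
        smul_mul_assoc]
  · obtain ⟨r, rfl⟩ : ∃ r, n = q + r + 1 := ⟨n - q - 1, by omega⟩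
    funext i
    rw [D_succ_apply]
    have e1 : cup m (sing q c) u (q + r) = (-1 : ℤ) ^ ((m + q) * r) • fun i => c i * u r (shift q i) := by
      funext i
      rw [cup_sing_add]
      rfl
    have e2 : cup m (sing q c) u (q + r + 1) i =
        (-1 : ℤ) ^ ((m + q) * (r + 1)) • (c i * u (r + 1) (shift q i)) := cup_sing_add m q (r + 1) c u i
    have e3 : D d (sing q c) = sing (q + 1) (δ q c) + sing q (fun i => (-1 : ℤ) ^ q • d (c i)) := by
      funext n i
      rw [Pi.add_apply, Pi.add_apply]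
      rcases lt_trichotomy n q with hn | hn | hn
      · rw [D_sing_lt d hn, sing_ne (by omega), sing_ne (by omega)]
        simp
      · subst hn
        rw [D_sing_self, sing_ne (by omega), sing_self, Pi.zero_apply, zero_add]
      · obtain ⟨n, rfl⟩ : ∃ n', n = n' + 1 := ⟨n - 1, by omega⟩
        rw [D_succ_apply, sing_ne (show n + 1 ≠ q by omega), sing_ne (show n + 1 ≠ q by omega), Pi.zero_apply,
          map_zero, smul_zero, add_zero, add_zero]
        by_cases hn' : n = q
        · subst hn'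
          rw [sing_self, sing_self]
        · rw [sing_ne hn', sing_ne (show n + 1 ≠ q + 1 by omega), δ_zero]
    have e4 : cup (m + 1) (D d (sing q c)) u (q + r + 1) i =
        (-1 : ℤ) ^ ((m + q) * r) • (δ q c i * u r (shift (q + 1) i)) +
        (-1 : ℤ) ^ ((m + 1 + q) * (r + 1)) • ((-1 : ℤ) ^ q • d (c i) * u (r + 1) (shift q i)) := by
      rw [e3, cup_add, Pi.add_apply, Pi.add_apply]
      have h2 : cup (m + 1) (sing q fun i => (-1 : ℤ) ^ q • d (c i)) u (q + r + 1) i =
        (-1 : ℤ) ^ ((m + 1 + q) * (r + 1)) • ((-1 : ℤ) ^ q • d (c i) * u (r + 1) (shift q i)) :=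
        cup_sing_add (m + 1) q (r + 1) (fun i => (-1 : ℤ) ^ q • d (c i)) u i
      rw [h2, show q + r + 1 = (q + 1) + r by omega, cup_sing_add]
      congr 2
      have : (m + 1 + (q + 1)) * r = (m + q) * r + 2 * r := by ring
      rw [this, pow_add, pow_mul (-1 : ℤ) 2, neg_one_sq, one_pow, mul_one]
    rw [e4, e1, e2, δ_smul, Pi.smul_apply, delta_cup q r hc, map_zsmul, hl]
    have hu1 : δ r (u r) (shift q i) = -((-1 : ℤ) ^ (r + 1) • d (u (r + 1) (shift q i))) := by
      have h1 := congrFun (congrFun hu (r + 1)) (shift q i)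
      rw [D_succ_apply] at h1
      exact eq_neg_of_add_eq_zero_left h1
    rw [hu1]
    have p1 : ∀ a b : ℕ, (-1 : ℤ) ^ (a * (b + 1)) = (-1 : ℤ) ^ (a * b) * (-1 : ℤ) ^ a := fun a b => by
      rw [Nat.mul_succ, pow_add]
    have p2 : (-1 : ℤ) ^ ((m + 1 + q) * (r + 1)) = (-1 : ℤ) ^ ((m + q) * r) * (-1 : ℤ) ^ (m + q) * (-1 : ℤ) ^ (r + 1) := by
      rw [← pow_add, ← pow_add]
      congr 1
      ring
    rw [p2, p1]
    have s1 : ∀ a : ℕ, (-1 : ℤ) ^ a * (-1 : ℤ) ^ a = 1 := fun a => by
      rw [← mul_pow]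
      norm_num
    simp only [smul_add, smul_neg, mul_neg, mul_smul_comm, smul_mul_assoc, smul_smul]
    have t1 : (-1 : ℤ) ^ (q + r + 1) = (-1 : ℤ) ^ q * (-1 : ℤ) ^ (r + 1) := by
      rw [← pow_add]
      rfl
    rw [t1]
    have z1 : (-1 : ℤ) ^ q * (-1 : ℤ) ^ (r + 1) * ((-1 : ℤ) ^ ((m + q) * r) * (-1 : ℤ) ^ (m + q) * (-1 : ℤ) ^ (m + q)) =
        (-1 : ℤ) ^ ((m + q) * r) * ((-1 : ℤ) ^ q * (-1 : ℤ) ^ (r + 1)) := by
      rw [mul_assoc ((-1 : ℤ) ^ ((m + q) * r)), s1, mul_one]
      ring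
    have z2 : (-1 : ℤ) ^ ((m + q) * r) * (-1 : ℤ) ^ (m + q) * (-1 : ℤ) ^ (r + 1) * (-1 : ℤ) ^ q =
        (-1 : ℤ) ^ q * (-1 : ℤ) ^ (r + 1) * ((-1 : ℤ) ^ ((m + q) * r) * (-1 : ℤ) ^ (m + q)) := by ring
    rw [z1, z2]
    abel

/-- The Leibniz rule for a closed second factor. -/
theorem D_cup (d : W →+ W) {x u : T ι W} (hu : D d u = 0) (m : ℕ) (hx : ∀ q, Dep q (x q))
    (hl : ∀ q i z, d (x q i * z) = d (x q i) * z + (-1 : ℤ) ^ (m + q) • (x q i * d z)) :
    D d (cup m x u) = cup (m + 1) (D d x) u := by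
  funext n
  have h1 : ∀ m ≤ n, x m = (∑ q ∈ Finset.range (n + 1), sing q (x q)) m := fun m hm =>
    (sum_sing_apply x (by omega)).symm
  have e1 : cup (m + 1) (D d x) u n = cup (m + 1) (D d (∑ q ∈ Finset.range (n + 1), sing q (x q))) u n :=
    cup_congr _ _ (fun m hm => D_congr _ fun q hq => h1 q (hq.trans hm))
  rw [D_congr d (fun m' hm' => cup_congr m u fun q hq => h1 q (hq.trans hm')), e1, cup_sum, D_sum, D_sum, cup_sum]
  rw [Finset.sum_congr rfl fun q _ => D_cup_sing d hu m q (hx q) (hl q)]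

end K904.Cup
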