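import Groth.Agent.DelIll.K904.ChRes
import Groth.Agent.DelIll.K912.Twist

/-!
# The input data of the abstract Deligne--Illusie argument from lifted charts
-/

set_option autoImplicit false
set_option linter.unusedSectionVars false
set_option linter.style.haveILetI false

open FrobAlg K673.W2Basic K673.Lift K674.Ghost Module

namespace K904.LocDat

open _root_.K904.Witt _root_.K904.EtLift _root_.K904.LocalCartier _root_.K904.FrobMaps _root_.K904.Ch
open ExteriorAlgebra (ιMulti ιMulti_range)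

universe u v

variable {p : ℕ} [Fact p.Prime] {k : Type u} [Field k] [CharP k p] [PerfectRing k p]

section dat

variable {R Rt : Type u} {L : Type v} [CommRing R] [CharP R p] [Algebra k R] [CommRing Rt] [AddCommGroup L]
  [Module R L] {X : Dt p k R Rt L}

theorem d_smul' (c : Chart X) (b : R) (y : ExteriorAlgebra R L) :
    d X.δ c.e (b • y) = ExteriorAlgebra.ι R (X.δ b) * y + b • d X.δ c.e y := DR.d_smul c.logChart b y

theorem d_f (c c' : Chart X) (w : L) : d X.δ c.e (ExteriorAlgebra.ι R (c'.f w)) = 0 := by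
  rw [DR.d_eq_d c.logChart c'.logChart (fun j _ => c.reg j)]
  obtain ⟨H, r, h1, h2, h3, h4, -⟩ := LocalCartier.main c'.logChart (fun _ => 0) (fun _ => (Fact.out : p.Prime).pos)
    (fun _ _ => rfl)
  have h5 := h4 (ExteriorAlgebra.ι R w)
  rw [DR.db_zero, cb_apply, c0, Semi.extR_ι] at h5
  have h6 : mon c'.x (fun _ => 0) = 1 := by
    rw [mon]; exact Finset.prod_eq_one fun j _ => pow_zero _
  rw [h6, one_smul] at h5
  exact h5

/-- The data for the abstract argument. -/
noncomputable def dat {I : Type*} (i₀ : I) (c : I → Chart X) (hdiv : ∀ i j, Div (c i) (c j)) :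
    K912.Alt.Dat p I R L where
  d := d X.δ (c i₀).e
  f i := (c i).f
  h i j := hh (hdiv i j)
  f_smul i := (c i).f_smul
  h_smul i j := hh_smul (hdiv i j)
  coc i j l w := hh_cocycle _ _ _ w
  anti i w x := by
    rw [DR.d_mul (c i₀).logChart, d_f, zero_mul, zero_add, Iso.sg_ι, neg_mul]
  diff i j w x := by
    rw [d_smul', add_sub_cancel_right, ← f_sub_f (hdiv i j), map_sub, sub_mul]
  d_pow b x := by
    rw [d_smul', δ_pow (c i₀), map_zero, zero_mul, zero_add]
  d_one := by
    have h := DR.d_algebraMap (c i₀).logChart (1 : R)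
    have h1 : X.δ 1 = 0 := by rw [← map_one (algebraMap k R), X.δk]
    rw [map_one, h1, map_zero] at h
    exact h
  dd := DR.d_d (c i₀).logChart

end dat

section loc

variable {B Bt : Type u} {LB : Type v} [CommRing B] [CharP B p] [Algebra k B] [CommRing Bt] [AddCommGroup LB]
  [Module B LB]
variable {R Rt : Type u} {L : Type v} [CommRing R] [CharP R p] [Algebra k R] [CommRing Rt] [AddCommGroup L]
  [Module R L] [Module k L] [IsScalarTower k R L]
variable {Y : Dt p k B Bt LB} {X : Dt p k R Rt L} (m : Mor Y X)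

/-- The image of the functions. -/
def A : Subalgebra k R := (AlgHom.range { m.ρ with commutes' := m.ρk } : Subalgebra k R)

theorem mem_A {y : R} : y ∈ A m ↔ ∃ b, m.ρ b = y := Iff.rfl

/-- The image of the forms. -/
def N : Submodule k L where
  carrier := Set.range m.g
  zero_mem' := ⟨0, map_zero _⟩
  add_mem' := by
    rintro _ _ ⟨a, rfl⟩ ⟨b, rfl⟩
    exact ⟨a + b, map_add _ _ _⟩
  smul_mem' := by
    rintro t _ ⟨a, rfl⟩
    refine ⟨algebraMap k B t • a, ?_⟩
    rw [m.g_smul, m.ρk, algebraMap_smul]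

theorem mem_N {y : L} : y ∈ N m ↔ ∃ b, m.g b = y := Iff.rfl

theorem f_mem {c : Chart Y} {c' : Chart X} (h : IsRes m c c') (w : L) (hw : w ∈ N m) : c'.f w ∈ N m := by
  obtain ⟨v, rfl⟩ := hw
  exact ⟨c.f v, (h.f_eq v).symm⟩

theorem h_mem {c c₁ : Chart Y} {c' c₁' : Chart X} (h : IsRes m c c') (h₁ : IsRes m c₁ c₁') (hdiv : Div c c₁)
    (hdiv' : Div c' c₁') (w : L) (hw : w ∈ N m) : hh hdiv' w ∈ A m := by
  obtain ⟨v, rfl⟩ := hw
  exact ⟨hh hdiv v, (h.hh_eq h₁ hdiv hdiv' v).symm⟩

/-- The extension of `ρ`, `g` to the exterior algebras. -/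
noncomputable def ex : ExteriorAlgebra B LB →+* ExteriorAlgebra R L := Semi.extR m.ρ m.g m.g_smul

variable {m} {c : Chart Y} {c' : Chart X} (h : IsRes m c c')

theorem ex_smul (b : B) (y : ExteriorAlgebra B LB) : ex m (b • y) = m.ρ b • ex m y := Semi.extR_smul _ _ _ _ _

theorem ex_ι (y : LB) : ex m (ExteriorAlgebra.ι B y) = ExteriorAlgebra.ι R (m.g y) := Semi.extR_ι _ _ _ _

include h in
/-- The image of the basis of the exterior algebra is, up to signs, a part of a basis. -/
theorem ex_injective (hρ : Function.Injective m.ρ) : Function.Injective (ex m) := by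
  obtain ⟨σ, h1, h2, h3⟩ := h
  letI : LinearOrder (Fin c.n) := inferInstance
  let e' : Basis (Fin c.n) R L := c'.e.reindex σ.symm
  have he' : ∀ j, e' j = m.g (c.e j) := fun j => by rw [Basis.reindex_apply, Equiv.symm_symm, h2]
  have hb : ∀ s : Finset (Fin c.n), ex m (c.e.ExteriorAlgebra s) = e'.ExteriorAlgebra s := by
    intro s
    rw [ExteriorAlgebra.basis_apply, ExteriorAlgebra.basis_apply]
    refine (Semi.extR_ιMulti _ _ _ _).trans ?_
    change _ = ιMulti R _ _
    congr 1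
    funext i
    exact (he' _).symm
  rw [injective_iff_map_eq_zero]
  intro y hy
  rw [← c.e.ExteriorAlgebra.sum_repr y, map_sum] at hy
  simp only [ex_smul, hb] at hy
  apply c.e.ExteriorAlgebra.repr.injective
  ext s
  have h4 := congrArg (fun w => e'.ExteriorAlgebra.repr w s) hy
  simp only [map_sum, map_smul, Basis.repr_self, Finsupp.finsetSum_apply, Finsupp.smul_apply, smul_eq_mul,
    map_zero, Finsupp.zero_apply] at h4
  rw [Finset.sum_eq_single s] at h4
  · rw [Finsupp.single_eq_same, mul_one] at h4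
    rw [map_zero, Finsupp.zero_apply]
    exact hρ (h4.trans (map_zero m.ρ).symm)
  · intro t _ hts
    rw [Finsupp.single_eq_of_ne hts.symm, mul_zero]
  · intro h
    exact absurd (Finset.mem_univ _) h

include h in
/-- The differential and `ex`. -/
theorem ex_d (c'' : Chart X) (y : ExteriorAlgebra B LB) : ex m (d Y.δ c.e y) = d X.δ c''.e (ex m y) := by
  rw [DR.d_eq_d c''.logChart c'.logChart (fun j _ => c''.reg j)]
  refine DR.extR_d c.logChart c'.logChart m.ρ m.g m.g_smul m.g_δ (fun j _ => ?_) y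
  obtain ⟨σ, h1, -⟩ := h
  have : m.ρ (c.x j) = c'.x (σ j) := by rw [Chart.x, m.comm, ← h1]; rfl
  rw [this]
  exact c'.reg _

/-- The derivative of a logarithmic monomial. -/
theorem δ_mon (pole : Fin c.n → ℕ) (hpole : ∀ j, ¬ c.S j → pole j = 0) :
    Y.δ (mon c.x pole) = mon c.x pole • ∑ j, pole j • c.e j := by
  classical
  have hone : Y.δ 1 = 0 := by rw [← map_one (algebraMap k B), Y.δk]
  have hpow : ∀ (j : Fin c.n) (n : ℕ), c.S j → Y.δ (c.x j ^ n) = c.x j ^ n • n • c.e j := by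
    intro j n hS
    induction n with
    | zero => rw [pow_zero, hone, zero_smul, smul_zero]
    | succ n ih =>
      have hlog : Y.δ (c.x j) = c.x j • c.e j := c.log j hS
      rw [pow_succ, Y.leib, ih, hlog, smul_smul, smul_smul, mul_comm (c.x j) (c.x j ^ n), ← smul_add]
      congr 1
      rw [add_smul, one_smul, add_comm]
  have key : ∀ s : Finset (Fin c.n), Y.δ (∏ j ∈ s, c.x j ^ pole j) = (∏ j ∈ s, c.x j ^ pole j) • ∑ j ∈ s, pole j • c.e j := by
    intro s
    induction s using Finset.induction_on with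
    | empty => simp [hone]
    | insert j s hj ih =>
      rw [Finset.prod_insert hj, Finset.sum_insert hj, Y.leib, ih, smul_add, smul_smul]
      have : Y.δ (c.x j ^ pole j) = c.x j ^ pole j • pole j • c.e j := by
        by_cases hS : c.S j
        · exact hpow j _ hS
        · rw [hpole j hS, pow_zero, hone, zero_smul, smul_zero]
      rw [this, smul_smul, mul_comm (∏ i ∈ s, _), add_comm]
  exact key Finset.univ

include h in
/-- The key formula for the differential with poles. -/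
theorem smul_d (c'' : Chart X) (pole : Fin c.n → ℕ) (hpole : ∀ j, ¬ c.S j → pole j = 0) (x : ExteriorAlgebra R L)
    (y : ExteriorAlgebra B LB) (hxy : m.ρ (mon c.x pole) • x = ex m y) :
    m.ρ (mon c.x pole) • d X.δ c''.e x = ex m (db Y.δ c.e pole y) := by
  have h1 := ex_d h c'' y
  rw [← hxy, d_smul', ← m.g_δ, δ_mon pole hpole, m.g_smul, map_smul, Algebra.smul_mul_assoc,
    ← Algebra.mul_smul_comm, hxy] at h1
  have h2 : ex m (∑ j, pole j • (ExteriorAlgebra.ι B (c.e j) * y)) =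
      ExteriorAlgebra.ι R (m.g (∑ j, pole j • c.e j)) * ex m y := by
    rw [map_sum, map_sum, map_sum, Finset.sum_mul]
    refine Finset.sum_congr rfl fun j _ => ?_
    rw [map_nsmul, map_mul, ex_ι, map_nsmul, map_nsmul, smul_mul_assoc]
  rw [db_apply, map_sub, h1, h2, add_sub_cancel_left]

section lattice

variable (pole : Fin c.n → ℕ) (P : Submodule k R)
  (hP : ∀ y, y ∈ P ↔ m.ρ (mon c.x pole) * y ∈ A m) (hμ : IsUnit (m.ρ (mon c.x pole)))

open K912.Alt

include h hP hμ in
/-- Elements of the lattice. -/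
theorem mem_lat_iff (a : ℕ) (x : ExteriorAlgebra R L) :
    x ∈ lat P (N m) a ↔ ∃ y ∈ ⋀[B]^a LB, m.ρ (mon c.x pole) • x = ex m y := by
  constructor
  · intro hx
    induction hx using Submodule.span_induction with
    | mem x hx =>
      obtain ⟨q, hq, w, hw, rfl⟩ := hx
      obtain ⟨b, hb⟩ := (mem_A m).1 ((hP q).1 hq)
      choose v hv using hw
      refine ⟨b • ιMulti B a v, Submodule.smul_mem _ _ (ιMulti_range B a ⟨_, rfl⟩), ?_⟩
      rw [ex_smul, smul_smul, ← hb]
      congr 1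
      refine Eq.trans ?_ (Semi.extR_ιMulti _ _ _ _).symm
      congr 1
      funext i
      exact (hv i).symm
    | zero => exact ⟨0, Submodule.zero_mem _, by rw [smul_zero, map_zero]⟩
    | add x x' _ _ hx hx' =>
      obtain ⟨y, hy, h1⟩ := hx
      obtain ⟨y', hy', h1'⟩ := hx'
      exact ⟨y + y', Submodule.add_mem _ hy hy', by rw [smul_add, h1, h1', map_add]⟩
    | smul t x _ hx =>
      obtain ⟨y, hy, h1⟩ := hx
      refine ⟨algebraMap k B t • y, Submodule.smul_mem _ _ hy, ?_⟩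
      rw [ex_smul, m.ρk, ← h1, smul_smul, mul_comm, ← smul_smul, algebraMap_smul]
  · rintro ⟨y, hy, hxy⟩
    obtain ⟨coef, rfl⟩ := LocalCartier.mem_degree c.e a y hy
    obtain ⟨u, hu⟩ := hμ
    have hx : x = ∑ s : Set.powersetCard (Fin c.n) a, ((u⁻¹ : Rˣ) : R) • ex m (coef s • c.e.ExteriorAlgebra s.1) := by
      rw [← Finset.smul_sum, ← map_sum, ← hxy, ← hu, smul_smul, Units.inv_mul, one_smul]
    rw [hx]
    refine Submodule.sum_mem _ fun s _ => ?_
    rw [ex_smul, smul_smul]
    obtain ⟨n, v, h1, -, -, h2⟩ := Ext.exists_basis_eq c.e s.1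
    have hn : n = a := h2.trans s.2
    subst hn
    rw [h1]
    have h3 : ex m (ιMulti B n fun i => c.e (v i)) = ιMulti R n fun i => m.g (c.e (v i)) :=
      Semi.extR_ιMulti _ _ _ _
    rw [h3]
    refine smul_ιMulti_mem ?_ fun i => ⟨_, rfl⟩
    rw [hP, ← hu, ← mul_assoc, Units.mul_inv, one_mul]
    exact ⟨_, rfl⟩

include h hP hμ in
theorem mem_latZ_iff (a : ℕ) (x : ExteriorAlgebra R L) :
    x ∈ latZ P (N m) ((a : ℤ) - 1) ↔
      ∃ y : ExteriorAlgebra B LB, (∀ b, a = b + 1 → y ∈ ⋀[B]^b LB) ∧ (a = 0 → y = 0) ∧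
        m.ρ (mon c.x pole) • x = ex m y := by
  rcases a with _ | a
  · rw [latZ_neg _ _ (by omega)]
    constructor
    · intro hx
      rw [Submodule.mem_bot] at hx
      exact ⟨0, fun b hb => by omega, fun _ => rfl, by rw [hx, smul_zero, map_zero]⟩
    · rintro ⟨y, -, hy, hxy⟩
      rw [hy rfl, map_zero] at hxy
      obtain ⟨u, hu⟩ := hμ
      rw [← hu] at hxy
      rw [Submodule.mem_bot, ← one_smul R x, ← Units.inv_mul u, ← smul_smul, hxy, smul_zero]
  · have : ((a + 1 : ℕ) : ℤ) - 1 = (a : ℤ) := by push_cast; ring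
    rw [this, latZ_natCast, mem_lat_iff h pole P hP hμ]
    constructor
    · rintro ⟨y, hy, hxy⟩
      exact ⟨y, fun b hb => by
        have : b = a := by omega
        rw [this]; exact hy, fun h => by omega, hxy⟩
    · rintro ⟨y, hy, -, hxy⟩
      exact ⟨y, hy a rfl, hxy⟩

theorem db_mem (a : ℕ) (y : ExteriorAlgebra B LB) (hy : y ∈ ⋀[B]^a LB) : db Y.δ c.e pole y ∈ ⋀[B]^(a + 1) LB := by
  rw [db_apply]
  refine Submodule.sub_mem _ ?_ (Submodule.sum_mem _ fun j _ => Submodule.smul_of_tower_mem _ _ (Ext.E_mem _ a y hy))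
  obtain ⟨coef, rfl⟩ := LocalCartier.mem_degree c.e a y hy
  rw [map_sum]
  refine Submodule.sum_mem _ fun s _ => ?_
  rw [d, Iso.dd_basis]
  refine Submodule.sum_mem _ fun j _ => Submodule.smul_mem _ _ (Ext.E_mem _ a _ ?_)
  exact basis_mem_degree c.e s.1 s.2

variable (hpole : ∀ j, ¬ c.S j → pole j = 0)

include h hP hμ hpole in
theorem d_mem (c'' : Chart X) (a : ℤ) (x : ExteriorAlgebra R L) (hx : x ∈ latZ P (N m) a) :
    d X.δ c''.e x ∈ latZ P (N m) (a + 1) := by
  rcases lt_or_ge a 0 with ha | ha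
  · rw [latZ_neg _ _ ha, Submodule.mem_bot] at hx
    rw [hx, map_zero]
    exact Submodule.zero_mem _
  obtain ⟨a, rfl⟩ := Int.eq_ofNat_of_zero_le ha
  rw [latZ_natCast, mem_lat_iff h pole P hP hμ] at hx
  obtain ⟨y, hy, hxy⟩ := hx
  have : (a : ℤ) + 1 = ((a + 1 : ℕ) : ℤ) := by push_cast; ring
  rw [this, latZ_natCast, mem_lat_iff h pole P hP hμ]
  exact ⟨db Y.δ c.e pole y, db_mem pole a y hy, smul_d h c'' pole hpole x y hxy⟩

variable (hlt : ∀ j, pole j < p)

include h in
theorem ex_c0 (F : ExteriorAlgebra R L →+* ExteriorAlgebra R L)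
    (hF : ∀ b, F (algebraMap R _ b) = algebraMap R _ (b ^ p))
    (hFι : ∀ w, F (ExteriorAlgebra.ι R w) = ExteriorAlgebra.ι R (c'.f w)) (y : ExteriorAlgebra B LB) :
    F (ex m y) = ex m (c0 p c.S c.x c.e y) := by
  have : F.comp (ex m) = (ex m).comp (c0 p c.S c.x c.e) := by
    apply Semi.ringHom_ext
    · intro a
      rw [RingHom.comp_apply, RingHom.comp_apply, ex, Semi.extR_algebraMap, hF, c0, Semi.extR_algebraMap,
        Semi.extR_algebraMap, frobenius_def, map_pow m.ρ]
    · intro v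
      rw [RingHom.comp_apply, RingHom.comp_apply, ex_ι, hFι, h.f_eq, c0, Semi.extR_ι, ex_ι]
      rfl
  exact congr($this y)

include h in
theorem mem_lat_A_iff (a : ℕ) (x : ExteriorAlgebra R L) :
    x ∈ lat (Subalgebra.toSubmodule (A m)) (N m) a ↔ ∃ y ∈ ⋀[B]^a LB, x = ex m y := by
  have hmon : mon c.x (fun _ => 0) = 1 := by
    rw [mon]; exact Finset.prod_eq_one fun j _ => pow_zero _
  rw [mem_lat_iff h (fun _ => 0) (Subalgebra.toSubmodule (A m)) (fun y => by
    rw [hmon, map_one, one_mul]; rfl) (by rw [hmon, map_one]; exact isUnit_one)]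
  rw [hmon, map_one]
  simp only [one_smul]

include h hP hμ hpole hlt in
/-- Local Cartier, surjectivity. -/
theorem surj (hρ : Function.Injective m.ρ) (c'' : Chart X) (F : ExteriorAlgebra R L →+* ExteriorAlgebra R L)
    (hF : ∀ b, F (algebraMap R _ b) = algebraMap R _ (b ^ p))
    (hFι : ∀ w, F (ExteriorAlgebra.ι R w) = ExteriorAlgebra.ι R (c'.f w)) (a : ℕ) (x : ExteriorAlgebra R L)
    (hx : x ∈ lat P (N m) a) (hdx : d X.δ c''.e x = 0) :
    ∃ g ∈ lat (Subalgebra.toSubmodule (A m)) (N m) a, ∃ y ∈ latZ P (N m) ((a : ℤ) - 1),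
      x = F g + d X.δ c''.e y := by
  obtain ⟨H, r, h1, h2, h3, h4, h5, h6, h7, h8, h9⟩ := LocalCartier.main c.logChart pole hlt hpole
  obtain ⟨y, hy, hxy⟩ := (mem_lat_iff h pole P hP hμ a x).1 hx
  have e1 : db Y.δ c.e pole y = 0 := by
    apply ex_injective h hρ
    rw [← smul_d h c'' pole hpole x y hxy, hdx, smul_zero, map_zero]
  have e2 : y = cb p c.S c.x c.e pole (r y) + db Y.δ c.e pole (H y) := by
    have := h1 y
    rw [e1, map_zero, add_zero] at this
    rw [this]; abel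
  obtain ⟨u, hu⟩ := hμ
  refine ⟨ex m (r y), (mem_lat_A_iff h a _).2 ⟨r y, h9 a y hy, rfl⟩, ((u⁻¹ : Rˣ) : R) • ex m (H y),
    (mem_latZ_iff h pole P hP ⟨u, hu⟩ a _).2 ⟨H y, ?_, ?_, ?_⟩, ?_⟩
  · intro b hb
    subst hb
    exact h7 b y hy
  · intro ha
    subst ha
    exact h8 y hy
  · rw [← hu, smul_smul, Units.mul_inv, one_smul]
  · have e3 := smul_d h c'' pole hpole (((u⁻¹ : Rˣ) : R) • ex m (H y)) (H y) (by
      rw [← hu, smul_smul, Units.mul_inv, one_smul])
    have e4 : m.ρ (mon c.x pole) • x =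
        m.ρ (mon c.x pole) • (F (ex m (r y)) + d X.δ c''.e (((u⁻¹ : Rˣ) : R) • ex m (H y))) := by
      rw [smul_add, e3, ex_c0 h F hF hFι, ← ex_smul, ← cb_apply, ← map_add, ← e2, hxy]
    rw [← hu] at e4
    have e5 := congrArg (fun z => ((u⁻¹ : Rˣ) : R) • z) e4
    simpa only [smul_smul, Units.inv_mul, one_smul] using e5

include h hP hμ hpole hlt in
/-- Local Cartier, injectivity. -/
theorem inj (hρ : Function.Injective m.ρ) (c'' : Chart X) (F : ExteriorAlgebra R L →+* ExteriorAlgebra R L)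
    (hF : ∀ b, F (algebraMap R _ b) = algebraMap R _ (b ^ p))
    (hFι : ∀ w, F (ExteriorAlgebra.ι R w) = ExteriorAlgebra.ι R (c'.f w)) (a : ℕ) (g : ExteriorAlgebra R L)
    (hg : g ∈ lat (Subalgebra.toSubmodule (A m)) (N m) a) (y : ExteriorAlgebra R L)
    (hy : y ∈ latZ P (N m) ((a : ℤ) - 1)) (hgy : F g = d X.δ c''.e y) : g = 0 := by
  obtain ⟨H, r, h1, h2, h3, h4, h5, h6, h7, h8, h9⟩ := LocalCartier.main c.logChart pole hlt hpole
  obtain ⟨γ, hγ, rfl⟩ := (mem_lat_A_iff h a g).1 hg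
  obtain ⟨y₀, -, -, hy₀⟩ := (mem_latZ_iff h pole P hP hμ a y).1 hy
  have e1 : ex m (cb p c.S c.x c.e pole γ) = ex m (db Y.δ c.e pole y₀) := by
    rw [← smul_d h c'' pole hpole y y₀ hy₀, ← hgy, ex_c0 h F hF hFι, ← ex_smul, ← cb_apply]
  have e2 := ex_injective h hρ e1
  have e3 : γ = 0 := by
    rw [← h2 γ, e2, h3]
  rw [e3, map_zero]

end lattice

end loc

end K904.LocDat
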