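import Groth.Agent.DelIll.K904.LogCxK
import Groth.Agent.DelIll.K904.LatHyp
import Groth.Agent.DelIll.K904.LocDat

/-!
# The differential of the abstract Deligne--Illusie data is the differential of the logarithmic de Rham complex
-/

set_option autoImplicit false
set_option linter.unusedSectionVars false

universe u

open CategoryTheory CategoryTheory.Limits AlgebraicGeometry Opposite TopologicalSpace

namespace K904.DLink

section alg

variable {p : ℕ} {ι : Type*} {R L : Type u} [CommRing R] [AddCommGroup L] [Module R L]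

/-- The differential of the data is the de Rham differential of `δ`. -/
structure Link (D : K912.Alt.Dat p ι R L) (δ : R →+ L) : Prop where
  smul : ∀ (b : R) (y : ExteriorAlgebra R L), D.d (b • y) = ExteriorAlgebra.ι R (δ b) * y + b • D.d y
  wedge : ∀ (b : R) (y : ExteriorAlgebra R L),
    D.d (ExteriorAlgebra.ι R (δ b) * y) = -(ExteriorAlgebra.ι R (δ b) * D.d y)

variable {D : K912.Alt.Dat p ι R L} {δ : R →+ L}

theorem Link.d_ιMulti (h : Link D δ) (a : ℕ) (b : Fin a → R) :
    D.d (ExteriorAlgebra.ιMulti R a fun j => δ (b j)) = 0 := by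
  induction a with
  | zero =>
    rw [ExteriorAlgebra.ιMulti_zero_apply]
    exact D.d_one
  | succ a ih =>
    rw [ExteriorAlgebra.ιMulti_succ_apply, h.wedge]
    have h1 : (Matrix.vecTail fun j : Fin (a + 1) => δ (b j)) = fun j => δ (Fin.tail b j) := rfl
    rw [h1, ih, mul_zero, neg_zero]

theorem Link.d_gen (h : Link D δ) (a : ℕ) (b₀ : R) (b : Fin a → R) :
    D.d (b₀ • ExteriorAlgebra.ιMulti R a fun j => δ (b j)) =
      ExteriorAlgebra.ιMulti R (a + 1) (Fin.cons (δ b₀) fun j => δ (b j)) := by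
  rw [h.smul, h.d_ιMulti, smul_zero, add_zero, ExteriorAlgebra.ιMulti_succ_apply]
  rfl

theorem Link.eq_of_isRule {δ' : Derivation ℤ R L} (h : Link D δ) (hδ : ∀ b, δ b = δ' b)
    (hgen : Submodule.span R (Set.range δ') = ⊤)
    {d : ∀ a : ℕ, ↥(⋀[R]^a L) →ₗ[ℤ] ↥(⋀[R]^(a + 1) L)} (hd : DeRham.IsRule δ' d) (a : ℕ)
    (x : ↥(⋀[R]^a L)) : D.d (x : ExteriorAlgebra R L) = (d a x : ExteriorAlgebra R L) := by
  have key := K852.DR.gen_ext δ' hgen a
    (D.d.comp (Submodule.subtype (⋀[R]^a L)).toAddMonoidHom)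
    ((Submodule.subtype (⋀[R]^(a + 1) L)).toAddMonoidHom.comp (d a).toAddMonoidHom) (fun b₀ b => by
      have h1 := h.d_gen a b₀ b
      simp only [hδ] at h1
      have h2 : (DeRham.gen δ' a b₀ b : ExteriorAlgebra R L) =
          b₀ • ExteriorAlgebra.ιMulti R a fun j => δ' (b j) := by
        rw [← exteriorPower.ιMulti_apply_coe]
        rfl
      have h3 := congrArg (Subtype.val) (hd a b₀ b)
      rw [exteriorPower.ιMulti_apply_coe] at h3
      exact (congrArg D.d h2).trans (h1.trans h3.symm))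
  exact DFunLike.congr_fun key x

end alg

section dat

open _root_.K904.Ch _root_.K904.LocDat _root_.K904.LocalCartier _root_.K904.EtLift _root_.K904

variable {p : ℕ} [Fact p.Prime] {k : Type u} [Field k] [CharP k p] [PerfectRing k p]
variable {R Rt L : Type u} [CommRing R] [CharP R p] [Algebra k R] [CommRing Rt] [AddCommGroup L]
  [Module R L] {X : Dt p k R Rt L}

/-- The link for the data given by lifted charts. -/
theorem link_dat {I : Type*} (i₀ : I) (c : I → Chart X) (hdiv : ∀ i j, Div (c i) (c j)) :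
    Link (dat i₀ c hdiv) X.δ where
  smul b y := d_smul' (c i₀) b y
  wedge b y := by
    change LocalCartier.d X.δ (c i₀).e _ = -(ExteriorAlgebra.ι R (X.δ b) * LocalCartier.d X.δ (c i₀).e y)
    rw [DR.d_mul (c i₀).logChart]
    have h1 : LocalCartier.d X.δ (c i₀).e (ExteriorAlgebra.ι R (X.δ b)) = 0 := by
      rw [← DR.d_algebraMap (c i₀).logChart b]
      exact DR.d_d (c i₀).logChart _
    rw [h1, zero_mul, zero_add, Iso.sg_ι, neg_mul]

end dat

section geo

attribute [local instance] K912.Frame.algV K912.Frame.modS Groth.Agent.Fga.MumCech.modP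

open Groth.Agent.Sga67.Sec Groth.Agent.Sga67.LocBasis Groth.Agent.Sga67.ExtSheaf
open K912.Asm K912.Twist K912.LatCmp K912.Seq _root_.K904.LatU _root_.K904.LatHyp _root_.K904.LogCxS
open _root_.K904.LogCxE _root_.K904.LogCxK _root_.K922.Coord _root_.K922.DSec

variable {p : ℕ} {k : Type u} [Field k] {X : Scheme.{u}} [X.Over (Spec (CommRingCat.of k))]
  {Ω' : X.Modules} {d : OmegaSh.Der (X ↘ Spec (CommRingCat.of k)) Ω'} {r : ℕ}
  {D : Fin r → X.IdealSheafData} {n : ℕ}

/-- The realisation commutes with the differential. -/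
theorem phu_apS {hd : AffUniv d} {Λ : LogNCD.LogMod d D} {G : Geo p k X Λ.L n} (hk : ∀ t : k, ∃ u : k, u ^ p = t)
    (hV : G.V₀.1 ≤ DC D) (hL : Link G.D (dS (LogNCD.der Λ) G.V₀.1)) {a : ℕ} {T T' : X.Modules}
    {φ : Phi a Λ.L T} {φ' : Phi (a + 1) Λ.L T'} {Φ : Coh.toAb T ⟶ Coh.toAb T'} (hΦ : IsD hd Λ φ φ' Φ)
    (x : Sec T G.V₀.1) :
    phu φ' G.V₀ k (apS Φ G.V₀.1 x) = dJ G.D hk (phu φ G.V₀ k x) := by
  funext j
  have h1 := hΦ G.V₀ hV x
  have h2 := hL.eq_of_isRule (δ' := δZ Λ G.V₀.1) (fun b => rfl) (span_δZ hd Λ G.V₀ hV)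
    (dV_rule hd Λ G.V₀ hV) a (φ G.V₀ x)
  exact (congrArg Subtype.val h1).trans h2.symm

end geo

end K904.DLink
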