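import Groth.Agent.DelIll.K904.LogCxK

/-!
# The differentials of every logarithmic de Rham complex are linear over the base
-/

set_option autoImplicit false
set_option linter.unusedSectionVars false

universe u

open CategoryTheory CategoryTheory.Limits AlgebraicGeometry Opposite TopologicalSpace exteriorPower
open Groth.Agent.Sga67.Sec Groth.Agent.Sga67.LocBasis Groth.Agent.Sga67.ExtSheaf
open Groth.Agent.Krr.H495.ExtPre Groth.Agent.Krr.H495.ExtSemi

namespace K904.LogCxL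

open _root_.K922.DSec _root_.K922.Coord _root_.K922.Chart _root_.K922.LogBasis _root_.K852.DR
open _root_.K904.LogCxR _root_.K904.LogCxS _root_.K904.LogCxE _root_.K904.LogCxK

section general

variable {X S : Scheme.{u}} [IsAffine S] {f : X ⟶ S} {Ω' : X.Modules} {d : OmegaSh.Der f Ω'} {r : ℕ}
  {D : Fin r → X.IdealSheafData} (hd : AffUniv d) (Λ : LogNCD.LogMod d D)
  {p : ℕ} {T T' : X.Modules} {φ : Phi p Λ.L T} {φ' : Phi (p + 1) Λ.L T'}

/-- The de Rham differential off the divisor is linear over functions with zero differential. -/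
theorem dV_smul (V : X.affineOpens) (hV : V.1 ≤ DC D) (a : Γ(X, V.1)) (ha : δZ Λ V.1 a = 0)
    (x : ↥(⋀[Γ(X, V.1)]^p (Sec Λ.L V.1))) : dV hd Λ V hV p (a • x) = a • dV hd Λ V hV p x := by
  rw [d_smul (span_δZ hd Λ V hV) (dV_rule hd Λ V hV), ha, map_zero, LinearMap.zero_apply, zero_add]

theorem isD_smul {Φ : Coh.toAb T ⟶ Coh.toAb T'} (hΦ : IsD hd Λ φ φ' Φ) (V : X.affineOpens) (hV : V.1 ≤ DC D)
    (a : Γ(X, V.1)) (ha : δZ Λ V.1 a = 0) (x : Sec T V.1) : apS Φ V.1 (a • x) = a • apS Φ V.1 x := by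
  apply (φ' V).injective
  have e1 : φ V (a • x) = a • φ V x := map_smul (φ V) a x
  have e2 : φ' V (a • apS Φ V.1 x) = a • φ' V (apS Φ V.1 x) := map_smul (φ' V) a _
  rw [e2, hΦ V hV, hΦ V hV, e1, dV_smul hd Λ V hV a ha]

end general

variable {R : Type u} [CommRing R] {X : Scheme.{u}} {f : X ⟶ Spec (CommRingCat.of R)} {Ω' : X.Modules}
  {d : OmegaSh.Der f Ω'} {r : ℕ} {D : Fin r → X.IdealSheafData} (hd : AffUniv d) (Λ : LogNCD.LogMod d D)

theorem res_toGlobal_eq (f : X ⟶ Spec (CommRingCat.of R)) (V : X.Opens) (a : R) :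
    resO X (le_top (a := V)) (Coh.toGlobal f a) =
      (f.appLE ⊤ V le_top) ((Scheme.ΓSpecIso (CommRingCat.of R)).inv a) := rfl

theorem dS_toGlobal (δ : OmegaSh.Der f Ω') (V : X.Opens) (a : R) :
    dS δ V (resO X (le_top (a := V)) (Coh.toGlobal f a)) = 0 := by
  rw [res_toGlobal_eq]
  exact dS_appLE δ (V := ⊤) (U := V) le_top _

theorem δZ_toGlobal (V : X.Opens) (a : R) : δZ Λ V (resO X (le_top (a := V)) (Coh.toGlobal f a)) = 0 :=
  dS_toGlobal (LogNCD.der Λ) V a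

theorem apS_smulAb (M : X.Modules) (c : Coh.Γtop X) (V : X.Opens) (x : Sec M V) :
    apS (Coh.smulAb M c) V x = resO X (le_top (a := V)) c • x := rfl

variable {p : ℕ} {T T' : X.Modules} {φ : Phi p Λ.L T} {φ' : Phi (p + 1) Λ.L T'}

theorem isD_linear [Smooth f] (hD : LogNCD.IsNCD D f) (hT' : FlatMod.IsFinLocFree T')
    {Φ : Coh.toAb T ⟶ Coh.toAb T'} (hΦ : IsD hd Λ φ φ' Φ) (a : R) :
    Coh.smulAb T (Coh.toGlobal f a) ≫ Φ = Φ ≫ Coh.smulAb T' (Coh.toGlobal f a) := by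
  apply homAb_ext hD hT'
  intro V hV x
  have e1 : apS (Coh.smulAb T (Coh.toGlobal f a) ≫ Φ) V.1 x =
    apS Φ V.1 (resO X (le_top (a := V.1)) (Coh.toGlobal f a) • x) := rfl
  have e2 : apS (Φ ≫ Coh.smulAb T' (Coh.toGlobal f a)) V.1 x =
    resO X (le_top (a := V.1)) (Coh.toGlobal f a) • apS Φ V.1 x := rfl
  rw [e1, e2]
  exact isD_smul hd Λ hΦ V hV _ (δZ_toGlobal Λ V.1 a) x

include hd in
/-- **(LC2) The differentials of a logarithmic de Rham complex are linear over the base.** -/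
theorem termwiseLinear [Smooth f] (hD : LogNCD.IsNCD D f) (K : DeRhamSh.Cx f Λ.L (LogNCD.der Λ)) :
    KLinDR.TermwiseLinear (Coh.toGlobal f) K.K K.term K.iso := by
  intro a p
  have hT : FlatMod.IsFinLocFree (K.term (p + 1)) :=
    isFinLocFree_phi (isFinLocFree hd hD Λ) (kφ Λ K (p + 1)) (kφ_comp Λ K (p + 1))
  have h1 := isD_linear hd Λ hD hT (isD_kd hd Λ K p) a
  rw [← cancel_mono (K.iso (p + 1)).hom, ← cancel_epi (K.iso p).inv]
  simp only [kd, KLinDR.scalarEnd, Category.assoc, Iso.inv_hom_id, Category.comp_id, Iso.inv_hom_id_assoc] at h1 ⊢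
  exact h1.symm

end K904.LogCxL
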