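import Groth.Agent.DelIll.K904.TotHT

/-!
# Hypercohomology by lattices: the main theorem
-/

set_option autoImplicit false

universe w w' u

open CategoryTheory CategoryTheory.Limits AlgebraicGeometry Opposite TopologicalSpace
open Groth.Agent.CohqA.CechBasic Groth.Agent.CohqA.CechSheaf Groth.Agent.CurvesB.HZero
open Groth.Agent.Fga.MumCech Groth.Agent.Ega3B Groth.Agent.Ega3B.CombRes
open K912.Seq K912.Dim K912.CechCmp K912.LatCmp K912.Fam K912.Cx K912.Asm K890 K904.TotVal K904.TotCmp KLinDR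
open K904.TotHT

namespace K904.TotEquiv

attribute [local instance] modP
attribute [local instance 3000] LocExact.hasSheafify

variable {k : Type u} [Field k] {X : Scheme.{u}} [X.Over (Spec (CommRingCat.of k))]
  {C : Type u} {ι : C → Type u} {U : ∀ c, ι c → X.Opens} {J : Type} [Fintype J] [DecidableEq J]
  {e : J ≃ Σ c, ι c} {V₀ : C → X.Opens} {hV₀ : ∀ c i, V₀ c ≤ U c i}
  {K : CochainComplex (Sheaf (Opens.grothendieckTopology X) AddCommGrpCat.{u}) ℕ}
  {term : ℕ → X.Modules} {iso : ∀ a, K.X a ≅ Coh.toAb (term a)}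
  {W : C → Type*} [∀ c, AddCommGroup (W c)] [∀ c, Module k (W c)]
  {φ : ∀ c a, (term a).presheaf.obj (op (V₀ c)) →ₗ[k] W c}
  (dW : ∀ c, W c →ₗ[k] W c)
  (hd : ∀ c a (s : (K.X a).obj.obj (op (V₀ c))),
    φ c (a + 1) (tr (term (a + 1)) (iso (a + 1)) ((K.d a (a + 1)).hom.app (op (V₀ c)) s)) =
      dW c (φ c a (tr (term a) (iso a) s)))
  (hinj : ∀ c a (p : ℕ) (i : Fin (p + 1) → ι c),
    Function.Injective (rho k (term a) (φ c a) (le_iInf_U (U c) (hV₀ c) i)))
  (hT : TermwiseLinear (Coh.toGlobal (X ↘ Spec (CommRingCat.of k))) K term iso)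

theorem acyclic (e : J ≃ Σ c, ι c) (iso : ∀ a, K.X a ≅ Coh.toAb (term a))
    (hM : ∀ a, AcycM (tot U) (term a)) (a : ℕ) : (DJ U e).Acyclic (K.X a) := by
  intro b σ q
  have h1 : Subsingleton (Abelian.Ext
      ((presheafToSheaf (Opens.grothendieckTopology X) AddCommGrpCat.{u}).obj
        (Data.freeP ((DJ U e).W b σ))) (Coh.toAb (term a)) (q + 1)) :=
    hM a b (fun j => e (σ j)) (q + 1) (Nat.succ_pos q)
  refine ⟨fun x y => ?_⟩
  have key : ∀ z : Abelian.Ext ((presheafToSheaf (Opens.grothendieckTopology X) AddCommGrpCat.{u}).obj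
        (Data.freeP ((DJ U e).W b σ))) (K.X a) (q + 1), z = 0 := by
    intro z
    have h2 : z.comp (Abelian.Ext.mk₀ (iso a).hom) (add_zero _) = 0 := Subsingleton.elim _ _
    have h4 := congrArg (fun t => Abelian.Ext.comp t (Abelian.Ext.mk₀ (iso a).inv) (add_zero _)) h2
    simpa using h4
  rw [key x, key y]

variable [HasDerivedCategory.{w} (Sheaf (Opens.grothendieckTopology X) AddCommGrpCat.{u})]

include hd hinj in
/-- **Hypercohomology is the cohomology of the total complexes of the systems of lattices.** -/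
theorem nonempty_equiv (e : J ≃ Σ c, ι c) (hdj : Disj U) (hU : ⨆ s, tot U s = ⊤)
    (hM : ∀ a, AcycM (tot U) (term a)) (n : ℕ) :
    Nonempty (HTρ (CohCx.freeSheaf (Opens.grothendieckTopology X) (⊤ : X.Opens))
      (K.extend ComplexShape.embeddingUpNat) (scalar hT) n ≃ₗ[k]
        ∀ c, Ht (dW c) (sysZ (Nc k U hV₀ φ c)) n) := by
  have hg : (DJ U e).LocGood := CechFull.full_locGood (iSup_UJ U e hU)
  let Θ : (CechHT.dT (DJ U e) K n).ker →+ HTρ (CohCx.freeSheaf (Opens.grothendieckTopology X) (⊤ : X.Opens))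
      (K.extend ComplexShape.embeddingUpNat) (scalar hT) n :=
    (HTρ.toHT (ρ := scalar hT)).symm.toAddMonoidHom.comp (CechHT.clsT hg K n)
  have hΘ : Function.Surjective Θ := fun x => by
    obtain ⟨y, hy⟩ := CechHT.clsT_surjective (h := hg) (acyclic e iso hM) n (HTρ.toHT x)
    exact ⟨y, (AddEquiv.symm_apply_eq _).2 hy⟩
  have h : ∀ z, Θ z = 0 ↔ toHt U e hV₀ iso φ dW hd n z = 0 := fun z => by
    rw [toHt_eq_zero_iff dW hd hinj hdj, ← CechHT.clsT_eq_zero_iff (h := hg) (acyclic e iso hM) n]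
    rfl
  let i1 : AddCommGroup (∀ c, Ht (dW c) (sysZ (Nc k U hV₀ φ c)) n) := Pi.addCommGroup
  let i2 : Module k (∀ c, Ht (dW c) (sysZ (Nc k U hV₀ φ c)) n) := Pi.module _ _ _
  have hs : ∀ (t : k) (z : (CechHT.dT (DJ U e) K n).ker), Θ (CechHT.mapZ (scalarN hT t) n z) = t • Θ z :=
    fun t z => CechHT.clsT_naturality (h := hg) (scalarN hT t) n z
  obtain ⟨E, -⟩ := exists_equiv_of_ops (H' := ∀ c, Ht (dW c) (sysZ (Nc k U hV₀ φ c)) n)
    (fun t z => CechHT.mapZ (scalarN hT t) n z) Θ hΘ hs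
    (toHt U e hV₀ iso φ dW hd n) (toHt_surjective dW hd hinj hdj n) (fun t z => toHt_smul dW hd hT n t z) h
  exact ⟨E⟩

end K904.TotEquiv
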