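import Groth.Agent.DelIll.K904.DLink
import Groth.Agent.DelIll.K904.TotEquiv
import Groth.Agent.DelIll.K904.LogCxL
import Groth.Agent.DelIll.K904.LogCxZ

/-!
# The dimension count for the logarithmic de Rham complex in characteristic `p`

`Fm p k Λ`: geometric data over the components of `X`.  If the terms in degrees `p ≤ a ≤ m` vanish then the Hodge to
de Rham spectral sequence degenerates in total degree `m`.
-/

set_option autoImplicit false

universe w u

open CategoryTheory CategoryTheory.Limits AlgebraicGeometry Opposite TopologicalSpace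
open Groth.Agent.Sga67.Sec Groth.Agent.Sga67.LocBasis Groth.Agent.Sga67.ExtSheaf
open Groth.Agent.Fga.MumCech
open K912.Alt K912.Twist K912.Frame K912.LatCmp K912.Asm K912.Seq K912.Fam K912.Dim

namespace K904.DegCount

attribute [local instance] algV modS modP

open _root_.K904.LatU _root_.K904.LatHyp _root_.K904.LogCxS
open _root_.K904.LogCxE _root_.K904.LogCxK _root_.K922.Coord _root_.K922.DSec _root_.K904.DLink

variable {p : ℕ} {k : Type u} [Field k] {X : Scheme.{u}} [X.Over (Spec (CommRingCat.of k))]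
  {Ω' : X.Modules} {d : OmegaSh.Der (X ↘ Spec (CommRingCat.of k)) Ω'} {r : ℕ}
  {D : Fin r → X.IdealSheafData}

variable (p k) in
/-- Geometric data over the components of `X`. -/
structure Fm (Λ : LogNCD.LogMod d D) where
  /-- the components -/
  C : Type u
  fin : Fintype C
  /-- the ranks -/
  n : C → ℕ
  /-- the data -/
  G : ∀ c, Geo p k X Λ.L (n c)
  finι : ∀ c, Finite (G c).ι
  disj : Disj fun c (i : (G c).ι) => ((G c).U i).1
  cov : ⨆ s, tot (fun c (i : (G c).ι) => ((G c).U i).1) s = ⊤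
  cartier : ∀ c, Cartier (triv (G c))
  le : ∀ c, (G c).V₀.1 ≤ DC D
  link : ∀ c, Link (G c).D (dS (LogNCD.der Λ) (G c).V₀.1)

variable {Λ : LogNCD.LogMod d D} (F : Fm p k Λ)

/-- The opens. -/
abbrev Fm.U (c : F.C) (i : (F.G c).ι) : X.Opens := ((F.G c).U i).1

theorem Fm.aff (s : Finset (Σ c, (F.G c).ι)) (hs : s.Nonempty) :
    IsAffineOpen (⨅ i ∈ s, tot F.U i) := by
  obtain ⟨⟨c, i₀⟩, hi₀⟩ := hs
  by_cases h : ∀ i ∈ s, i.1 = c
  · have e : (⨅ i ∈ s, tot F.U i) = Us (fun i => ((F.G c).U i).1) {i | (⟨c, i⟩ : Σ c, (F.G c).ι) ∈ s} := by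
      apply le_antisymm
      · exact le_iInf fun i => le_iInf fun hi => iInf_le_of_le ⟨c, i⟩ (iInf_le_of_le hi le_rfl)
      · refine le_iInf fun i => le_iInf fun hi => ?_
        obtain ⟨c', i⟩ := i
        have hc' : c' = c := h _ hi
        subst hc'
        exact iInf_le_of_le i (iInf_le_of_le hi le_rfl)
    rw [e]
    exact (F.G c).aff _ ⟨i₀, hi₀⟩
  · push Not at h
    obtain ⟨i, hi, hic⟩ := h
    have e : (⨅ i ∈ s, tot F.U i) = ⊥ := by
      rw [eq_bot_iff, ← F.disj i.1 c i.2 i₀ hic]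
      exact le_inf (iInf_le_of_le i (iInf_le_of_le hi le_rfl))
        (iInf_le_of_le ⟨c, i₀⟩ (iInf_le_of_le hi₀ le_rfl))
    rw [e]
    exact isAffineOpen_bot X

theorem Fm.acyc {N : X.Modules} (hN : Coh.IsQCoh N) : AcycM (tot F.U) N := acycM _ _ F.aff hN

theorem Fm.exists_enum : ∃ (N : ℕ), Nonempty (Fin N ≃ Σ c, (F.G c).ι) := by
  have := F.fin
  have := F.finι
  have h : Finite (Σ c, (F.G c).ι) := inferInstance
  exact ⟨Nat.card _, ⟨(Finite.equivFin _).symm⟩⟩

section main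

variable [Smooth (X ↘ Spec (CommRingCat.of k))] (hd : AffUniv d)
  (hD : LogNCD.IsNCD D (X ↘ Spec (CommRingCat.of k)))
  (K : DeRhamSh.Cx (X ↘ Spec (CommRingCat.of k)) Λ.L (LogNCD.der Λ)) (hk : ∀ t : k, ∃ u : k, u ^ p = t)

/-- The realisation spaces. -/
@[reducible] noncomputable def grpW (F : Fm p k Λ) (c : F.C) :
    AddCommGroup (Unit → ExteriorAlgebra (F.G c).R (F.G c).L) := inferInstance

/-- The realisation spaces. -/
@[reducible] noncomputable def modW (F : Fm p k Λ) (c : F.C) :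
    Module k (Unit → ExteriorAlgebra (F.G c).R (F.G c).L) := inferInstance

attribute [local instance] grpW modW

/-- The realisations of the terms. -/
noncomputable abbrev Fm.φ (c : F.C) (a : ℕ) : (K.term a).presheaf.obj (op (F.G c).V₀.1) →ₗ[k]
    (Unit → ExteriorAlgebra (F.G c).R (F.G c).L) := phu (kφ Λ K a) (F.G c).V₀ k

include hd in
omit [Smooth (X ↘ Spec (CommRingCat.of k))] in
/-- The realisation commutes with the differential. -/
theorem Fm.phi_d (c : F.C) (a : ℕ) (s : (K.K.X a).obj.obj (op (F.G c).V₀.1)) :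
    F.φ K c (a + 1) (TotVal.tr (K.term (a + 1)) (K.iso (a + 1)) ((K.K.d a (a + 1)).hom.app (op (F.G c).V₀.1) s)) =
      dJ (F.G c).D hk (F.φ K c a (TotVal.tr (K.term a) (K.iso a) s)) := by
  have h1 := phu_apS hk (F.le c) (F.link c) (isD_kd hd Λ K a) (TotVal.tr (K.term a) (K.iso a) s)
  refine Eq.trans ?_ h1
  refine congrArg (F.φ K c (a + 1)) ?_
  have h2 : (K.iso a).hom ≫ kd Λ K a = K.K.d a (a + 1) ≫ (K.iso (a + 1)).hom := by
    rw [kd, Iso.hom_inv_id_assoc]
  exact (congrArg (fun g => g.hom.app (op (F.G c).V₀.1) s) h2).symm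

variable [HasDerivedCategory.{w} (Sheaf (Opens.grothendieckTopology X) AddCommGrpCat.{u})]

theorem Fm.nonempty_equiv (n : ℕ) :
    Nonempty (KLinDR.HTρ (CohCx.freeSheaf (Opens.grothendieckTopology X) (⊤ : X.Opens))
      (K.K.extend ComplexShape.embeddingUpNat) (KLinDR.scalar (K904.LogCxL.termwiseLinear hd Λ hD K)) n ≃ₗ[k]
        ∀ c, Ht (dJ (F.G c).D hk) (sysZ (latU (F.G c) (kφ Λ K))) n) := by
  obtain ⟨N, ⟨e⟩⟩ := F.exists_enum
  exact TotEquiv.nonempty_equiv (U := F.U) (hV₀ := fun c => (F.G c).le) (φ := F.φ K)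
    (fun c => dJ (F.G c).D hk) (fun c a s => F.phi_d hd K hk c a s)
    (fun c a p i => LatHyp.rho_injective (F.G c) (kφ Λ K) (kφ_comp Λ K) a p i)
    (K904.LogCxL.termwiseLinear hd Λ hD K) e F.disj F.cov
    (fun a => F.acyc (K904.LogCxM.isQCoh_term hd hD K a)) n

omit [HasDerivedCategory.{w} (Sheaf (Opens.grothendieckTopology X) AddCommGrpCat.{u})]

theorem Fm.finrank_term (hd : AffUniv d) (hD : LogNCD.IsNCD D (X ↘ Spec (CommRingCat.of k))) (a q : ℕ)
    (h : Module.Finite k (Coh.HH X (K.term a) q)) :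
    Module.finrank k (Coh.HH X (K.term a) q) =
      letI := F.fin
      ∑ c, Module.finrank k (Hc (latU (F.G c) (kφ Λ K) a) q) := by
  let := F.fin
  exact K912.Fam.finrank_eq k (K.term a) (fun c => (F.G c).le) (fun c => F.φ K c a)
    (fun c p i => LatHyp.rho_injective (F.G c) (kφ Λ K) (kφ_comp Λ K) a p i) F.disj F.cov
    (F.acyc (K904.LogCxM.isQCoh_term hd hD K a)) q h

theorem Fm.finite_term (hd : AffUniv d) (hD : LogNCD.IsNCD D (X ↘ Spec (CommRingCat.of k))) (a q : ℕ)
    (h : Module.Finite k (Coh.HH X (K.term a) q)) (c : F.C) :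
    Module.Finite k (Hc (latU (F.G c) (kφ Λ K) a) q) :=
  K912.Fam.finite_comp k (K.term a) (fun c => (F.G c).le) (fun c => F.φ K c a)
    (fun c p i => LatHyp.rho_injective (F.G c) (kφ Λ K) (kφ_comp Λ K) a p i) F.disj F.cov
    (F.acyc (K904.LogCxM.isQCoh_term hd hD K a)) q h c

omit [Smooth (X ↘ Spec (CommRingCat.of k))] in
/-- The lattices of a zero module are zero. -/
theorem Fm.latU_eq_bot {a : ℕ} (h : IsZero (K.term a)) (c : F.C) (s : Set (F.G c).ι) :
    latU (F.G c) (kφ Λ K) a s = ⊥ := by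
  rcases s.eq_empty_or_nonempty with rfl | hs
  · exact latU_empty _ _
  · rw [latU, Nl_nonempty k _ _ _ _ hs, eq_bot_iff]
    rintro _ ⟨m, rfl⟩
    have h1 : IsZero (Coh.toAb (K.term a)) := Functor.map_isZero (SheafOfModules.toSheaf X.ringCatSheaf) h
    have h2 : 𝟙 (Coh.toAb (K.term a)) = 0 := h1.eq_of_src _ _
    have h3 : m = 0 := congrArg (fun g => g.hom.app (op (Us (fun i => ((F.G c).U i).1) s)) m) h2
    rw [h3, map_zero]
    exact Submodule.zero_mem _

include hd hD in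
/-- **The dimension inequality.** -/
theorem Fm.sum_le [Fact p.Prime] [CharP k p] (m : ℕ) (hm : ∀ a : ℕ, a ≤ m → a < p ∨ IsZero (K.term a))
    (hfin : ∀ a q, Module.Finite k (Coh.HH X (K.term a) q)) (c : F.C) :
    ∑ a ∈ Finset.range (m + 1), Module.finrank k (Hc (latU (F.G c) (kφ Λ K) a) (m - a)) ≤
      Module.finrank k (Ht (dJ (F.G c).D hk) (sysZ (latU (F.G c) (kφ Λ K))) m) :=
  LatHyp.sum_le (kφ Λ K) (kφ_comp Λ K) hk (F.cartier c) m
    (fun a ha => (hm a ha).imp_right fun h s => F.latU_eq_bot K h c s)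
    (fun a _ => F.finite_term K hd hD a (m - a) (hfin a _) c)

variable [HasDerivedCategory.{w} (Sheaf (Opens.grothendieckTopology X) AddCommGrpCat.{u})]

include F hk hd hD in
/-- **Degeneration in total degree `m`.** -/
theorem Fm.degeneratesAt [Fact p.Prime] [CharP k p] (m : ℕ) (hm : ∀ a : ℕ, a ≤ m → a < p ∨ IsZero (K.term a))
    (hfin : ∀ a q, Module.Finite k (Coh.HH X (K.term a) q)) (N : ℕ) (hN : ∀ i, N ≤ i → IsZero (K.term i)) :
    ∀ i, E1Deg.DegeneratesAt (CohCx.freeSheaf (Opens.grothendieckTopology X) (⊤ : X.Opens))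
        (K.K.extend ComplexShape.embeddingUpNat) m i := by
  have h1 := K905.HTSch.count (K904.LogCxL.termwiseLinear hd Λ hD K) hfin N hN m
  refine h1.2.2.1 (le_antisymm h1.2.1 ?_)
  let := F.fin
  have hft : ∀ c, Module.Finite k (Ht (dJ (F.G c).D hk) (sysZ (latU (F.G c) (kφ Λ K))) m) := fun c =>
    LatHyp.finite_Ht (kφ Λ K) (kφ_comp Λ K) hk (F.cartier c) m
      (fun a _ => F.finite_term K hd hD a (m - a) (hfin a _) c)
  have hff : ∀ c, Module.Free k (Ht (dJ (F.G c).D hk) (sysZ (latU (F.G c) (kφ Λ K))) m) := fun c =>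
    Module.Free.of_divisionRing k _
  obtain ⟨E⟩ := F.nonempty_equiv hd hD K hk m
  rw [E.finrank_eq]
  have h3 : Module.finrank k (∀ c, Ht (dJ (F.G c).D hk) (sysZ (latU (F.G c) (kφ Λ K))) m) =
      ∑ c, Module.finrank k (Ht (dJ (F.G c).D hk) (sysZ (latU (F.G c) (kφ Λ K))) m) :=
    Module.finrank_pi_fintype k
  rw [h3]
  have h4 : ∀ i ∈ Finset.range (m + 1), Module.finrank k (Coh.HH X (K.term i) (m - i)) =
      ∑ c, Module.finrank k (Hc (latU (F.G c) (kφ Λ K) i) (m - i)) := fun i _ =>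
    F.finrank_term K hd hD i (m - i) (hfin i _)
  rw [Finset.sum_congr rfl h4, Finset.sum_comm]
  exact Finset.sum_le_sum fun c _ => F.sum_le hd hD K hk m hm hfin c

end main

end K904.DegCount
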