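import Groth.Agent.FrobAlg.K673.PolyFrob
import Groth.Agent.FrobAlg.K674.Ghost
import Groth.Agent.Pi1.H409.SmoothLiftEx
import Mathlib.RingTheory.Unramified.Basic
import Mathlib.RingTheory.Etale.Basic
import Mathlib.RingTheory.RingHom.Etale

/-!
# Lifts of étale coordinates are formally étale
-/

set_option autoImplicit false
set_option linter.unusedSectionVars false
set_option linter.style.haveILetI false

open FrobAlg K673.W2Basic K673.Lift

namespace K904.EtLift

universe u

open scoped KaehlerDifferential

section general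

variable {A B Bt : Type u} [CommRing A] [CommRing B] [CommRing Bt] [Algebra A Bt] (q : A) (hq : q * q = 0)
  (I : Ideal A) (hI : I = Ideal.span {q})

include hq hI in
/-- A flat lifting of an étale algebra through a square-zero extension generated by one element is formally étale. -/
theorem formallyEtale_of_red [Algebra (A ⧸ I) B] [Algebra A B]
    (hAB : ∀ a : A, algebraMap A B a = algebraMap (A ⧸ I) B (Ideal.Quotient.mk _ a))
    [Algebra.Etale (A ⧸ I) B]
    (π : Bt →ₐ[A] B) (hπ : Function.Surjective π) (h1 : ∀ b : Bt, π b = 0 → ∃ b', b = q • b')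
    (h2 : ∀ b : Bt, q • b = 0 → π b = 0) : Algebra.FormallyEtale A Bt := by
  have hI2 : I ^ 2 = ⊥ := by
    rw [hI, Ideal.span_singleton_pow, Ideal.span_singleton_eq_bot, pow_two, hq]
  haveI tow : @IsScalarTower A (A ⧸ I) B Algebra.toSMul Algebra.toSMul Algebra.toSMul :=
    IsScalarTower.of_algebraMap_eq hAB
  obtain ⟨C, _, _, κ, hC, hκ⟩ := Groth.Agent.Pi1.H409.SmoothLiftEx.exists_red (A := A) (B := B) I hI2
  have hqC : ∀ c : C, q • q • c = 0 := fun c => by rw [smul_smul, hq, zero_smul]
  have hqBt : ∀ c : Bt, q • q • c = 0 := fun c => by rw [smul_smul, hq, zero_smul]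
  have hκker : ∀ c : C, κ c = 0 → ∃ c', c = q • c' := by
    intro c hc
    have := (hκ.ker c).1 hc
    rw [hI, Ideal.map_span, Set.image_singleton, Ideal.mem_span_singleton] at this
    obtain ⟨c', hc'⟩ := this
    exact ⟨c', by rw [hc', Algebra.smul_def]⟩
  have hκq : ∀ c : C, κ (q • c) = 0 := fun c => by
    rw [hκ.ker, hI, Ideal.map_span, Set.image_singleton, Algebra.smul_def]
    exact Ideal.mul_mem_right _ _ (Ideal.mem_span_singleton_self _)
  have hnil : IsNilpotent (RingHom.ker (π : Bt →+* B)) := by
    refine ⟨2, ?_⟩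
    rw [pow_two, Ideal.zero_eq_bot, eq_bot_iff, Ideal.mul_le]
    intro x hx y hy
    obtain ⟨x', rfl⟩ := h1 x hx
    obtain ⟨y', rfl⟩ := h1 y hy
    rw [Ideal.mem_bot, smul_mul_smul_comm, hq, zero_smul]
  let θ : C →ₐ[A] Bt := Algebra.FormallySmooth.liftOfSurjective κ π hπ hnil
  have hθ : ∀ c, π (θ c) = κ c := fun c =>
    Algebra.FormallySmooth.liftOfSurjective_apply κ π hπ hnil c
  have hinj : Function.Injective θ := by
    rw [injective_iff_map_eq_zero]
    intro c hc
    have h3 : κ c = 0 := by rw [← hθ, hc, map_zero]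
    obtain ⟨c', rfl⟩ := hκker c h3
    rw [map_smul] at hc
    have h4 := h2 _ hc
    rw [hθ] at h4
    obtain ⟨c'', rfl⟩ := hκker c' h4
    exact hqC c''
  have hsurj : Function.Surjective θ := by
    have key : ∀ b : Bt, ∃ c b', b = θ c + q • b' := by
      intro b
      obtain ⟨c, hc⟩ := hκ.surj (π b)
      have h3 : π (b - θ c) = 0 := by rw [map_sub, hθ, hc, sub_self]
      obtain ⟨b', hb'⟩ := h1 _ h3
      exact ⟨c, b', by rw [← hb']; ring⟩
    intro b
    obtain ⟨c, b', hb⟩ := key b
    obtain ⟨c', b'', hb'⟩ := key b'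
    refine ⟨c + q • c', ?_⟩
    rw [map_add, map_smul, hb, hb', smul_add, hqBt, add_zero]
  -- unramified
  have hunr : Algebra.FormallyUnramified A C := by
    have hunrB : Algebra.FormallyUnramified (A ⧸ I) B := inferInstance
    have hzero : ∀ (M : Type u) [AddCommGroup M] [Module C M] [Module A M] [IsScalarTower A C M]
        (hM : ∀ m : M, q • m = 0) (D : Derivation A C M), D = 0 := by
      intro M _ _ _ _ hM D
      have hMC : ∀ (c c' : C) (m : M), κ c = κ c' → c • m = c' • m := by
        intro c c' m hcc
        obtain ⟨c'', hc''⟩ := hκker (c - c') (by rw [map_sub, hcc, sub_self])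
        have : c = c' + q • c'' := by rw [← hc'']; ring
        rw [this, add_smul, smul_assoc, hM, add_zero]
      have hDC : ∀ (c c' : C), κ c = κ c' → D c = D c' := by
        intro c c' hcc
        obtain ⟨c'', hc''⟩ := hκker (c - c') (by rw [map_sub, hcc, sub_self])
        have : c = c' + q • c'' := by rw [← hc'']; ring
        rw [this, map_add, D.map_smul, hM, add_zero]
      let s : B → C := Function.surjInv hκ.surj
      have hs : ∀ b, κ (s b) = b := Function.surjInv_eq hκ.surj
      letI : Module B M :=
        { smul := fun b m => s b • m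
          one_smul := fun m => by
            change s 1 • m = m
            rw [hMC (s 1) 1 m (by rw [hs, map_one]), one_smul]
          mul_smul := fun b b' m => by
            change s (b * b') • m = s b • s b' • m
            rw [smul_smul]
            exact hMC _ _ m (by rw [hs, map_mul, hs, hs])
          smul_zero := fun b => smul_zero (s b)
          smul_add := fun b m m' => smul_add (s b) m m'
          add_smul := fun b b' m => by
            change s (b + b') • m = s b • m + s b' • m
            rw [← add_smul]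
            exact hMC _ _ m (by rw [hs, map_add, hs, hs])
          zero_smul := fun m => by
            change s 0 • m = 0
            rw [hMC (s 0) 0 m (by rw [hs, map_zero]), zero_smul] }
      letI : Module (A ⧸ I) M := Module.compHom M (algebraMap (A ⧸ I) B)
      haveI : IsScalarTower (A ⧸ I) B M := ⟨fun a b m => by
        rw [Algebra.smul_def, mul_smul]; rfl⟩
      have hsm : ∀ (a : A) (m : M), (Ideal.Quotient.mk I a) • m = a • m := by
        intro a m
        change s (algebraMap (A ⧸ I) B (Ideal.Quotient.mk I a)) • m = a • m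
        rw [← hAB, ← algebraMap_smul C a m]
        exact hMC _ _ m (by rw [hs, κ.commutes])
      let D' : Derivation (A ⧸ I) B M :=
        { toFun := fun b => D (s b)
          map_add' := fun b b' => by
            rw [← map_add]; exact hDC _ _ (by rw [hs, map_add, hs, hs])
          map_smul' := fun a b => by
            obtain ⟨a, rfl⟩ := Ideal.Quotient.mk_surjective a
            rw [RingHom.id_apply, hsm, ← D.map_smul]
            refine hDC _ _ ?_
            rw [hs, map_smul, hs]
            rw [Algebra.smul_def, Algebra.smul_def, hAB]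
          map_one_eq_zero' := by
            change D (s 1) = 0
            rw [hDC (s 1) 1 (by rw [hs, map_one]), D.map_one_eq_zero]
          leibniz' := fun b b' => by
            change D (s (b * b')) = s b • D (s b') + s b' • D (s b)
            rw [← D.leibniz]
            exact hDC _ _ (by rw [hs, map_mul, hs, hs]) }
      have hD' : D' = 0 := by
        haveI := (Algebra.formallyUnramified_iff (A ⧸ I) B).1 hunrB
        have h5 : D'.liftKaehlerDifferential = 0 := by
          refine LinearMap.ext fun ω => ?_
          rw [Subsingleton.elim ω 0, map_zero, map_zero]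
        rw [← D'.liftKaehlerDifferential_comp, h5]
        rfl
      ext c
      rw [← hDC (s (κ c)) c (by rw [hs])]
      exact congr($hD' (κ c))
    rw [Algebra.formallyUnramified_iff]
    let N : Submodule C (Ω[C⁄A]) := LinearMap.range (LinearMap.lsmul C (Ω[C⁄A]) (algebraMap A C q))
    have hN : N = ⊤ := by
      have h6 : (N.mkQ).compDer (KaehlerDifferential.D A C) = 0 := by
        refine hzero (Ω[C⁄A] ⧸ N) (fun m => ?_) _
        obtain ⟨m, rfl⟩ := N.mkQ_surjective m
        rw [← algebraMap_smul C q, ← map_smul, Submodule.mkQ_apply, Submodule.Quotient.mk_eq_zero]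
        exact ⟨m, rfl⟩
      rw [eq_top_iff, ← KaehlerDifferential.span_range_derivation, Submodule.span_le]
      rintro _ ⟨c, rfl⟩
      have := congr($h6 c)
      rw [← Submodule.ker_mkQ N]
      exact this
    refine ⟨fun ω ω' => ?_⟩
    have h7 : ∀ ω : Ω[C⁄A], ω = 0 := by
      intro ω
      obtain ⟨ω₁, rfl⟩ : ω ∈ N := hN ▸ Submodule.mem_top
      obtain ⟨ω₂, rfl⟩ : ω₁ ∈ N := hN ▸ Submodule.mem_top
      change algebraMap A C q • algebraMap A C q • ω₂ = 0
      rw [smul_smul, ← map_mul, hq, map_zero, zero_smul]
    rw [h7 ω, h7 ω']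
  have : Algebra.FormallyEtale A C := Algebra.FormallyEtale.iff_formallyUnramified_and_formallySmooth.2 ⟨hunr, inferInstance⟩
  exact Algebra.FormallyEtale.of_equiv (AlgEquiv.ofBijective θ ⟨hinj, hsurj⟩)

end general

section w2

variable {p : ℕ} [Fact p.Prime] {k : Type u} [Field k] [CharP k p] [PerfectRing k p]
  {B Bt : Type u} [CommRing B] [Algebra k B] [CommRing Bt] {ι : W2 p k →+* Bt} {π : Bt →+* B}
  {J : Type}

/-- The coordinate map of the lifting. -/
noncomputable def coordt (ι : W2 p k →+* Bt) (xt : J → Bt) : MvPolynomial J (W2 p k) →+* Bt :=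
  MvPolynomial.eval₂Hom ι xt

/-- The coordinate map. -/
noncomputable def coord (k : Type u) [Field k] [Algebra k B] (x : J → B) : MvPolynomial J k →+* B :=
  (MvPolynomial.aeval (R := k) x).toRingHom

theorem coord_C (x : J → B) (a : k) : coord k x (MvPolynomial.C a) = algebraMap k B a :=
  MvPolynomial.aeval_C _ _

theorem coord_X (x : J → B) (j : J) : coord k x (MvPolynomial.X j) = x j :=
  MvPolynomial.aeval_X _ _

theorem coordt_C (xt : J → Bt) (a : W2 p k) : coordt ι xt (MvPolynomial.C a) = ι a :=
  MvPolynomial.eval₂Hom_C _ _ _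

theorem coordt_X (xt : J → Bt) (j : J) : coordt ι xt (MvPolynomial.X j) = xt j :=
  MvPolynomial.eval₂Hom_X' _ _ _

theorem coord_comp (h : IsLift p k B Bt ι π) (xt : J → Bt) (f : MvPolynomial J (W2 p k)) :
    π (coordt ι xt f) = coord k (fun j => π (xt j)) (MvPolynomial.map (res p k) f) := by
  have : π.comp (coordt ι xt) = (coord k (fun j => π (xt j))).comp (MvPolynomial.map (res p k)) := by
    refine MvPolynomial.ringHom_ext (fun a => ?_) (fun j => ?_)
    · rw [RingHom.comp_apply, coordt_C, RingHom.comp_apply, MvPolynomial.map_C, coord_C]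
      exact congr($(h.comm) a)
    · rw [RingHom.comp_apply, coordt_X, RingHom.comp_apply, MvPolynomial.map_X, coord_X]
  exact congr($this f)

theorem natCast_sq_ideal : (Ideal.span {(p : MvPolynomial J (W2 p k))}) ^ 2 = ⊥ := by
  rw [Ideal.span_singleton_pow, Ideal.span_singleton_eq_bot, pow_two]
  have : (p : MvPolynomial J (W2 p k)) = MvPolynomial.C (p : W2 p k) := (map_natCast _ _).symm
  rw [this, ← map_mul, natCast_mul_natCast, map_zero]

/-- **Lifts of étale coordinates are formally étale.** -/
theorem formallyEtale (h : IsLift p k B Bt ι π) (xt : J → Bt)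
    (hx : (coord k (fun j => π (xt j))).Etale) :
    letI : Algebra (MvPolynomial J (W2 p k)) Bt := (coordt ι xt).toAlgebra
    Algebra.FormallyEtale (MvPolynomial J (W2 p k)) Bt := by
  letI : Algebra (MvPolynomial J (W2 p k)) Bt := (coordt ι xt).toAlgebra
  have hlP : IsLift p k (MvPolynomial J k) (MvPolynomial J (W2 p k)) (MvPolynomial.C) (MvPolynomial.map (res p k)) :=
    K673.PolyFrob.isLift_mvPolynomial
  have hker : RingHom.ker (MvPolynomial.map (res p k) : MvPolynomial J (W2 p k) →+* MvPolynomial J k) =
      Ideal.span {(p : MvPolynomial J (W2 p k))} := by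
    rw [hlP.ker_eq, ker_res, Ideal.map_span, Set.image_singleton, map_natCast]
  obtain ⟨I, hI⟩ : ∃ I : Ideal (MvPolynomial J (W2 p k)), I = Ideal.span {(p : MvPolynomial J (W2 p k))} := ⟨_, rfl⟩
  let e : (MvPolynomial J (W2 p k)) ⧸ I ≃+* (MvPolynomial J k) := (Ideal.quotEquivOfEq (hI.trans hker.symm)).trans
    (RingHom.quotientKerEquivOfSurjective
      (f := (MvPolynomial.map (res p k) : MvPolynomial J (W2 p k) →+* MvPolynomial J k)) hlP.surj)
  have he : ∀ f : MvPolynomial J (W2 p k), e (Ideal.Quotient.mk I f) = MvPolynomial.map (res p k) f := fun f => rfl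
  letI : Algebra (MvPolynomial J k) B := (coord k (fun j => π (xt j))).toAlgebra
  haveI hPB : Algebra.Etale (MvPolynomial J k) B := hx
  letI : Algebra (MvPolynomial J (W2 p k) ⧸ I) (MvPolynomial J k) :=
    (e : MvPolynomial J (W2 p k) ⧸ I →+* MvPolynomial J k).toAlgebra
  letI : Algebra (MvPolynomial J (W2 p k) ⧸ I) B :=
    ((algebraMap (MvPolynomial J k) B).comp (e : MvPolynomial J (W2 p k) ⧸ I →+* MvPolynomial J k)).toAlgebra
  haveI : IsScalarTower (MvPolynomial J (W2 p k) ⧸ I) (MvPolynomial J k) B := .of_algebraMap_eq' rfl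
  have hkP : Algebra.Etale (MvPolynomial J (W2 p k) ⧸ I) (MvPolynomial J k) :=
    Algebra.Etale.of_equiv (A := MvPolynomial J (W2 p k) ⧸ I) { e with commutes' := fun r => rfl }
  have : Algebra.Etale (MvPolynomial J (W2 p k) ⧸ I) B :=
    Algebra.Etale.comp (MvPolynomial J (W2 p k) ⧸ I) (MvPolynomial J k) B
  letI : Algebra (MvPolynomial J (W2 p k)) B :=
    ((algebraMap (MvPolynomial J k) B).comp (MvPolynomial.map (res p k))).toAlgebra
  have hp2 : (p : MvPolynomial J (W2 p k)) * (p : MvPolynomial J (W2 p k)) = 0 := by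
    have h3 := natCast_sq_ideal (p := p) (k := k) (J := J)
    rwa [Ideal.span_singleton_pow, Ideal.span_singleton_eq_bot, pow_two] at h3
  let πA : Bt →ₐ[MvPolynomial J (W2 p k)] B := { π with commutes' := fun f => coord_comp h xt f }
  have hsm : ∀ b : Bt, (p : MvPolynomial J (W2 p k)) • b = (p : Bt) * b := fun b => by
    rw [Algebra.smul_def, map_natCast]
  refine formallyEtale_of_red (p : MvPolynomial J (W2 p k)) hp2 I hI (fun a => rfl) πA h.surj (fun b hb => ?_)
    (fun b hb => ?_)
  · obtain ⟨b', hb'⟩ := (IsLift.pi_eq_zero_iff h b).1 hb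
    exact ⟨b', by rw [hsm]; exact hb'⟩
  · rw [hsm] at hb
    exact (IsLift.natCast_mul_eq_zero_iff h b).1 hb

end w2

end K904.EtLift
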