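import Groth.Agent.DelIll.K904.LocalCartier
import Groth.Agent.DelIll.K912.AltProp

/-!
# The perfect pairing `Λ^j × Λ^e → Λ^n` over lattices
-/

set_option autoImplicit false
set_option linter.unusedSectionVars false

open Module ExteriorAlgebra

namespace K904.ExtDual

variable {R L J : Type*} [CommRing R] [AddCommGroup L] [Module R L] [LinearOrder J]
  (b : Basis J R L)

theorem mul_of_not_disjoint {S T : Finset J} (h : ¬ Disjoint S T) :
    b.ExteriorAlgebra S * b.ExteriorAlgebra T = 0 :=
  basis_mul_of_not_disjoint b (⟨S, rfl⟩ : Set.powersetCard J S.card) (⟨T, rfl⟩ : Set.powersetCard J T.card) h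

theorem mul_of_disjoint {S T : Finset J} (h : Disjoint S T) :
    ∃ ε : ℤˣ, b.ExteriorAlgebra S * b.ExteriorAlgebra T = ε • b.ExteriorAlgebra (S ∪ T) := by
  have h1 := basis_mul_of_disjoint b (⟨S, rfl⟩ : Set.powersetCard J S.card) (⟨T, rfl⟩ : Set.powersetCard J T.card) h
  have h2 : (Set.powersetCard.disjUnion (s := (⟨S, rfl⟩ : Set.powersetCard J S.card))
      (t := (⟨T, rfl⟩ : Set.powersetCard J T.card)) h : Set.powersetCard J (S.card + T.card)).1 = S ∪ T := by
    simp [Set.powersetCard.disjUnion]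
  rw [h2] at h1
  exact ⟨_, h1⟩

theorem ι_eq (j : J) : ι R (b j) = b.ExteriorAlgebra {j} := by
  obtain ⟨n, v, h1, h2, -, h3⟩ := Ext.exists_basis_eq b {j}
  rw [Finset.card_singleton] at h3
  subst h3
  rw [h1, ιMulti_apply]
  have h4 : v 0 = j := by
    have := (h2 (v 0)).2 ⟨0, rfl⟩
    simpa using this
  simp [h4]

variable [Fintype J]

/-- Coefficients of an element of degree `a`. -/
theorem repr_eq_zero {a : ℕ} {y : ExteriorAlgebra R L} (hy : y ∈ ⋀[R]^a L) {S : Finset J} (hS : S.card ≠ a) :
    b.ExteriorAlgebra.repr y S = 0 := by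
  obtain ⟨c, rfl⟩ := LocalCartier.mem_degree b a y hy
  rw [map_sum, Finsupp.coe_finsetSum, Finset.sum_apply]
  refine Finset.sum_eq_zero fun s _ => ?_
  rw [map_smul, Basis.repr_self, Finsupp.smul_apply, Finsupp.single_eq_of_ne, smul_zero]
  rintro rfl
  exact hS s.2

theorem sum_powersetCard {a : ℕ} {y : ExteriorAlgebra R L} (hy : y ∈ ⋀[R]^a L) :
    y = ∑ s : Set.powersetCard J a, b.ExteriorAlgebra.repr y s.1 • b.ExteriorAlgebra s.1 := by
  obtain ⟨c, h⟩ := LocalCartier.mem_degree b a y hy
  have h1 : ∀ s : Set.powersetCard J a, b.ExteriorAlgebra.repr y s.1 = c s := by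
    intro s
    rw [h, map_sum, Finsupp.coe_finsetSum, Finset.sum_apply, Finset.sum_eq_single s]
    · rw [map_smul, Basis.repr_self, Finsupp.smul_apply, Finsupp.single_eq_same, smul_eq_mul, mul_one]
    · intro t _ ht
      rw [map_smul, Basis.repr_self, Finsupp.smul_apply, Finsupp.single_eq_of_ne, smul_zero]
      exact fun h => ht (Subtype.ext h.symm)
    · exact fun h => absurd (Finset.mem_univ _) h
  conv_lhs => rw [h]
  exact Finset.sum_congr rfl fun s _ => by rw [h1]

/-- A form of top degree. -/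
theorem top_eq {y : ExteriorAlgebra R L} (hy : y ∈ ⋀[R]^(Fintype.card J) L) :
    y = b.ExteriorAlgebra.repr y Finset.univ • b.ExteriorAlgebra Finset.univ := by
  have h1 : ∀ S : Finset J, S.card = Fintype.card J → S = Finset.univ := fun S hS => (Finset.card_eq_iff_eq_univ S).1 hS
  rw [sum_powersetCard b hy]
  have h2 : ∀ s : Set.powersetCard J (Fintype.card J), s.1 = Finset.univ := fun s => h1 _ s.2
  have : Unique (Set.powersetCard J (Fintype.card J)) :=
    ⟨⟨⟨Finset.univ, Finset.card_univ⟩⟩, fun s => Subtype.ext (h2 s)⟩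
  rw [Fintype.sum_unique]
  have h3 : (default : Set.powersetCard J (Fintype.card J)).1 = Finset.univ := h2 _
  rw [h3]
  congr 1
  rw [map_smul, Basis.repr_self, Finsupp.smul_apply, Finsupp.single_eq_same, smul_eq_mul, mul_one]

theorem eq_compl {j e : ℕ} (hje : j + e = Fintype.card J) {S T : Finset J} (hS : S.card = j) (hT : T.card = e)
    (h : Disjoint S T) : S = Tᶜ := by
  have h1 : S ⊆ Tᶜ := by
    intro x hx
    rw [Finset.mem_compl]
    exact fun h' => Finset.disjoint_left.1 h hx h'
  refine Finset.eq_of_subset_of_card_le h1 ?_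
  rw [Finset.card_compl]
  omega

/-- Multiplication by a basis element picks out one coefficient. -/
theorem mul_basis_eq {j e : ℕ} (hje : j + e = Fintype.card J) {y : ExteriorAlgebra R L} (hy : y ∈ ⋀[R]^j L)
    {T : Finset J} (hT : T.card = e) : y * b.ExteriorAlgebra T =
      b.ExteriorAlgebra.repr y Tᶜ • (b.ExteriorAlgebra Tᶜ * b.ExteriorAlgebra T) := by
  have hTc : Tᶜ.card = j := by rw [Finset.card_compl]; omega
  conv_lhs => rw [sum_powersetCard b hy]
  rw [Finset.sum_mul, Finset.sum_eq_single (⟨Tᶜ, hTc⟩ : Set.powersetCard J j)]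
  · rw [smul_mul_assoc]
  · intro s _ hs
    rw [smul_mul_assoc, mul_of_not_disjoint b, smul_zero]
    intro h
    exact hs (Subtype.ext (eq_compl hje s.2 hT h))
  · exact fun h => absurd (Finset.mem_univ _) h

theorem compl_mul (T : Finset J) : ∃ ε : ℤˣ, b.ExteriorAlgebra Tᶜ * b.ExteriorAlgebra T =
    ε • b.ExteriorAlgebra Finset.univ := by
  obtain ⟨ε, h⟩ := mul_of_disjoint b (S := Tᶜ) (T := T) (by
    rw [Finset.disjoint_left]
    exact fun x hx => Finset.mem_compl.1 hx)
  have h1 : Tᶜ ∪ T = Finset.univ := by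
    ext x
    simp [em']
  rw [h1] at h
  exact ⟨ε, h⟩

include b in
/-- The pairing is nondegenerate. -/
theorem eq_zero_of_mul {j e : ℕ} (hje : j + e = Fintype.card J) {y : ExteriorAlgebra R L} (hy : y ∈ ⋀[R]^j L)
    (h : ∀ g ∈ ⋀[R]^e L, y * g = 0) : y = 0 := by
  rw [sum_powersetCard b hy]
  refine Finset.sum_eq_zero fun s _ => ?_
  have hs : s.1ᶜ.card = e := by
    rw [Finset.card_compl]
    have : s.1.card = j := s.2
    omega
  have h1 := mul_basis_eq b hje hy hs
  rw [h _ (LocalCartier.basis_mem_degree b _ hs), compl_compl] at h1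
  obtain ⟨ε, h2⟩ := compl_mul b s.1ᶜ
  rw [compl_compl] at h2
  rw [h2] at h1
  have h3 := congrArg (fun z => ε⁻¹ • b.ExteriorAlgebra.repr z Finset.univ) h1
  simp only [map_zero, Finsupp.zero_apply, smul_zero] at h3
  have h4 : b.ExteriorAlgebra.repr y s.1 = 0 := by
    rw [h3]
    rcases Int.units_eq_one_or ε with rfl | rfl
    · simp
    · simp
  rw [h4, zero_smul]

section lattice

variable {k : Type*} [Field k] [Algebra k R] [Module k L] [IsScalarTower k R L]
  (A : Subalgebra k R) (N : Submodule k L)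

/-- `N` is the `A`-lattice spanned by `b`. -/
structure IsLat : Prop where
  mem : ∀ j, b j ∈ N
  repr : ∀ w ∈ N, ∀ j, b.repr w j ∈ A

variable {A N} {b}

open K912.Alt

omit [Fintype J] [Module k L] [IsScalarTower k R L] in
theorem units_smul_mem (A : Subalgebra k R) (ε : ℤˣ) {r : R} (hr : r ∈ A) : ε • r ∈ A := by
  rcases Int.units_eq_one_or ε with rfl | rfl
  · rwa [one_smul]
  · rw [Units.neg_smul, one_smul]
    exact A.neg_mem hr

omit [Fintype J] in
theorem repr_units_smul (b : Basis J R L) (ε : ℤˣ) (y : ExteriorAlgebra R L) (S : Finset J) :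
    b.ExteriorAlgebra.repr (ε • y) S = ε • b.ExteriorAlgebra.repr y S := by
  rcases Int.units_eq_one_or ε with rfl | rfl
  · rw [one_smul, one_smul]
  · rw [Units.neg_smul, one_smul, Units.neg_smul, one_smul, map_neg, Finsupp.neg_apply]

theorem repr_ι_mul (h : IsLat b A N) {w : L} (hw : w ∈ N) {x : ExteriorAlgebra R L}
    (hx : ∀ S, b.ExteriorAlgebra.repr x S ∈ A) (S : Finset J) :
    b.ExteriorAlgebra.repr (ι R w * x) S ∈ A := by
  classical
  rw [← b.sum_repr w, ← b.ExteriorAlgebra.sum_repr x, map_sum, Finset.sum_mul, map_sum, Finsupp.coe_finsetSum,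
    Finset.sum_apply]
  refine A.sum_mem fun j _ => ?_
  rw [map_smul, smul_mul_assoc, map_smul, Finsupp.smul_apply, smul_eq_mul, Finset.mul_sum, map_sum,
    Finsupp.coe_finsetSum, Finset.sum_apply]
  refine A.mul_mem (h.repr w hw j) (A.sum_mem fun T _ => ?_)
  rw [mul_smul_comm, map_smul, Finsupp.smul_apply, smul_eq_mul, ι_eq]
  refine A.mul_mem (hx T) ?_
  by_cases hd : Disjoint {j} T
  · obtain ⟨ε, hε⟩ := mul_of_disjoint b hd
    rw [hε, repr_units_smul, Basis.repr_self]
    refine units_smul_mem A ε ?_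
    rw [Finsupp.single_apply]
    split_ifs
    · exact A.one_mem
    · exact A.zero_mem
  · rw [mul_of_not_disjoint b hd, map_zero]
    exact A.zero_mem

theorem repr_ιMulti (h : IsLat b A N) (a : ℕ) (w : Fin a → L) (hw : ∀ j, w j ∈ N) (S : Finset J) :
    b.ExteriorAlgebra.repr (ιMulti R a w) S ∈ A := by
  classical
  induction a generalizing S with
  | zero =>
    have h1 : ιMulti R 0 w = b.ExteriorAlgebra ∅ := by
      obtain ⟨n, v, h1, h2, -, h3⟩ := Ext.exists_basis_eq b ∅
      rw [Finset.card_empty] at h3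
      subst h3
      rw [h1, ιMulti_zero_apply, ιMulti_zero_apply]
    rw [h1, Basis.repr_self, Finsupp.single_apply]
    split_ifs
    · exact A.one_mem
    · exact A.zero_mem
  | succ a ih =>
    rw [ιMulti_succ_apply]
    exact repr_ι_mul h (hw 0) (fun S => ih (Matrix.vecTail w) (fun j => hw j.succ) S) S

/-- The lattice in terms of coordinates. -/
theorem mem_lat_iff (h : IsLat b A N) (a : ℕ) (x : ExteriorAlgebra R L) :
    x ∈ lat (Subalgebra.toSubmodule A) N a ↔ x ∈ ⋀[R]^a L ∧ ∀ S, b.ExteriorAlgebra.repr x S ∈ A := by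
  constructor
  · intro hx
    refine ⟨lat_le_exteriorPower _ _ a hx, ?_⟩
    induction hx using Submodule.span_induction with
    | mem x hx =>
      obtain ⟨q, hq, w, hw, rfl⟩ := hx
      intro S
      rw [map_smul, Finsupp.smul_apply, smul_eq_mul]
      exact A.mul_mem hq (repr_ιMulti h a w hw S)
    | zero =>
      intro S
      rw [map_zero]
      exact A.zero_mem
    | add x y _ _ hx hy =>
      intro S
      rw [map_add]
      exact A.add_mem (hx S) (hy S)
    | smul t x _ hx =>
      intro S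
      rw [← algebraMap_smul R t x, map_smul, Finsupp.smul_apply, smul_eq_mul]
      exact A.mul_mem (A.algebraMap_mem t) (hx S)
  · rintro ⟨h1, h2⟩
    rw [sum_powersetCard b h1]
    refine Submodule.sum_mem _ fun s _ => ?_
    obtain ⟨m, v, h3, -, -, h4⟩ := Ext.exists_basis_eq b s.1
    rw [h3]
    have h5 : m = a := h4.trans s.2
    subst h5
    exact smul_ιMulti_mem (h2 s.1) fun j => h.mem _

/-- **The pairing is perfect over lattices.** -/
theorem exists_mul_eq (h : IsLat b A N) {j e : ℕ} (hje : j + e = Fintype.card J)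
    (f : ExteriorAlgebra R L →ₗ[R] ExteriorAlgebra R L)
    (hf : ∀ g ∈ lat (Subalgebra.toSubmodule A) N e, f g ∈ lat (Subalgebra.toSubmodule A) N (Fintype.card J)) :
    ∃ y ∈ lat (Subalgebra.toSubmodule A) N j, ∀ g ∈ ⋀[R]^e L, y * g = f g := by
  classical
  choose ε hε using fun T : Finset J => compl_mul b T
  have hB : ∀ T : Finset J, T.card = e → b.ExteriorAlgebra T ∈ lat (Subalgebra.toSubmodule A) N e := by
    intro T hT
    rw [mem_lat_iff h]
    refine ⟨LocalCartier.basis_mem_degree b _ hT, fun S => ?_⟩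
    rw [Basis.repr_self, Finsupp.single_apply]
    split_ifs
    · exact A.one_mem
    · exact A.zero_mem
  let c : Finset J → R := fun S => (ε Sᶜ)⁻¹ • b.ExteriorAlgebra.repr (f (b.ExteriorAlgebra Sᶜ)) Finset.univ
  have hc : ∀ S : Finset J, S.card = j → c S ∈ A := by
    intro S hS
    refine units_smul_mem A _ ?_
    refine ((mem_lat_iff h _ _).1 (hf _ (hB _ ?_))).2 _
    rw [Finset.card_compl]
    omega
  let y : ExteriorAlgebra R L := ∑ s : Set.powersetCard J j, c s.1 • b.ExteriorAlgebra s.1
  have hy : y ∈ lat (Subalgebra.toSubmodule A) N j := by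
    refine Submodule.sum_mem _ fun s _ => ?_
    obtain ⟨m, v, h3, -, -, h4⟩ := Ext.exists_basis_eq b s.1
    rw [h3]
    have h5 : m = j := h4.trans s.2
    subst h5
    exact smul_ιMulti_mem (hc s.1 s.2) fun j => h.mem _
  have hrepr : ∀ S : Finset J, S.card = j → b.ExteriorAlgebra.repr y S = c S := by
    intro S hS
    rw [map_sum, Finsupp.coe_finsetSum, Finset.sum_apply, Finset.sum_eq_single (⟨S, hS⟩ : Set.powersetCard J j)]
    · rw [map_smul, Basis.repr_self, Finsupp.smul_apply, Finsupp.single_eq_same, smul_eq_mul, mul_one]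
    · intro t _ ht
      rw [map_smul, Basis.repr_self, Finsupp.smul_apply, Finsupp.single_eq_of_ne, smul_zero]
      exact fun h => ht (Subtype.ext h.symm)
    · exact fun h => absurd (Finset.mem_univ _) h
  refine ⟨y, hy, ?_⟩
  have key : ∀ T : Finset J, T.card = e → y * b.ExteriorAlgebra T = f (b.ExteriorAlgebra T) := by
    intro T hT
    have hTc : Tᶜ.card = j := by rw [Finset.card_compl]; omega
    rw [mul_basis_eq b hje (lat_le_exteriorPower _ _ j hy) hT, hrepr _ hTc, hε T]
    have h1 := top_eq b (lat_le_exteriorPower _ _ _ (hf _ (hB T hT)))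
    have h2 : c Tᶜ = (ε T)⁻¹ • b.ExteriorAlgebra.repr (f (b.ExteriorAlgebra T)) Finset.univ := by
      change (ε Tᶜᶜ)⁻¹ • b.ExteriorAlgebra.repr (f (b.ExteriorAlgebra Tᶜᶜ)) Finset.univ = _
      rw [compl_compl]
    rw [h2]
    conv_rhs => rw [h1]
    rcases Int.units_eq_one_or (ε T) with h3 | h3
    · rw [h3, inv_one, one_smul, one_smul]
    · rw [h3, inv_neg, inv_one, Units.neg_smul, one_smul, Units.neg_smul, one_smul, neg_smul, smul_neg, neg_neg]
  intro g hg
  rw [sum_powersetCard b hg, Finset.mul_sum, map_sum]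
  refine Finset.sum_congr rfl fun s _ => ?_
  rw [mul_smul_comm, map_smul, key s.1 s.2]

/-- Products of lattices. -/
theorem mul_mem_lat {a c : ℕ} {x y : ExteriorAlgebra R L} (hx : x ∈ lat (Subalgebra.toSubmodule A) N a)
    (hy : y ∈ lat (Subalgebra.toSubmodule A) N c) : x * y ∈ lat (Subalgebra.toSubmodule A) N (a + c) := by
  induction hx using Submodule.span_induction with
  | mem x hx =>
    obtain ⟨q, hq, w, hw, rfl⟩ := hx
    rw [smul_mul_assoc]
    refine smul_mem_lat (Q := Subalgebra.toSubmodule A) (fun q' hq' => A.mul_mem hq hq') _ ?_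
    clear hq
    induction a with
    | zero =>
      rw [ιMulti_zero_apply, one_mul, zero_add]
      exact hy
    | succ a ih =>
      rw [ιMulti_succ_apply, mul_assoc, Nat.add_right_comm]
      exact ι_mul_mem (hw 0) _ (ih (Matrix.vecTail w) fun j => hw j.succ)
  | zero =>
    rw [zero_mul]
    exact Submodule.zero_mem _
  | add x x' _ _ hx hx' =>
    rw [add_mul]
    exact Submodule.add_mem _ hx hx'
  | smul t x _ hx =>
    rw [smul_mul_assoc]
    exact Submodule.smul_mem _ _ hx

end lattice

end K904.ExtDual
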