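import Groth.Agent.DelIll.K904.LocalCartier
import Groth.Agent.Quiet.K841.Frob
import Mathlib.RingTheory.TensorProduct.IsBaseChangeFree
import Mathlib.Algebra.Category.Ring.Constructions

/-!
# Étale coordinates are a `p`-basis
-/

set_option autoImplicit false
set_option linter.unusedSectionVars false
set_option linter.style.haveILetI false

open Module

namespace K904.PBasis

open LocalCartier

universe u

section poly

variable (p : ℕ) [Fact p.Prime] {k : Type*} [CommRing k] [CharP k p] [PerfectRing k p] {J : Type*}
  [LinearOrder J] [Fintype J]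

/-- The exponent with quotient `q` and remainder `a`. -/
noncomputable def expo (a : J → ZMod p) (q : J →₀ ℕ) : J →₀ ℕ :=
  p • q + Finsupp.equivFunOnFinite.symm (fun j => (a j).val)

theorem expo_apply (a : J → ZMod p) (q : J →₀ ℕ) (j : J) : expo p a q j = p * q j + (a j).val := by
  simp [expo]

theorem expo_inj {a a' : J → ZMod p} {q q' : J →₀ ℕ} (h : expo p a q = expo p a' q') : a = a' ∧ q = q' := by
  have h1 : ∀ j, p * q j + (a j).val = p * q' j + (a' j).val := fun j => by
    rw [← expo_apply, ← expo_apply, h]
  have h2 : ∀ j, (a j).val = (a' j).val := fun j => by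
    have := congrArg (· % p) (h1 j)
    simpa [Nat.mod_eq_of_lt (ZMod.val_lt _)] using this
  refine ⟨funext fun j => ZMod.val_injective p (h2 j), Finsupp.ext fun j => ?_⟩
  have h3 := h1 j
  rw [h2 j] at h3
  exact Nat.eq_of_mul_eq_mul_left (Fact.out : p.Prime).pos (Nat.add_right_cancel h3)

theorem expo_surj (m : J →₀ ℕ) : ∃ (a : J → ZMod p) (q : J →₀ ℕ), expo p a q = m := by
  refine ⟨fun j => (m j : ZMod p), Finsupp.equivFunOnFinite.symm (fun j => m j / p), Finsupp.ext fun j => ?_⟩
  rw [expo_apply, ZMod.val_natCast]
  exact Nat.div_add_mod _ _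

theorem mon_X (a : J → ℕ) :
    mon (fun j => (MvPolynomial.X j : MvPolynomial J k)) a =
      MvPolynomial.monomial (Finsupp.equivFunOnFinite.symm a) 1 := by
  classical
  rw [mon, MvPolynomial.monomial_eq, map_one, one_mul, Finsupp.prod_fintype _ _ (fun _ => pow_zero _)]
  rfl

/-- The variables of a polynomial ring over a perfect ring are a `p`-basis. -/
theorem isPBasis_X : IsPBasis p (fun j => (MvPolynomial.X j : MvPolynomial J k)) := by
  let F : ((J → ZMod p) → MvPolynomial J k) →+ MvPolynomial J k :=
    { toFun := fun β => ∑ a, β a ^ p * mon (fun j => (MvPolynomial.X j : MvPolynomial J k)) (fun j => (a j).val)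
      map_zero' := by simp [(Fact.out : p.Prime).ne_zero]
      map_add' := fun β γ => by
        rw [← Finset.sum_add_distrib]
        refine Finset.sum_congr rfl fun a _ => ?_
        rw [Pi.add_apply, add_pow_char, add_mul] }
  have hF : ∀ (a : J → ZMod p) (q : J →₀ ℕ) (c : k),
      F (Pi.single a (MvPolynomial.monomial q c)) = MvPolynomial.monomial (expo p a q) (c ^ p) := by
    intro a q c
    change ∑ a', _ = _
    rw [Finset.sum_eq_single a]
    · rw [Pi.single_eq_same, MvPolynomial.monomial_pow, mon_X, MvPolynomial.monomial_mul, mul_one]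
      rfl
    · intro b _ hb
      rw [Pi.single_eq_of_ne hb, zero_pow (Fact.out : p.Prime).ne_zero, zero_mul]
    · intro h
      exact absurd (Finset.mem_univ _) h
  have hco : ∀ (β : (J → ZMod p) → MvPolynomial J k) (a : J → ZMod p) (q : J →₀ ℕ),
      MvPolynomial.coeff (expo p a q) (F β) = MvPolynomial.coeff q (β a) ^ p := by
    intro β a q
    have hβ : β = ∑ a', ∑ q' ∈ (β a').support, Pi.single a' (MvPolynomial.monomial q' (MvPolynomial.coeff q' (β a'))) := by
      funext b
      rw [Finset.sum_apply, Finset.sum_eq_single b]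
      · rw [Finset.sum_apply]
        simp only [Pi.single_eq_same]
        exact (β b).as_sum
      · intro a' _ ha'
        rw [Finset.sum_apply]
        exact Finset.sum_eq_zero fun q' _ => by rw [Pi.single_eq_of_ne ha'.symm]
      · intro h
        exact absurd (Finset.mem_univ _) h
    conv_lhs => rw [hβ]
    rw [map_sum, MvPolynomial.coeff_sum, Finset.sum_eq_single a]
    · rw [map_sum, MvPolynomial.coeff_sum]
      by_cases hq : q ∈ (β a).support
      · rw [Finset.sum_eq_single q]
        · rw [hF, MvPolynomial.coeff_monomial, if_pos rfl]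
        · intro q' _ hq'
          rw [hF, MvPolynomial.coeff_monomial, if_neg]
          exact fun h => hq' (expo_inj p h).2
        · intro h
          exact absurd hq h
      · rw [Finset.sum_eq_zero]
        · rw [MvPolynomial.notMem_support_iff.1 hq, zero_pow (Fact.out : p.Prime).ne_zero]
        · intro q' hq'
          rw [hF, MvPolynomial.coeff_monomial, if_neg]
          intro h
          exact hq ((expo_inj p h).2 ▸ hq')
    · intro a' _ ha'
      rw [map_sum, MvPolynomial.coeff_sum]
      refine Finset.sum_eq_zero fun q' _ => ?_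
      rw [hF, MvPolynomial.coeff_monomial, if_neg]
      exact fun h => ha' (expo_inj p h).1
    · intro h
      exact absurd (Finset.mem_univ _) h
  refine ⟨(injective_iff_map_eq_zero F).2 fun β hβ => ?_, fun f => ?_⟩
  · funext a
    ext q
    have := hco β a q
    rw [hβ, MvPolynomial.coeff_zero] at this
    have h2 : frobenius k p (MvPolynomial.coeff q (β a)) = frobenius k p 0 := by
      rw [map_zero]; exact this.symm
    simpa using (PerfectRing.bijective_frobenius (R := k) (p := p)).1 h2
  · have : f ∈ AddMonoidHom.range F := by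
      rw [f.as_sum]
      refine AddSubgroup.sum_mem _ fun m _ => ?_
      obtain ⟨a, q, rfl⟩ := expo_surj p m
      obtain ⟨c, hc⟩ := (PerfectRing.bijective_frobenius (R := k) (p := p)).2 (MvPolynomial.coeff (expo p a q) f)
      refine ⟨Pi.single a (MvPolynomial.monomial q c), ?_⟩
      rw [hF]
      congr 1
    exact this

end poly

section etale

variable (p : ℕ) [Fact p.Prime] {P A : Type u} [CommRing P] [CommRing A] [CharP P p] [CharP A p] {J : Type*}
  [LinearOrder J] [Fintype J] (φ : P →+* A)

/-- An étale map preserves `p`-bases. -/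
theorem isPBasis_of_etale (hφ : φ.Etale) (x : J → P) (hx : IsPBasis p x) : IsPBasis p (fun j => φ (x j)) := by
  have hP : (p : CommRingCat.of P) = 0 := CharP.cast_eq_zero P p
  have hA : (p : CommRingCat.of A) = 0 := CharP.cast_eq_zero A p
  have hpo := K841.Quiet.isPushout_fr_of_etale (p := p) (P := CommRingCat.of P) (A := CommRingCat.of A)
    (CommRingCat.ofHom φ) hφ hP hA
  letI : Algebra (Cp P) P := algCp p P
  letI : Algebra (Cp A) A := algCp p A
  letI : Algebra (Cp P) (Cp A) := (show Cp P →+* Cp A from φ).toAlgebra
  letI : Algebra P A := φ.toAlgebra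
  letI : Algebra (Cp P) A := (((frobenius A p).comp (un A).toRingHom).comp (algebraMap (Cp P) (Cp A))).toAlgebra
  haveI : IsScalarTower (Cp P) (Cp A) A := IsScalarTower.of_algebraMap_eq fun a => rfl
  haveI : IsScalarTower (Cp P) P A := IsScalarTower.of_algebraMap_eq fun a => by
    change (φ (un P a)) ^ p = φ ((un P a) ^ p)
    rw [map_pow]
  have h1 : Algebra.IsPushout (Cp P) (Cp A) P A := by
    rw [← CommRingCat.isPushout_iff_isPushout]
    exact hpo.flip
  let b : Basis (J → ZMod p) (Cp A) A := h1.out.basis (bas p hx)
  have hb : ∀ a, b a = mon (fun j => φ (x j)) (fun j => (a j).val) := by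
    intro a
    have h2 : b a = φ (bas p hx a) := IsBaseChange.basis_apply _ _ _
    rw [h2, bas_apply, mon, map_prod]
    exact Finset.prod_congr rfl fun j _ => map_pow φ _ _
  have h3 : ∀ β : (J → ZMod p) → A, b.equivFun.symm (fun a => (un A).symm (β a)) =
      ∑ a, β a ^ p * mon (fun j => φ (x j)) (fun j => (a j).val) := by
    intro β
    rw [Basis.equivFun_symm_apply]
    refine Finset.sum_congr rfl fun a _ => ?_
    rw [hb, algCp_smul]
    rfl
  have h4 : (fun β : (J → ZMod p) → A => ∑ a, β a ^ p * mon (fun j => φ (x j)) (fun j => (a j).val)) =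
      b.equivFun.symm ∘ (fun β : (J → ZMod p) → A => (β : (J → ZMod p) → Cp A)) := by
    funext β
    exact (h3 β).symm
  rw [IsPBasis, h4]
  exact b.equivFun.symm.bijective.comp Function.bijective_id

end etale

/-- **Étale coordinates over a perfect ring are a `p`-basis.** -/
theorem isPBasis_of_etale_coord (p : ℕ) [Fact p.Prime] {k A : Type u} [CommRing k] [CharP k p] [PerfectRing k p]
    [CommRing A] [CharP A p] {J : Type} [LinearOrder J] [Fintype J] [Algebra k A] (x : J → A)
    (hx : (MvPolynomial.aeval (R := k) x).toRingHom.Etale) : IsPBasis p x := by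
  have h := isPBasis_of_etale p (MvPolynomial.aeval (R := k) x).toRingHom hx _ (isPBasis_X p (k := k) (J := J))
  have h2 : (fun j => (MvPolynomial.aeval (R := k) x).toRingHom (MvPolynomial.X j)) = x := by
    funext j
    exact MvPolynomial.aeval_X _ _
  rwa [h2] at h

end K904.PBasis
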