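import Groth.Agent.DelIll.K904.Witt
import Groth.Agent.DelIll.K904.PBasis

/-!
# The maps `s`, `f`, `h` of Deligne--Illusie attached to lifted coordinates

`Bt → B` a flat lifting over `W₂(k)`, `xt : J → Bt` lifted étale coordinates.  `s : Bt → W₂(B)` is the unique ring
map with `s (xt j) = [x j]`.
-/

set_option autoImplicit false
set_option linter.unusedSectionVars false
set_option linter.style.haveILetI false

open FrobAlg K673.W2Basic K673.Lift K674.Ghost

namespace K904.FrobMaps

open _root_.K904.Witt _root_.K904.EtLift _root_.K904.LocalCartier Module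

universe u v

variable {p : ℕ} [Fact p.Prime] {k : Type u} [Field k] [CharP k p] [PerfectRing k p]
  {B Bt : Type u} [CommRing B] [CharP B p] [Algebra k B] [CommRing Bt] {ι : W2 p k →+* Bt} {π : Bt →+* B}
  {J : Type}

/-- `s` is a Witt section adapted to the lifted coordinates `xt`. -/
structure IsSec (k : Type u) [Field k] [Algebra k B] (ι : W2 p k →+* Bt) (π : Bt →+* B) (xt : J → Bt)
    (s : Bt →+* W2 p B) : Prop where
  res : ∀ b, (s b).coeff 0 = π b
  base : ∀ w, s (ι w) = WittGrp.truncMap p 2 (algebraMap k B) w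
  coord : ∀ j, s (xt j) = tau (π (xt j))

theorem ker_res_nilpotent : IsNilpotent (RingHom.ker (res p B)) := by
  refine ⟨2, ?_⟩
  rw [pow_two, Ideal.zero_eq_bot, eq_bot_iff, Ideal.mul_le]
  intro x hx y hy
  have hx0 : x.coeff 0 = 0 := by rw [← res_apply]; exact hx
  have hy0 : y.coeff 0 = 0 := by rw [← res_apply]; exact hy
  rw [Ideal.mem_bot]
  refine ext2 ?_ ?_
  · rw [coeff_zero_mul, hx0, zero_mul, TruncatedWittVector.coeff_zero]
  · rw [coeff_one_mul', hx0, hy0, zero_pow (Fact.out : p.Prime).ne_zero, zero_mul, zero_mul, add_zero,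
      TruncatedWittVector.coeff_zero]

theorem existsUnique_sec (h : IsLift p k B Bt ι π) (xt : J → Bt) (hx : (coord k (fun j => π (xt j))).Etale) :
    ∃! s : Bt →+* W2 p B, IsSec k ι π xt s := by
  letI : Algebra (MvPolynomial J (W2 p k)) Bt := (coordt ι xt).toAlgebra
  haveI := formallyEtale h xt hx
  letI : Algebra (MvPolynomial J (W2 p k)) (W2 p B) :=
    (MvPolynomial.eval₂Hom (WittGrp.truncMap p 2 (algebraMap k B)) (fun j => tau (π (xt j)))).toAlgebra
  letI : Algebra (MvPolynomial J (W2 p k)) B := (π.comp (coordt ι xt)).toAlgebra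
  let πA : Bt →ₐ[MvPolynomial J (W2 p k)] B := { π with commutes' := fun f => rfl }
  have hres : (res p B).comp (MvPolynomial.eval₂Hom (WittGrp.truncMap p 2 (algebraMap k B)) (fun j => tau (π (xt j)))) =
      π.comp (coordt ι xt) := by
    refine MvPolynomial.ringHom_ext (fun w => ?_) (fun j => ?_)
    · rw [RingHom.comp_apply, MvPolynomial.eval₂Hom_C, RingHom.comp_apply, coordt_C, res_apply, WittGrp.coeff_truncMap,
        ← res_apply]
      exact (congr($(h.comm) w)).symm
    · rw [RingHom.comp_apply, MvPolynomial.eval₂Hom_X', RingHom.comp_apply, coordt_X, res_apply, tau_zero]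
  let rA : W2 p B →ₐ[MvPolynomial J (W2 p k)] B := { res p B with commutes' := fun f => congr($hres f) }
  have hr : Function.Surjective rA := res_surjective p B
  let θ := Algebra.FormallySmooth.liftOfSurjective πA rA hr ker_res_nilpotent
  have hθ : ∀ b, (θ b).coeff 0 = π b := fun b => by
    rw [← res_apply]
    exact Algebra.FormallySmooth.liftOfSurjective_apply πA rA hr ker_res_nilpotent b
  refine ⟨(θ : Bt →+* W2 p B), ⟨hθ, fun w => ?_, fun j => ?_⟩, ?_⟩
  · have h1 : ι w = algebraMap (MvPolynomial J (W2 p k)) Bt (MvPolynomial.C w) := (coordt_C xt w).symm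
    have h2 : θ (ι w) = algebraMap (MvPolynomial J (W2 p k)) (W2 p B) (MvPolynomial.C w) := by rw [h1, θ.commutes]
    refine h2.trans ?_
    exact MvPolynomial.eval₂Hom_C _ _ _
  · have h1 : xt j = algebraMap (MvPolynomial J (W2 p k)) Bt (MvPolynomial.X j) := (coordt_X xt j).symm
    have h2 : θ (xt j) = algebraMap (MvPolynomial J (W2 p k)) (W2 p B) (MvPolynomial.X j) := by
      rw [← θ.commutes]; exact congrArg θ h1
    refine h2.trans ?_
    exact MvPolynomial.eval₂Hom_X' _ _ _
  · intro s hs
    let sA : Bt →ₐ[MvPolynomial J (W2 p k)] W2 p B :=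
      { s with
        commutes' := fun f => by
          have : s.comp (coordt ι xt) =
              MvPolynomial.eval₂Hom (WittGrp.truncMap p 2 (algebraMap k B)) (fun j => tau (π (xt j))) := by
            refine MvPolynomial.ringHom_ext (fun w => ?_) (fun j => ?_)
            · rw [RingHom.comp_apply, coordt_C, hs.base, MvPolynomial.eval₂Hom_C]
            · rw [RingHom.comp_apply, coordt_X, hs.coord, MvPolynomial.eval₂Hom_X']
          exact congr($this f) }
    have h1 : sA = θ := by
      refine Algebra.FormallyUnramified.lift_unique_of_ringHom (rA : W2 p B →+* B) ker_res_nilpotent sA θ ?_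
      ext b
      change res p B (s b) = res p B (θ b)
      rw [res_apply, res_apply, hs.res, hθ]
    ext1 b
    exact congr($h1 b)

/-- Derivation-like maps on a formally unramified algebra vanish if they vanish on the base. -/
theorem eq_zero_of_unramified {A T : Type u} [CommRing A] [CommRing T] [Algebra A T] [Algebra.FormallyUnramified A T]
    {M : Type v} [AddCommGroup M] (act : T → M →+ M) (act_one : act 1 = AddMonoidHom.id M)
    (act_mul : ∀ a b m, act (a * b) m = act a (act b m)) (act_add : ∀ a b m, act (a + b) m = act a m + act b m)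
    (F : T →+ M) (hF : ∀ b c, F (b * c) = act b (F c) + act c (F b)) (hA : ∀ a : A, F (algebraMap A T a) = 0) :
    ∀ b, F b = 0 := by
  letI : Module T M :=
    { smul := fun b m => act b m
      one_smul := fun m => by change act 1 m = m; rw [act_one]; rfl
      mul_smul := act_mul
      smul_zero := fun a => map_zero (act a)
      smul_add := fun a => map_add (act a)
      add_smul := act_add
      zero_smul := fun m => by
        change act 0 m = 0
        have := act_add 0 0 m
        rw [add_zero] at this
        exact left_eq_add.1 this }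
  letI : Module A M := Module.compHom M (algebraMap A T)
  haveI : IsScalarTower A T M := ⟨fun a b m => by rw [Algebra.smul_def, mul_smul]; rfl⟩
  have hone : F 1 = 0 := by
    rw [← map_one (algebraMap A T)]; exact hA 1
  let D : Derivation A T M :=
    { toFun := F
      map_add' := map_add F
      map_smul' := fun a b => by
        rw [RingHom.id_apply, Algebra.smul_def, hF, hA, map_zero, add_zero]
        rfl
      map_one_eq_zero' := hone
      leibniz' := hF }
  have hD : D = 0 := by
    haveI := (Algebra.formallyUnramified_iff A T).1 inferInstance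
    have h5 : D.liftKaehlerDifferential = 0 := by
      refine LinearMap.ext fun ω => ?_
      rw [Subsingleton.elim ω 0, map_zero, map_zero]
    rw [← D.liftKaehlerDifferential_comp, h5]
    rfl
  intro b
  exact congr($hD b)

/-- The first component of `s`. -/
noncomputable def lam (s : Bt →+* W2 p B) (b : Bt) : B := (s b).coeff 1

section lam

variable {xt : J → Bt} {s : Bt →+* W2 p B} (hs : IsSec k ι π xt s)
include hs

theorem lam_add (b c : Bt) : lam s (b + c) = lam s b + lam s c + carry p (π b) (π c) := by
  rw [lam, map_add, coeff_one_add', hs.res, hs.res]; rfl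

theorem lam_mul (b c : Bt) : lam s (b * c) = π b ^ p * lam s c + π c ^ p * lam s b := by
  rw [lam, map_mul, coeff_one_mul', hs.res, hs.res]; rfl

theorem lam_coord (j : J) : lam s (xt j) = 0 := by
  rw [lam, hs.coord, tau_one]

theorem lam_base (w : W2 p k) : lam s (ι w) = algebraMap k B (w.coeff 1) := by
  rw [lam, hs.base, WittGrp.coeff_truncMap]

theorem lam_p_mul (b : Bt) : lam s (p * b) = π b ^ p := by
  rw [lam, map_mul, map_natCast, coeff_one_natCast_mul, hs.res]

end lam

section eta

variable {xt xt' : J → Bt} {s s' : Bt →+* W2 p B}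

/-- The difference of two sections. -/
theorem exists_eta {J' : Type} {xt' : J' → Bt} (h : IsLift p k B Bt ι π) (hs : IsSec k ι π xt s)
    (hs' : IsSec k ι π xt' s') :
    ∃ η : B →+ B, (∀ b, η (π b) = lam s' b - lam s b) ∧ (∀ b c, η (b * c) = b ^ p * η c + c ^ p * η b) ∧
      ∀ a : k, η (algebraMap k B a) = 0 := by
  have hadd : ∀ b c, lam s' (b + c) - lam s (b + c) = (lam s' b - lam s b) + (lam s' c - lam s c) := by
    intro b c
    rw [lam_add hs, lam_add hs']; ring
  have hwd : ∀ b c, π b = π c → lam s' b - lam s b = lam s' c - lam s c := by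
    intro b c hbc
    have h1 : π (b - c) = 0 := by rw [map_sub, hbc, sub_self]
    obtain ⟨d, hd⟩ := (IsLift.pi_eq_zero_iff h _).1 h1
    have h2 : b = c + p * d := by rw [← hd]; ring
    rw [h2, hadd, lam_p_mul hs, lam_p_mul hs', sub_self, add_zero]
  let g : B → Bt := Function.surjInv h.surj
  have hg : ∀ b, π (g b) = b := Function.surjInv_eq h.surj
  refine ⟨AddMonoidHom.mk' (fun b => lam s' (g b) - lam s (g b)) (fun b c => ?_), fun b => ?_, fun b c => ?_,
    fun a => ?_⟩
  · rw [← hadd]
    exact hwd _ _ (by rw [hg, map_add, hg, hg])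
  · exact hwd _ _ (hg _)
  · change lam s' (g (b * c)) - lam s (g (b * c)) =
      b ^ p * (lam s' (g c) - lam s (g c)) + c ^ p * (lam s' (g b) - lam s (g b))
    rw [hwd (g (b * c)) (g b * g c) (by rw [hg, map_mul, hg, hg]), lam_mul hs, lam_mul hs', hg, hg]
    ring
  · change lam s' (g _) - lam s (g _) = 0
    obtain ⟨w, rfl⟩ := res_surjective p k a
    have h1 : π (ι w) = algebraMap k B (res p k w) := congr($(h.comm) w)
    rw [hwd (g (algebraMap k B (res p k w))) (ι w) (by rw [hg, h1]), lam_base hs, lam_base hs', sub_self]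

end eta

section chart

variable {L : Type v} [AddCommGroup L] [Module B L] [LinearOrder J] [Fintype J] {S : J → Prop} {x : J → B}
  {δ : B →+ L} {e : Basis J B L}

/-- Frobenius semilinear maps on `L` are determined by their values on `δ B`. -/
theorem semi_ext (hc : LogChart p S x δ e) {M : Type*} [AddCommGroup M] [Module B M]
    (hreg : ∀ j, S j → ∀ m : M, x j ^ p • m = 0 → m = 0) (g g' : L →+ M)
    (hg : ∀ (b : B) (ω : L), g (b • ω) = b ^ p • g ω) (hg' : ∀ (b : B) (ω : L), g' (b • ω) = b ^ p • g' ω)
    (h : ∀ b, g (δ b) = g' (δ b)) : g = g' := by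
  have he : ∀ j, g (e j) = g' (e j) := by
    intro j
    by_cases hS : S j
    · have h1 := h (x j)
      rw [hc.log j hS, hg, hg'] at h1
      rw [← sub_eq_zero]
      apply hreg j hS
      rw [smul_sub, h1, sub_self]
    · have h1 := h (x j)
      rwa [hc.plain j hS] at h1
  ext ω
  rw [← e.sum_repr ω, map_sum, map_sum]
  refine Finset.sum_congr rfl fun j _ => ?_
  rw [hg, hg', he]

/-- A Frobenius derivation of `B` over `k` which vanishes on étale coordinates vanishes. -/
theorem frobDer_eq_zero {M : Type*} [AddCommGroup M] [Module B M] (hx : (coord k x).Etale) (η : B →+ M)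
    (hη : ∀ b c, η (b * c) = b ^ p • η c + c ^ p • η b) (hk : ∀ a : k, η (algebraMap k B a) = 0)
    (hxj : ∀ j, η (x j) = 0) (b : B) : η b = 0 := by
  letI : Algebra (MvPolynomial J k) B := (coord k x).toAlgebra
  haveI : Algebra.Etale (MvPolynomial J k) B := hx
  refine eq_zero_of_unramified (A := MvPolynomial J k) (T := B) (M := M)
    (fun b => DistribSMul.toAddMonoidHom M (b ^ p)) ?_ ?_ ?_ η hη (fun f => ?_) b
  · ext m
    change (1 : B) ^ p • m = m
    rw [one_pow, one_smul]
  · intro a b m
    change (a * b) ^ p • m = a ^ p • b ^ p • m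
    rw [mul_pow, mul_smul]
  · intro a b m
    change (a + b) ^ p • m = a ^ p • m + b ^ p • m
    rw [add_pow_char, add_smul]
  · change η (coord k x f) = 0
    induction f using MvPolynomial.induction_on with
    | C a => rw [coord_C, hk]
    | add f g hf hg => rw [map_add, map_add, hf, hg, add_zero]
    | mul_X f j hf => rw [map_mul, hη, hf, coord_X, hxj, smul_zero, smul_zero, add_zero]

/-- The same on the lifting. -/
theorem frobDert_eq_zero {M : Type*} [AddCommGroup M] [Module B M] (h : IsLift p k B Bt ι π) (xt : J → Bt)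
    (hx : (coord k (fun j => π (xt j))).Etale) (η : Bt →+ M)
    (hη : ∀ b c, η (b * c) = π b ^ p • η c + π c ^ p • η b) (hk : ∀ w, η (ι w) = 0)
    (hxj : ∀ j, η (xt j) = 0) (b : Bt) : η b = 0 := by
  letI : Algebra (MvPolynomial J (W2 p k)) Bt := (coordt ι xt).toAlgebra
  haveI := formallyEtale h xt hx
  refine eq_zero_of_unramified (A := MvPolynomial J (W2 p k)) (T := Bt) (M := M)
    (fun b => DistribSMul.toAddMonoidHom M (π b ^ p)) ?_ ?_ ?_ η hη (fun f => ?_) b
  · ext m
    change (π 1) ^ p • m = m
    rw [map_one, one_pow, one_smul]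
  · intro a b m
    change (π (a * b)) ^ p • m = π a ^ p • π b ^ p • m
    rw [map_mul, mul_pow, mul_smul]
  · intro a b m
    change π (a + b) ^ p • m = π a ^ p • m + π b ^ p • m
    rw [map_add, add_pow_char, add_smul]
  · change η (coordt ι xt f) = 0
    induction f using MvPolynomial.induction_on with
    | C a => rw [coordt_C, hk]
    | add f g hf hg => rw [map_add, map_add, hf, hg, add_zero]
    | mul_X f j hf => rw [map_mul, hη, hf, coordt_X, hxj, smul_zero, smul_zero, add_zero]

/-- The formula for `f` on exact forms. -/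
theorem fadd_δ (hc : LogChart p S x δ e) (hδk : ∀ a : k, δ (algebraMap k B a) = 0) (h : IsLift p k B Bt ι π)
    {xt : J → Bt} (hxt : ∀ j, π (xt j) = x j) (hx : (coord k x).Etale) {s : Bt →+* W2 p B}
    (hs : IsSec k ι π xt s) (b : Bt) :
    fadd p S x e (δ (π b)) = π b ^ (p - 1) • δ (π b) + δ (lam s b) := by
  have hpow : ∀ b : B, δ (b ^ p) = 0 := by
    intro b
    have h1 : ∀ j, e.coord j (δ (b ^ p)) = 0 := fun j => θ_pow_p hc j b
    rw [← e.sum_repr (δ (b ^ p))]
    exact Finset.sum_eq_zero fun j _ => by
      have := h1 j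
      rw [Basis.coord_apply] at this
      rw [this, zero_smul]
  have hpm : ∀ b : B, b ^ p = b ^ (p - 1) * b := fun b => by
    rw [← pow_succ, Nat.sub_add_cancel (Fact.out : p.Prime).one_le]
  have hsum : ∀ b : B, b ^ (p - 1 + 1) = b ^ p := fun b => by
    rw [Nat.sub_add_cancel (Fact.out : p.Prime).one_le]
  let F : Bt →+ L := AddMonoidHom.mk'
    (fun b => fadd p S x e (δ (π b)) - (π b ^ (p - 1) • δ (π b) + δ (lam s b))) (fun b c => by
      rw [lam_add hs, map_add, map_add, map_add, map_add, map_add, deriv_carry p δ hc.leib]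
      abel)
  have hF : ∀ b, F b = fadd p S x e (δ (π b)) - (π b ^ (p - 1) • δ (π b) + δ (lam s b)) := fun _ => rfl
  have key : F b = 0 := by
    refine frobDert_eq_zero (M := L) h xt (by simpa only [hxt] using hx) F (fun b c => ?_) (fun w => ?_)
      (fun j => ?_) b
    · rw [hF, hF, hF, lam_mul hs, map_mul, hc.leib, map_add, fadd_smul, fadd_smul, map_add, hc.leib, hc.leib, hpow,
        hpow, smul_zero, smul_zero, add_zero, add_zero, mul_pow, frobenius_def, frobenius_def]
      have e1 : (π b ^ (p - 1) * π c ^ (p - 1)) • (π b • δ (π c) + π c • δ (π b)) =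
          π b ^ p • π c ^ (p - 1) • δ (π c) + π c ^ p • π b ^ (p - 1) • δ (π b) := by
        rw [smul_add, smul_smul, smul_smul, smul_smul, smul_smul, hpm (π b), hpm (π c)]
        congr 1
        · congr 1; ring
        · congr 1; ring
      rw [e1, smul_sub, smul_sub, smul_add, smul_add]
      abel
    · have h1 : π (ι w) = algebraMap k B (res p k w) := congr($(h.comm) w)
      rw [hF, h1, hδk, map_zero, smul_zero, lam_base hs, hδk, add_zero, sub_zero]
    · rw [hF, lam_coord hs, map_zero, add_zero, hxt, sub_eq_zero]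
      by_cases hS : S j
      · rw [hc.log j hS, fadd_smul, fadd_basis, if_pos hS, smul_smul, ← hpm, frobenius_def]
      · rw [hc.plain j hS, fadd_basis, if_neg hS]
  rw [hF] at key
  exact sub_eq_zero.1 key

/-- Existence of `h`. -/
theorem exists_h (hc : LogChart p S x δ e) (hδk : ∀ a : k, δ (algebraMap k B a) = 0) (hx : (coord k x).Etale)
    (η : B →+ B) (hη : ∀ b c, η (b * c) = b ^ p * η c + c ^ p * η b) (hk : ∀ a : k, η (algebraMap k B a) = 0)
    (hdiv : ∀ j, S j → ∃ g, η (x j) = x j ^ p * g) :
    ∃ h : L →+ B, (∀ (b : B) (ω : L), h (b • ω) = b ^ p * h ω) ∧ ∀ b, h (δ b) = η b := by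
  classical
  choose g hg using hdiv
  let G : J → B := fun j => if hS : S j then g j hS else η (x j)
  let h : L →+ B := AddMonoidHom.mk' (fun ω => ∑ j, (e.repr ω j) ^ p * G j) (fun ω ω' => by
    rw [← Finset.sum_add_distrib]
    refine Finset.sum_congr rfl fun j _ => ?_
    rw [map_add, Finsupp.add_apply, add_pow_char, add_mul])
  have hh : ∀ ω, h ω = ∑ j, (e.repr ω j) ^ p * G j := fun _ => rfl
  have hsm : ∀ (b : B) (ω : L), h (b • ω) = b ^ p * h ω := by
    intro b ω
    rw [hh, hh, Finset.mul_sum]
    refine Finset.sum_congr rfl fun j _ => ?_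
    rw [map_smul, Finsupp.smul_apply, smul_eq_mul, mul_pow, mul_assoc]
  have he : ∀ j, h (e j) = G j := by
    intro j
    rw [hh, Finset.sum_eq_single j]
    · simp
    · intro i _ hi
      rw [e.repr_self, Finsupp.single_eq_of_ne hi, zero_pow (Fact.out : p.Prime).ne_zero, zero_mul]
    · intro h
      exact absurd (Finset.mem_univ _) h
  refine ⟨h, hsm, fun b => ?_⟩
  have key := frobDer_eq_zero (p := p) (k := k) (M := B) (x := x) hx (h.comp δ - η) (fun b c => ?_) (fun a => ?_)
    (fun j => ?_) b
  · exact sub_eq_zero.1 key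
  · change h (δ (b * c)) - η (b * c) = b ^ p * (h (δ c) - η c) + c ^ p * (h (δ b) - η b)
    rw [hc.leib, map_add, hsm, hsm, hη]
    ring
  · change h (δ (algebraMap k B a)) - η (algebraMap k B a) = 0
    rw [hδk, map_zero, hk, sub_zero]
  · change h (δ (x j)) - η (x j) = 0
    by_cases hS : S j
    · rw [hc.log j hS, hsm, he]
      simp only [G, dif_pos hS]
      rw [← hg j hS, sub_self]
    · rw [hc.plain j hS, he]
      simp only [G, dif_neg hS, sub_self]

end chart

end K904.FrobMaps
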