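import Groth.Agent.DelIll.K904.GeoCover

/-!
# Coverings of an irreducible open by lifted logarithmic charts

The version of `GeoCover` for an irreducible open `T` of the reduced scheme `X` (for instance a connected component).
-/

set_option autoImplicit false
set_option linter.unusedSectionVars false
set_option linter.style.haveILetI false

universe u

open CategoryTheory CategoryTheory.Limits AlgebraicGeometry Opposite TopologicalSpace
open Groth.Agent.Sga67.Sec Groth.Agent.Sga67.LocBasis FrobAlg K673.W2Basic K673.Lift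

namespace K904.GeoCovT

open _root_.K904.GeoUp _root_.K904.GeoDt _root_.K904.GeoCh _root_.K922.DSec _root_.K904.EtLift _root_.K904.Ch
open _root_.K904.LocDat _root_.K922.LogBasis _root_.K904.LocalCartier _root_.K904.GeoCover

variable {p : ℕ} [Fact p.Prime] {k : Type u} [Field k] [CharP k p] [PerfectRing k p]
variable {X : Scheme.{u}} [X.Over (Spec (CommRingCat.of k))]
variable {Xl : Scheme.{u}} {g : Xl ⟶ Spec (CommRingCat.of (W2 p k))} {i : X ⟶ Xl}
  [Flat g] [IsClosedImmersion i] [Surjective i]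
variable {r : ℕ} {D : Fin r → X.IdealSheafData} {Dl : Fin r → Xl.IdealSheafData}
  {Ω' : X.Modules} {d : OmegaSh.Der (X ↘ Spec (CommRingCat.of k)) Ω'} {Λ : LogNCD.LogMod d D}

attribute [local instance] algO modO

attribute [local instance] tower

variable (i Dl Λ) in
/-- A finite covering of `T` by lifted charts. -/
structure Cov (T : X.Opens) where
  /-- the index set -/
  ι : Type u
  fin : Finite ι
  ne : Nonempty ι
  /-- the opens -/
  W : ι → Aff X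
  /-- the charts -/
  L : ∀ j, LC i Dl Λ (W j)
  sup : ⨆ j, (W j).U = T
  irr : IsIrreducible (T : Set X)

attribute [instance] Cov.fin Cov.ne

/-- **Existence of the covering.** -/
theorem exists_cov [Smooth (X ↘ Spec (CommRingCat.of k))] {T : X.Opens} (hTc : IsCompact (T : Set X))
    (hT : IsIrreducible (T : Set X))
    (hl : IsPullback i (X ↘ Spec (CommRingCat.of k)) g (spW p k)) (hd : _root_.K922.Coord.AffUniv d)
    (hD : LogNCD.IsNCD D (X ↘ Spec (CommRingCat.of k))) (hDl : ∀ j, (Dl j).comap i = D j)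
    (P : X.Opens → Prop) (hP : ∀ x ∈ T, ∃ O : X.Opens, x ∈ O ∧ ∀ U ≤ O, P U) :
    ∃ C : Cov i Dl Λ T, ∀ j, P (C.W j).U := by
  choose O hxO hO using fun x : T => hP x.1 x.2
  have h1 : ∀ x : T, ∃ (W : Aff X) (_ : LC i Dl Λ W), x.1 ∈ W.U ∧ W.U ≤ O x ⊓ T := fun x =>
    exists_lc hl hDl hd hD ⟨hxO x, x.2⟩
  choose W L hxW hWO using h1
  obtain ⟨t, ht⟩ := hTc.elim_finite_subcover (fun x : T => ((W x).U : Set X))
    (fun x => (W x).U.2) (fun x hx => Set.mem_iUnion.2 ⟨⟨x, hx⟩, hxW ⟨x, hx⟩⟩)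
  have hne : Nonempty t := by
    obtain ⟨x, hx⟩ := hT.nonempty
    obtain ⟨y, hy⟩ := Set.mem_iUnion.1 (ht hx)
    obtain ⟨hy', -⟩ := Set.mem_iUnion.1 hy
    exact ⟨⟨y, hy'⟩⟩
  refine ⟨⟨t, inferInstance, hne, fun x => W x.1, fun x => L x.1, ?_, hT⟩,
    fun x => hO x.1 _ ((hWO x.1).trans inf_le_left)⟩
  apply le_antisymm
  · exact iSup_le fun x => (hWO x.1).trans inf_le_right
  · intro x hx
    obtain ⟨y, hy⟩ := Set.mem_iUnion.1 (ht hx)
    obtain ⟨hy', hxy⟩ := Set.mem_iUnion.1 hy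
    exact Opens.mem_iSup.2 ⟨⟨y, hy'⟩, hxy⟩

variable {T : X.Opens} (C : Cov i Dl Λ T) [IsReduced X] [X.IsSeparated] [CharX X p]

omit [CharX X p] [X.IsSeparated] [IsReduced X] in
theorem Cov.le (j : C.ι) : (C.W j).U ≤ T := by
  have h := le_iSup (fun j => (C.W j).U) j
  rwa [C.sup] at h

omit [CharX X p] [X.IsSeparated] [IsReduced X] in
theorem mem_of_nonempty (hT : IsIrreducible (T : Set X)) {V : X.Opens} (hV : V ≤ T) (hne : (V : Set X).Nonempty) :
    hT.genericPoint ∈ V := by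
  refine (hT.isGenericPoint_genericPoint_closure.mem_open_set_iff V.2).2 ?_
  obtain ⟨x, hx⟩ := hne
  exact ⟨x, subset_closure (hV hx), hx⟩

/-- The intersections of the charts. -/
def Cov.Us (s : Set C.ι) (hs : s.Nonempty) : Aff X where
  U := ⨅ j ∈ s, (C.W j).U
  aff := IsAffineOpen.biInf s (Set.toFinite s) hs fun j _ => (C.W j).aff
  ne := by
    haveI : Nonempty s := hs.to_subtype
    have h1 : (⨅ j ∈ s, (C.W j).U) = ⨅ j : s, (C.W j.1).U := iInf_subtype'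
    rw [h1]
    have h2 : C.irr.genericPoint ∈ ⨅ j : s, (C.W j.1).U := by
      rw [← SetLike.mem_coe, Opens.coe_iInf]
      exact Set.mem_iInter.2 fun j => mem_of_nonempty C.irr (C.le j.1) ⟨_, (C.W j.1).ne.some.2⟩
    exact ⟨⟨_, h2⟩⟩

theorem Cov.Us_le {s : Set C.ι} (hs : s.Nonempty) {j : C.ι} (hj : j ∈ s) : (C.Us s hs).U ≤ (C.W j).U :=
  iInf₂_le j hj

/-- The intersection of all the charts. -/
def Cov.V1 : Aff X := C.Us Set.univ Set.univ_nonempty

theorem Cov.V1_le (j : C.ι) : C.V1.U ≤ (C.W j).U := C.Us_le Set.univ_nonempty (Set.mem_univ j)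

/-- The equation of the divisor. -/
noncomputable def Cov.eqn : Γ(X, C.V1.U) :=
  ∏ l, resO X (C.V1_le C.ne.some) ((C.L C.ne.some).c.g l)

theorem Cov.eqn_ne_zero : C.eqn ≠ 0 := by
  have h1 : _root_.K922.Coord.IsReg C.V1.U C.eqn :=
    _root_.K922.Coord.IsReg.prod _ fun l _ => ((C.L C.ne.some).c.isReg_g l).restrict _
  exact nonZeroDivisors.ne_zero h1.mem_nonZeroDivisors

/-- The ambient open: in all the charts, off the divisor. -/
noncomputable def Cov.V0 : Aff X where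
  U := X.basicOpen C.eqn
  aff := C.V1.aff.basicOpen C.eqn
  ne := by
    have h1 : X.basicOpen C.eqn ≠ ⊥ := fun h => C.eqn_ne_zero ((basicOpen_eq_bot_iff _).1 h)
    obtain ⟨x, hx⟩ := (Opens.ne_bot_iff_nonempty _).1 h1
    exact ⟨⟨x, hx⟩⟩

theorem Cov.V0_le_V1 : C.V0.U ≤ C.V1.U := X.basicOpen_le _

theorem Cov.V0_le (j : C.ι) : C.V0.U ≤ (C.W j).U := C.V0_le_V1.trans (C.V1_le j)

theorem Cov.V0_le_Us (s : Set C.ι) (hs : s.Nonempty) : C.V0.U ≤ (C.Us s hs).U :=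
  le_iInf₂ fun j _ => C.V0_le j

/-- The equations are units on `V0`. -/
theorem Cov.isUnit_g (j : C.ι) (l : Fin r) : IsUnit (resO X (C.V0_le j) ((C.L j).c.g l)) := by
  have h1 : ∀ l, IsUnit (resO X (C.V0_le C.ne.some) ((C.L C.ne.some).c.g l)) := by
    intro l
    have h2 : IsUnit (resO X C.V0_le_V1 C.eqn) := X.toRingedSpace.isUnit_res_basicOpen C.eqn
    refine isUnit_of_dvd_unit ?_ h2
    have h3 : resO X (C.V0_le C.ne.some) ((C.L C.ne.some).c.g l) =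
        resO X C.V0_le_V1 (resO X (C.V1_le C.ne.some) ((C.L C.ne.some).c.g l)) :=
      (resO_resO _ _ _).symm
    rw [h3]
    exact map_dvd _ (Finset.dvd_prod_of_mem _ (Finset.mem_univ l))
  have h4 := (C.L j).c.ideal l C.V0.aO (C.V0_le j)
  have h5 := (C.L C.ne.some).c.ideal l C.V0.aO (C.V0_le C.ne.some)
  have h6 := h5.trans (Ideal.span_singleton_eq_top.2 (h1 l))
  exact Ideal.span_singleton_eq_top.1 (h4.symm.trans h6)

omit [CharX X p] [X.IsSeparated] in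
/-- Restriction of functions inside `T` is injective. -/
theorem resO_injective (hT : IsIrreducible (T : Set X)) (V : Aff X) {U : X.Opens} (hU : U ≤ T) (h : V.U ≤ U) :
    Function.Injective (resO X h) := by
  rw [injective_iff_map_eq_zero]
  intro s hs
  rw [← basicOpen_eq_bot_iff]
  by_contra hne
  obtain ⟨x, hx⟩ := (Opens.ne_bot_iff_nonempty _).1 hne
  have h1 := mem_of_nonempty hT ((X.basicOpen_le s).trans hU) ⟨x, hx⟩
  have h2 := mem_of_nonempty hT (h.trans hU) ⟨_, V.ne.some.2⟩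
  have h3 : X.basicOpen (resO X h s) = V.U ⊓ X.basicOpen s := X.basicOpen_res s (homOfLE h).op
  rw [hs, X.basicOpen_zero] at h3
  have h4 : hT.genericPoint ∈ (⊥ : X.Opens) := h3 ▸ (⟨h2, h1⟩ : _ ∈ V.U ⊓ X.basicOpen s)
  exact h4

/-- Restriction of functions to `V0` is injective. -/
theorem Cov.resO_injective (s : Set C.ι) (hs : s.Nonempty) : Function.Injective (resO X (C.V0_le_Us s hs)) :=
  GeoCovT.resO_injective C.irr C.V0 (by
    obtain ⟨j, hj⟩ := hs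
    exact (C.Us_le ⟨j, hj⟩ hj).trans (C.le j)) _

variable (hl : IsPullback i (X ↘ Spec (CommRingCat.of k)) g (spW p k))

/-- The restriction morphism. -/
noncomputable def Cov.m (s : Set C.ι) (hs : s.Nonempty) :
    Mor (dt hl (LogNCD.der Λ) (C.Us s hs)) (dt hl (LogNCD.der Λ) C.V0) :=
  mor hl (LogNCD.der Λ) (C.V0_le_Us s hs)

/-- The ambient charts. -/
noncomputable def Cov.c0 (j : C.ι) : Chart (dt hl (LogNCD.der Λ) C.V0) := (C.L j).at hl (C.V0_le j)

variable (hDl : ∀ j, (Dl j).comap i = D j) (hDlf : ∀ j, Flat ((Dl j).subschemeι ≫ g))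

include hDl hDlf in
theorem Cov.div0 (a b : C.ι) : Div (C.c0 hl a) (C.c0 hl b) :=
  LC.at_div hl hDl hDlf (C.L a) (C.L b) (C.V0_le a) (C.V0_le b)

/-- **The data of the abstract argument.** -/
noncomputable def Cov.dat : K912.Alt.Dat p C.ι Γ(X, C.V0.U) (Sec Λ.L C.V0.U) :=
  LocDat.dat C.ne.some (C.c0 hl) (C.div0 hl hDl hDlf)

/-- The lattice of functions. -/
noncomputable def Cov.A (s : Set C.ι) (hs : s.Nonempty) : Subalgebra k Γ(X, C.V0.U) := LocDat.A (C.m hl s hs)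

/-- The lattice of logarithmic forms. -/
noncomputable def Cov.N (s : Set C.ι) (hs : s.Nonempty) : Submodule k (Sec Λ.L C.V0.U) := LocDat.N (C.m hl s hs)

theorem Cov.mem_A (s : Set C.ι) (hs : s.Nonempty) (y : Γ(X, C.V0.U)) :
    y ∈ C.A hl s hs ↔ ∃ b, resO X (C.V0_le_Us s hs) b = y := Iff.rfl

theorem Cov.mem_N (s : Set C.ι) (hs : s.Nonempty) (y : Sec Λ.L C.V0.U) :
    y ∈ C.N hl s hs ↔ ∃ b, res Λ.L (C.V0_le_Us s hs) b = y := Iff.rfl

theorem Cov.isRes (s : Set C.ι) (hs : s.Nonempty) {j : C.ι} (hj : j ∈ s) :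
    IsRes (C.m hl s hs) ((C.L j).at hl (C.Us_le hs hj)) (C.c0 hl j) :=
  LC.at_isRes hl (C.L j) (C.Us_le hs hj) (C.V0_le_Us s hs)

theorem Cov.f_mem (s : Set C.ι) (hs : s.Nonempty) {j : C.ι} (hj : j ∈ s) (w : Sec Λ.L C.V0.U)
    (hw : w ∈ C.N hl s hs) : (C.dat hl hDl hDlf).f j w ∈ C.N hl s hs :=
  LocDat.f_mem (C.m hl s hs) (C.isRes hl s hs hj) w hw

theorem Cov.h_mem (s : Set C.ι) (hs : s.Nonempty) {a b : C.ι} (ha : a ∈ s) (hb : b ∈ s) (w : Sec Λ.L C.V0.U)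
    (hw : w ∈ C.N hl s hs) : (C.dat hl hDl hDlf).h a b w ∈ C.A hl s hs :=
  LocDat.h_mem (C.m hl s hs) (C.isRes hl s hs ha) (C.isRes hl s hs hb)
    (LC.at_div hl hDl hDlf (C.L a) (C.L b) (C.Us_le hs ha) (C.Us_le hs hb)) (C.div0 hl hDl hDlf a b) w hw

/-- The Frobenius twisted ring homomorphisms `∧ f_j`. -/
noncomputable def Cov.F (j : C.ι) :
    ExteriorAlgebra Γ(X, C.V0.U) (Sec Λ.L C.V0.U) →+* ExteriorAlgebra Γ(X, C.V0.U) (Sec Λ.L C.V0.U) :=
  Semi.extR (frobenius Γ(X, C.V0.U) p) ((C.dat hl hDl hDlf).f j)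
    (fun b w => (C.dat hl hDl hDlf).f_smul j b w)

theorem Cov.F_algebraMap (j : C.ι) (b : Γ(X, C.V0.U)) :
    C.F hl hDl hDlf j (algebraMap _ _ b) = algebraMap _ _ (b ^ p) := Semi.extR_algebraMap _ _ _ _

theorem Cov.F_ι (j : C.ι) (w : Sec Λ.L C.V0.U) :
    C.F hl hDl hDlf j (ExteriorAlgebra.ι _ w) = ExteriorAlgebra.ι _ ((C.dat hl hDl hDlf).f j w) :=
  Semi.extR_ι _ _ _ _



section pole

omit [IsReduced X] [X.IsSeparated] [CharX X p]


open scoped Classical in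
/-- The pole order along each coordinate. -/
noncomputable def pole {W : Aff X} (L : LC i Dl Λ W) (b : Fin r → ℕ) (κ : Fin L.n) : ℕ :=
  ∑ l, if L.c.e l = some κ then b l else 0

theorem prod_pole {W : Aff X} (L : LC i Dl Λ W) (b : Fin r → ℕ) :
    ∏ κ, L.c.v κ ^ pole L b κ = ∏ l, L.c.g l ^ b l := by
  classical
  have h1 : ∀ κ, L.c.v κ ^ pole L b κ = ∏ l, if L.c.e l = some κ then L.c.v κ ^ b l else 1 := by
    intro κ
    rw [pole, ← Finset.prod_pow_eq_pow_sum]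
    refine Finset.prod_congr rfl fun l _ => ?_
    split_ifs
    · rfl
    · exact pow_zero _
  rw [Finset.prod_congr rfl fun κ _ => h1 κ, Finset.prod_comm]
  refine Finset.prod_congr rfl fun l _ => ?_
  rcases he : L.c.e l with _ | κ₀
  · rw [L.c.g_none l he, one_pow]
    exact Finset.prod_eq_one fun κ _ => if_neg (by simp)
  · rw [L.c.g_some l κ₀ he, Finset.prod_eq_single κ₀]
    · exact if_pos rfl
    · intro κ _ hκ
      exact if_neg (fun h => hκ (Option.some.inj h).symm)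
    · exact fun h => absurd (Finset.mem_univ _) h

theorem pole_eq_zero {W : Aff X} (L : LC i Dl Λ W) (b : Fin r → ℕ) (κ : Fin L.n)
    (h : ¬ ∃ l, L.c.e l = some κ) : pole L b κ = 0 := by
  classical
  exact Finset.sum_eq_zero fun l _ => if_neg fun hl => h ⟨l, hl⟩

theorem pole_eq {W : Aff X} (L : LC i Dl Λ W) (b : Fin r → ℕ) (κ : Fin L.n) (l : Fin r) (h : L.c.e l = some κ) :
    pole L b κ = b l := by
  classical
  rw [pole, Finset.sum_eq_single l]
  · exact if_pos h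
  · intro l' _ hl'
    exact if_neg fun h' => hl' (L.c.inj l' l κ h' h)
  · exact fun h => absurd (Finset.mem_univ _) h

theorem pole_lt {W : Aff X} (L : LC i Dl Λ W) (b : Fin r → ℕ) (hb : ∀ l, b l < p) (κ : Fin L.n) : pole L b κ < p := by
  by_cases h : ∃ l, L.c.e l = some κ
  · obtain ⟨l, hl⟩ := h
    rw [pole_eq L b κ l hl]
    exact hb l
  · rw [pole_eq_zero L b κ h]
    exact (Fact.out : p.Prime).pos

end pole

section lattice

open _root_.K912.Alt

/-- The equation of `∑ b_l D_l` on the chart `j`, restricted to `Us s`. -/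
noncomputable def Cov.eqs (b : Fin r → ℕ) {s : Set C.ι} (hs : s.Nonempty) {j : C.ι} (hj : j ∈ s) :
    Γ(X, (C.Us s hs).U) := resO X (C.Us_le hs hj) (∏ l, (C.L j).c.g l ^ b l)

theorem Cov.mon_eq (b : Fin r → ℕ) {s : Set C.ι} (hs : s.Nonempty) {j : C.ι} (hj : j ∈ s) :
    mon ((C.L j).at hl (C.Us_le hs hj)).x (pole (C.L j) b) = C.eqs b hs hj := by
  rw [Cov.eqs, ← prod_pole, map_prod]
  change (∏ κ : Fin (C.L j).n, ((C.L j).at hl (C.Us_le hs hj)).x κ ^ pole (C.L j) b κ) = _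
  refine Finset.prod_congr rfl fun κ _ => ?_
  rw [map_pow]
  congr 1
  exact LC.at_x hl (C.L j) (C.Us_le hs hj) κ

theorem Cov.isUnit_eqs (b : Fin r → ℕ) {s : Set C.ι} (hs : s.Nonempty) {j : C.ι} (hj : j ∈ s) :
    IsUnit (resO X (C.V0_le_Us s hs) (C.eqs b hs hj)) := by
  rw [Cov.eqs, resO_resO, map_prod]
  rw [IsUnit.prod_iff]
  intro l _
  rw [map_pow]
  exact (C.isUnit_g j l).pow _

/-- The equations of two charts differ by a unit. -/
theorem Cov.eqs_dvd (b : Fin r → ℕ) {s : Set C.ι} (hs : s.Nonempty) {j j' : C.ι} (hj : j ∈ s) (hj' : j' ∈ s) :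
    C.eqs b hs hj ∣ C.eqs b hs hj' := by
  rw [Cov.eqs, Cov.eqs, map_prod, map_prod]
  refine Finset.prod_dvd_prod_of_dvd _ _ fun l _ => ?_
  rw [map_pow, map_pow]
  refine pow_dvd_pow_of_dvd ?_ _
  have h1 := (C.L j).c.ideal l (C.Us s hs).aO (C.Us_le hs hj)
  have h2 := (C.L j').c.ideal l (C.Us s hs).aO (C.Us_le hs hj')
  have h3 := h2.symm.trans h1
  exact Ideal.mem_span_singleton.1 (h3 ▸ Ideal.mem_span_singleton_self _)

/-- `P` is the lattice of functions on `Us s` with poles along `∑ b_l D_l`. -/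
def Cov.IsP (b : Fin r → ℕ) {s : Set C.ι} (hs : s.Nonempty) (P : Submodule k Γ(X, C.V0.U)) : Prop :=
  ∃ (j : C.ι) (hj : j ∈ s), ∀ y, y ∈ P ↔ resO X (C.V0_le_Us s hs) (C.eqs b hs hj) * y ∈ C.A hl s hs

variable {C}
variable {s : Set C.ι} {hs : s.Nonempty} {P : Submodule k Γ(X, C.V0.U)} {hl}

theorem Cov.IsP.all {b : Fin r → ℕ} (h : C.IsP hl b hs P) {j : C.ι} (hj : j ∈ s) (y : Γ(X, C.V0.U)) :
    y ∈ P ↔ resO X (C.V0_le_Us s hs) (C.eqs b hs hj) * y ∈ C.A hl s hs := by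
  obtain ⟨j', hj', h'⟩ := h
  rw [h']
  have key : ∀ {j j' : C.ι} (hj : j ∈ s) (hj' : j' ∈ s), resO X (C.V0_le_Us s hs) (C.eqs b hs hj) * y ∈ C.A hl s hs →
      resO X (C.V0_le_Us s hs) (C.eqs b hs hj') * y ∈ C.A hl s hs := by
    intro j j' hj hj' h
    obtain ⟨c, hc⟩ := C.eqs_dvd b hs hj hj'
    rw [hc, map_mul, mul_right_comm]
    exact Subalgebra.mul_mem _ h ⟨c, rfl⟩
  exact ⟨key _ _, key _ _⟩

theorem Cov.IsP.mon {b : Fin r → ℕ} (h : C.IsP hl b hs P) {j : C.ι} (hj : j ∈ s) (y : Γ(X, C.V0.U)) :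
    y ∈ P ↔ (C.m hl s hs).ρ (mon ((C.L j).at hl (C.Us_le hs hj)).x (pole (C.L j) b)) * y ∈ C.A hl s hs := by
  rw [Cov.mon_eq]
  exact h.all hj y

theorem Cov.isUnit_mon (b : Fin r → ℕ) {j : C.ι} (hj : j ∈ s) :
    IsUnit ((C.m hl s hs).ρ (LocalCartier.mon ((C.L j).at hl (C.Us_le hs hj)).x (pole (C.L j) b))) := by
  rw [Cov.mon_eq]
  exact C.isUnit_eqs b hs hj

variable {hDl hDlf}

theorem Cov.IsP.d_mem {b : Fin r → ℕ} (h : C.IsP hl b hs P) (a : ℤ)
    (x : ExteriorAlgebra Γ(X, C.V0.U) (Sec Λ.L C.V0.U)) (hx : x ∈ latZ P (C.N hl s hs) a) :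
    (C.dat hl hDl hDlf).d x ∈ latZ P (C.N hl s hs) (a + 1) := by
  obtain ⟨j, hj⟩ := hs
  exact LocDat.d_mem (C.isRes hl s ⟨j, hj⟩ hj) (pole (C.L j) b) P (h.mon hj) (C.isUnit_mon b hj)
    (pole_eq_zero (C.L j) b) (C.c0 hl C.ne.some) a x hx

variable {b : Fin r → ℕ} (hb : ∀ l, b l < p)

include hb in
theorem Cov.IsP.surj (h : C.IsP hl b hs P) {j : C.ι} (hj : j ∈ s) (a : ℕ)
    (x : ExteriorAlgebra Γ(X, C.V0.U) (Sec Λ.L C.V0.U)) (hx : x ∈ lat P (C.N hl s hs) a)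
    (hdx : (C.dat hl hDl hDlf).d x = 0) :
    ∃ g ∈ lat (Subalgebra.toSubmodule (C.A hl s hs)) (C.N hl s hs) a, ∃ y ∈ latZ P (C.N hl s hs) ((a : ℤ) - 1),
      x = C.F hl hDl hDlf j g + (C.dat hl hDl hDlf).d y :=
  LocDat.surj (C.isRes hl s hs hj) (pole (C.L j) b) P (h.mon hj) (C.isUnit_mon b hj)
    (pole_eq_zero (C.L j) b) (pole_lt (C.L j) b hb) (C.resO_injective s hs) (C.c0 hl C.ne.some)
    (C.F hl hDl hDlf j) (C.F_algebraMap hl hDl hDlf j) (C.F_ι hl hDl hDlf j) a x hx hdx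

include hb in
theorem Cov.IsP.inj (h : C.IsP hl b hs P) {j : C.ι} (hj : j ∈ s) (a : ℕ)
    (g' : ExteriorAlgebra Γ(X, C.V0.U) (Sec Λ.L C.V0.U))
    (hg : g' ∈ lat (Subalgebra.toSubmodule (C.A hl s hs)) (C.N hl s hs) a)
    (y : ExteriorAlgebra Γ(X, C.V0.U) (Sec Λ.L C.V0.U)) (hy : y ∈ latZ P (C.N hl s hs) ((a : ℤ) - 1))
    (hgy : C.F hl hDl hDlf j g' = (C.dat hl hDl hDlf).d y) : g' = 0 :=
  LocDat.inj (C.isRes hl s hs hj) (pole (C.L j) b) P (h.mon hj) (C.isUnit_mon b hj)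
    (pole_eq_zero (C.L j) b) (pole_lt (C.L j) b hb) (C.resO_injective s hs) (C.c0 hl C.ne.some)
    (C.F hl hDl hDlf j) (C.F_algebraMap hl hDl hDlf j) (C.F_ι hl hDl hDlf j) a g' hg y hy hgy

end lattice

end K904.GeoCovT
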