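import Groth.Agent.DelIll.K904.GeoUp
import Groth.Agent.LogNCD.K922.Interface
import Groth.Agent.Divis.IdealComap
import Groth.Agent.Fga.MumCech

/-!
# The ring level data over the nonempty affine opens of `X`

`Aff X` : nonempty affine opens; `dt hl d W : Ch.Dt p k Γ(X, W) Γ(X~, up W) Γ(N, W)`; `mor` restriction.
-/

set_option autoImplicit false
set_option linter.unusedSectionVars false
set_option linter.style.haveILetI false

universe u

open CategoryTheory CategoryTheory.Limits AlgebraicGeometry Opposite TopologicalSpace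
open Groth.Agent.Sga67.Sec FrobAlg K673.W2Basic K673.Lift

namespace K904.GeoDt

open _root_.K904.GeoUp _root_.K922.DSec

/-- Nonempty affine opens. -/
structure Aff (X : Scheme.{u}) where
  /-- the open -/
  U : X.Opens
  aff : IsAffineOpen U
  ne : Nonempty U

instance {X : Scheme.{u}} (W : Aff X) : Nonempty W.U := W.ne

/-- The affine open. -/
def Aff.aO {X : Scheme.{u}} (W : Aff X) : X.affineOpens := ⟨W.U, W.aff⟩

variable {p : ℕ} [Fact p.Prime] {k : Type u} [Field k] [CharP k p] [PerfectRing k p]
variable {X : Scheme.{u}} [X.Over (Spec (CommRingCat.of k))]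

variable (k) in
/-- `Γ(X, U)` as a `k`-algebra. -/
noncomputable abbrev algO (U : X.Opens) : Algebra k Γ(X, U) := alg (X ↘ Spec (CommRingCat.of k)) U

attribute [local instance] algO

theorem algebraMap_eq (U : X.Opens) (a : k) :
    algebraMap k Γ(X, U) a = str (X ↘ Spec (CommRingCat.of k)) U a := rfl

theorem algebraMap_eq_glV (U : X.Opens) (a : k) :
    algebraMap k Γ(X, U) a = Groth.Agent.Fga.MumCech.glV k U a := by
  rfl

theorem algebraMap_resO {U V : X.Opens} (h : V ≤ U) (a : k) :
    resO X h (algebraMap k Γ(X, U) a) = algebraMap k Γ(X, V) a := str_resO _ h a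

variable (p k) in
include k in
theorem charP_sec (U : X.Opens) [Nonempty U] : CharP Γ(X, U) p := by
  haveI : Nontrivial Γ(X, U) := inferInstance
  exact charP_of_injective_algebraMap (R := k) (algebraMap k Γ(X, U)).injective p

variable {Xl : Scheme.{u}} {g : Xl ⟶ Spec (CommRingCat.of (W2 p k))} {i : X ⟶ Xl}
  [Flat g] [IsClosedImmersion i] [Surjective i]
  (hl : IsPullback i (X ↘ Spec (CommRingCat.of k)) g (spW p k))
  {N : X.Modules} (d : OmegaSh.Der (X ↘ Spec (CommRingCat.of k)) N)

/-- The ring level data over an affine open. -/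
noncomputable def dt (W : Aff X) : Ch.Dt p k Γ(X, W.U) Γ(Xl, up i W.U) (Sec N W.U) where
  ι := str g (up i W.U)
  π := red i W.U
  lift := isLift hl W.aff
  δ := dS d W.U
  leib := dS_mul d W.U
  δk _ := dS_appLE d (le_pre _ W.U) _

variable {W W' W'' : Aff X}

theorem dt_δ (b : Γ(X, W.U)) : (dt hl d W).δ b = dS d W.U b := rfl

theorem dt_π (b : Γ(Xl, up i W.U)) : (dt hl d W).π b = red i W.U b := rfl

section mor

variable [CharP Γ(X, W.U) p] [CharP Γ(X, W'.U) p]

/-- Restriction. -/
noncomputable def mor (h : W'.U ≤ W.U) : Ch.Mor (dt hl d W) (dt hl d W') where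
  ρ := resO X h
  ρt := resO Xl (up_mono i h)
  g := res N h
  ρk a := algebraMap_resO h a
  comm b := (red_resO i h b).symm
  ρι w := str_resO g (up_mono i h) w
  g_smul b ω := res_smul N h b ω
  g_δ b := dS_res d h b

theorem mor_ρ (h : W'.U ≤ W.U) : (mor hl d h).ρ = resO X h := rfl

theorem mor_ρt (h : W'.U ≤ W.U) : (mor hl d h).ρt = resO Xl (up_mono i h) := rfl

theorem mor_g (h : W'.U ≤ W.U) : (mor hl d h).g = res N h := rfl

end mor

end K904.GeoDt
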