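import Groth.Agent.DelIll.K904.GeoCovT
import Groth.Agent.DelIll.K904.DegCount

/-!
# The geometric data of a component
-/

set_option autoImplicit false
set_option linter.unusedSectionVars false
set_option linter.style.haveILetI false

universe u

open CategoryTheory CategoryTheory.Limits AlgebraicGeometry Opposite TopologicalSpace
open Groth.Agent.Sga67.Sec Groth.Agent.Sga67.LocBasis FrobAlg K673.W2Basic K673.Lift

namespace K904.GeoCovT

open _root_.K904.GeoUp _root_.K904.GeoDt _root_.K904.GeoCh _root_.K922.DSec _root_.K904.EtLift _root_.K904.Ch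
open _root_.K904.LocDat _root_.K922.LogBasis _root_.K904.LocalCartier _root_.K904.GeoCover

variable {p : ℕ} [Fact p.Prime] {k : Type u} [Field k] [CharP k p] [PerfectRing k p]
variable {X : Scheme.{u}} [X.Over (Spec (CommRingCat.of k))]
variable {Xl : Scheme.{u}} {g : Xl ⟶ Spec (CommRingCat.of (W2 p k))} {i : X ⟶ Xl}
  [Flat g] [IsClosedImmersion i] [Surjective i]
variable {r : ℕ} {D : Fin r → X.IdealSheafData} {Dl : Fin r → Xl.IdealSheafData}
  {Ω' : X.Modules} {d : OmegaSh.Der (X ↘ Spec (CommRingCat.of k)) Ω'} {Λ : LogNCD.LogMod d D}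

attribute [local instance] K912.Frame.algV K912.Frame.modS Groth.Agent.Fga.MumCech.modP

variable {T : X.Opens} (C : Cov i Dl Λ T) [IsReduced X] [X.IsSeparated] [CharX X p]

omit [CharX X p] in
theorem Cov.n_eq (j j' : C.ι) : (C.L j).n = (C.L j').n := by
  haveI : Nonempty C.V0.U := C.V0.ne
  haveI : Nontrivial Γ(X, C.V0.U) := inferInstance
  have h1 := (C.L j).B.isLocBasis.basis (C.V0_le j)
  have h2 := (C.L j').B.isLocBasis.basis (C.V0_le j')
  exact Fin.equiv_iff_eq.1 ⟨h1.indexEquiv h2⟩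

variable (hl : IsPullback i (X ↘ Spec (CommRingCat.of k)) g (spW p k))
  (hDl : ∀ j, (Dl j).comap i = D j) (hDlf : ∀ j, Flat ((Dl j).subschemeι ≫ g))

/-- The geometric data. -/
noncomputable def Cov.geo : K912.Asm.Geo p k X Λ.L (C.L C.ne.some).n where
  ι := C.ι
  U j := (C.W j).aO
  nonempty_ι := C.ne
  aff s hs := (C.Us s hs).aff
  V₀ := C.V0.aO
  le j := C.V0_le j
  inj s hs := C.resO_injective s hs
  charP := CharX.out C.V0
  b j := fun l => (C.L j).B.b (Fin.cast (C.n_eq _ _) l)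
  hb j := ((C.L j).B.isLocBasis).reindex (finCongr (C.n_eq _ _))
  D := C.dat hl hDl hDlf
  F := C.F hl hDl hDlf
  hF := C.F_algebraMap hl hDl hDlf
  hFι := C.F_ι hl hDl hDlf
  f_mem s j hj w hw := C.f_mem hl hDl hDlf s ⟨j, hj⟩ hj w hw
  h_mem s a ha _ hb w hw := C.h_mem hl hDl hDlf s ⟨a, ha⟩ ha hb w hw

theorem Cov.Ns_eq (s : Set C.ι) (hs : s.Nonempty) :
    (C.geo hl hDl hDlf).Ns s = C.N hl s hs := Submodule.ext fun _ => Iff.rfl

theorem Cov.As_eq (s : Set C.ι) (hs : s.Nonempty) :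
    (C.geo hl hDl hDlf).As s = C.A hl s hs := Subalgebra.ext fun _ => Iff.rfl

theorem Cov.isP (s : Set C.ι) (hs : s.Nonempty) :
    C.IsP hl (fun _ => 0) hs (Subalgebra.toSubmodule (C.A hl s hs)) := by
  obtain ⟨j, hj⟩ := hs
  refine ⟨j, hj, fun y => ?_⟩
  have h1 : C.eqs (fun _ => 0) ⟨j, hj⟩ hj = 1 := by
    rw [Cov.eqs]
    have h2 : (∏ l, (C.L j).c.g l ^ (0 : ℕ)) = 1 := Finset.prod_eq_one fun l _ => pow_zero _
    rw [h2, map_one]
  rw [h1, map_one, one_mul]
  rfl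

/-- The local Cartier isomorphism. -/
theorem Cov.cartier : K912.Asm.Cartier (LatHyp.triv (C.geo hl hDl hDlf)) where
  d_mem s j hj a y hy := by
    have hs : s.Nonempty := ⟨j, hj⟩
    rw [LatHyp.triv_Ps, C.Ns_eq hl hDl hDlf s hs, C.As_eq hl hDl hDlf s hs] at hy ⊢
    exact Cov.IsP.d_mem (hDl := hDl) (hDlf := hDlf) (C.isP hl s hs) a y hy
  surj s j hj a _ y hy hdy := by
    have hs : s.Nonempty := ⟨j, hj⟩
    rw [LatHyp.triv_Ps, C.Ns_eq hl hDl hDlf s hs, C.As_eq hl hDl hDlf s hs] at hy ⊢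
    exact Cov.IsP.surj (hDl := hDl) (hDlf := hDlf) (fun _ => (Fact.out : p.Prime).pos) (C.isP hl s hs) hj a y hy hdy
  inj s j hj a _ g' hg z hz h := by
    have hs : s.Nonempty := ⟨j, hj⟩
    rw [C.Ns_eq hl hDl hDlf s hs, C.As_eq hl hDl hDlf s hs] at hg
    rw [LatHyp.triv_Ps, C.Ns_eq hl hDl hDlf s hs, C.As_eq hl hDl hDlf s hs] at hz
    exact Cov.IsP.inj (hDl := hDl) (hDlf := hDlf) (fun _ => (Fact.out : p.Prime).pos) (C.isP hl s hs) hj a g' hg z hz h

/-- The link with the de Rham differential. -/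
theorem Cov.link : DLink.Link (C.geo hl hDl hDlf).D (dS (LogNCD.der Λ) (C.geo hl hDl hDlf).V₀.1) :=
  DLink.link_dat C.ne.some (C.c0 hl) (C.div0 hl hDl hDlf)

/-- The ambient open lies off the divisor. -/
theorem Cov.V0_le_DC : C.V0.U ≤ LogCxS.DC D := by
  refine le_trans ?_ (LogCxS.basicOpen_prod_le (U := (C.W C.ne.some).aO) (C.L C.ne.some).c)
  have h1 : C.eqn = resO X (C.V1_le C.ne.some) (∏ l, (C.L C.ne.some).c.g l) := by
    rw [map_prod]
    rfl
  change X.basicOpen C.eqn ≤ _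
  rw [h1]
  have h3 : X.basicOpen (resO X (C.V1_le C.ne.some) (∏ l, (C.L C.ne.some).c.g l)) =
    C.V1.U ⊓ X.basicOpen (∏ l, (C.L C.ne.some).c.g l) := X.basicOpen_res _ (homOfLE (C.V1_le C.ne.some)).op
  rw [h3]
  exact inf_le_right

end K904.GeoCovT
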