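import Groth.Agent.DelIll.K904.TopCount
import Groth.Agent.DelIll.K904.FmExists
import Groth.Agent.DelIll.K904.MainLt

/-!
# The additional properties for the geometric data given by lifted charts; degeneration for `dim X ≤ p`
-/

set_option autoImplicit false
set_option linter.unusedSectionVars false
set_option linter.style.haveILetI false

universe w u

open CategoryTheory CategoryTheory.Limits AlgebraicGeometry Opposite TopologicalSpace

namespace K904.TopChart

section dat

open K912.Alt

variable {p : ℕ} [Fact p.Prime] {ι R L : Type*} [CommRing R] [CharP R p] [AddCommGroup L] [Module R L]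
  (X : Dat p ι R L) (F : ι → ExteriorAlgebra R L →+* ExteriorAlgebra R L)

/-- Two Frobenius lifts differ by exact forms. -/
theorem exists_F_sub (hF : ∀ i (b : R), F i (algebraMap R _ b) = algebraMap R _ (b ^ p))
    (hFι : ∀ i w, F i (ExteriorAlgebra.ι R w) = ExteriorAlgebra.ι R (X.f i w)) (i i' : ι) (y : ExteriorAlgebra R L) :
    X.d (F i y) = 0 ∧ ∃ z, F i' y - F i y = X.d z := by
  have hsm : ∀ i (b : R) (y : ExteriorAlgebra R L), F i (b • y) = b ^ p • F i y := fun i b y => by
    rw [Algebra.smul_def, map_mul, hF, ← Algebra.smul_def]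
  have hg : y ∈ Submodule.span R
      (Set.range fun x : Σ n, (Fin n → L) => ExteriorAlgebra.ιMulti R x.1 x.2) := by
    rw [ExteriorAlgebra.ιMulti_span]
    trivial
  have key : ∀ y, y ∈ Submodule.span R (Set.range fun x : Σ n, (Fin n → L) => ExteriorAlgebra.ιMulti R x.1 x.2) →
      X.d (F i y) = 0 ∧ X.d (F i' y) = 0 ∧ ∃ z, F i' y - F i y = X.d z := by
    intro y hg
    induction hg using Submodule.span_induction with
    | mem x hx =>
      obtain ⟨⟨a, v⟩, rfl⟩ := hx
      dsimp only
      induction a with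
      | zero =>
        rw [ExteriorAlgebra.ιMulti_zero_apply, map_one (F i), map_one (F i')]
        exact ⟨X.d_one, X.d_one, 0, by rw [map_zero, sub_self]⟩
      | succ a ih =>
        obtain ⟨h1, h2, z, hz⟩ := ih (Matrix.vecTail v)
        rw [ExteriorAlgebra.ιMulti_succ_apply, map_mul (F i), map_mul (F i'), hFι, hFι]
        refine ⟨by rw [X.anti, h1, mul_zero, neg_zero], by rw [X.anti, h2, mul_zero, neg_zero],
          X.h i i' (v 0) • F i' (ExteriorAlgebra.ιMulti R a (Matrix.vecTail v)) -
            ExteriorAlgebra.ι R (X.f i (v 0)) * z, ?_⟩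
        have h3 := X.diff i i' (v 0) (F i' (ExteriorAlgebra.ιMulti R a (Matrix.vecTail v)))
        rw [h2, smul_zero, sub_zero] at h3
        rw [map_sub, X.anti, ← h3, ← hz, mul_sub]
        abel
    | zero => exact ⟨by rw [map_zero, map_zero], by rw [map_zero, map_zero], 0, by rw [map_zero, map_zero, map_zero, sub_self]⟩
    | add x y _ _ hx hy =>
      obtain ⟨a1, a2, z, hz⟩ := hx
      obtain ⟨b1, b2, z', hz'⟩ := hy
      refine ⟨by rw [map_add, map_add, a1, b1, add_zero], by rw [map_add, map_add, a2, b2, add_zero], z + z', ?_⟩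
      rw [map_add, map_add, map_add, ← hz, ← hz']
      abel
    | smul b x _ hx =>
      obtain ⟨a1, a2, z, hz⟩ := hx
      refine ⟨by rw [hsm, X.d_pow, a1, smul_zero], by rw [hsm, X.d_pow, a2, smul_zero], b ^ p • z, ?_⟩
      rw [hsm, hsm, X.d_pow, ← hz, smul_sub]
  obtain ⟨h1, -, h3⟩ := key y hg
  exact ⟨h1, h3⟩

end dat

theorem sg_eq {R L : Type*} [CommRing R] [AddCommGroup L] [Module R L] (a : ℕ) (y : ExteriorAlgebra R L)
    (hy : y ∈ ⋀[R]^a L) : Iso.sg y = (-1 : ℤ) ^ a • y := by
  rw [← ExteriorAlgebra.ιMulti_span_fixedDegree] at hy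
  induction hy using Submodule.span_induction with
  | mem x hx =>
    obtain ⟨v, rfl⟩ := hx
    induction a with
    | zero => rw [ExteriorAlgebra.ιMulti_zero_apply, map_one, pow_zero, one_smul]
    | succ a ih =>
      rw [ExteriorAlgebra.ιMulti_succ_apply, map_mul, Iso.sg_ι, ih, pow_succ, neg_mul, mul_smul_comm, mul_neg_one,
        neg_smul]
  | zero => rw [map_zero, smul_zero]
  | add x y _ _ hx hy => rw [map_add, hx, hy, smul_add]
  | smul b x _ hx => rw [map_smul, hx, smul_comm]

section chart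

open _root_.K904.Ch _root_.K904.LocDat _root_.K904.LocalCartier _root_.K904.EtLift _root_.K904

variable {p : ℕ} [Fact p.Prime] {k : Type u} [Field k] [CharP k p] [PerfectRing k p]
variable {R Rt L : Type u} [CommRing R] [CharP R p] [Algebra k R] [CommRing Rt] [AddCommGroup L]
  [Module R L] {X : Dt p k R Rt L}

theorem leib {I : Type*} (i₀ : I) (c : I → Chart X) (hdiv : ∀ i j, Div (c i) (c j)) (a : ℕ)
    (y : ExteriorAlgebra R L) (hy : y ∈ ⋀[R]^a L) (z : ExteriorAlgebra R L) :
    (dat i₀ c hdiv).d (y * z) = (dat i₀ c hdiv).d y * z + (-1 : ℤ) ^ a • (y * (dat i₀ c hdiv).d z) := by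
  have h1 := DR.d_mul (c i₀).logChart y z
  rw [sg_eq a y hy, smul_mul_assoc] at h1
  exact h1

theorem exists_C {I : Type*} (i₀ : I) (c : I → Chart X) (hdiv : ∀ i j, Div (c i) (c j))
    (F : I → ExteriorAlgebra R L →+* ExteriorAlgebra R L)
    (hF : ∀ i (b : R), F i (algebraMap R _ b) = algebraMap R _ (b ^ p))
    (hFι : ∀ i w, F i (ExteriorAlgebra.ι R w) = ExteriorAlgebra.ι R ((dat i₀ c hdiv).f i w)) :
    ∃ C : ExteriorAlgebra R L →+ ExteriorAlgebra R L, (∀ y, C ((dat i₀ c hdiv).d y) = 0) ∧
      (∀ i y, C (F i y) = y) ∧ ∀ (b : R) y, C (b ^ p • y) = b • C y := by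
  obtain ⟨H, r, -, h2, h3, -, -, h6, -, -, -⟩ := LocalCartier.main (c i₀).logChart (fun _ => 0)
    (fun _ => (Fact.out : p.Prime).pos) (fun _ _ => rfl)
  have h3' : ∀ y, r ((dat i₀ c hdiv).d y) = 0 := by
    intro y
    have := h3 y
    rw [DR.db_zero] at this
    exact this
  have hF0 : ∀ y, r (F i₀ y) = y := by
    have e1 : F i₀ = c0 p (c i₀).S (c i₀).x (c i₀).e := by
      apply Semi.ringHom_ext
      · intro a
        rw [hF, c0, Semi.extR_algebraMap, frobenius_def]
      · intro v
        rw [hFι, c0, Semi.extR_ι]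
        rfl
    intro y
    have h4 := h2 y
    rw [cb_apply] at h4
    have h5 : mon (c i₀).x (fun _ => 0) = 1 := Finset.prod_eq_one fun j _ => pow_zero _
    rw [h5, one_smul] at h4
    rw [e1]
    exact h4
  refine ⟨r, h3', fun i y => ?_, h6⟩
  obtain ⟨-, z, hz⟩ := exists_F_sub (dat i₀ c hdiv) F hF hFι i₀ i y
  rw [← sub_add_cancel (F i y) (F i₀ y), hz, map_add, h3', hF0, zero_add]

end chart

end K904.TopChart
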