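import Groth.Agent.DelIll.K904.GeoFm
import Groth.Agent.DelIll.K904.TopChart

/-!
# The additional properties of the geometric data of a component
-/

set_option autoImplicit false
set_option linter.unusedSectionVars false
set_option linter.style.haveILetI false

universe u

open CategoryTheory CategoryTheory.Limits AlgebraicGeometry Opposite TopologicalSpace
open Groth.Agent.Sga67.Sec Groth.Agent.Sga67.LocBasis FrobAlg K673.W2Basic K673.Lift

namespace K904.GeoCovT

open _root_.K904.GeoUp _root_.K904.GeoDt _root_.K904.GeoCh _root_.K922.DSec _root_.K904.EtLift _root_.K904.Ch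
open _root_.K904.LocDat _root_.K922.LogBasis _root_.K904.LocalCartier _root_.K904.GeoCover

variable {p : ℕ} [Fact p.Prime] {k : Type u} [Field k] [CharP k p] [PerfectRing k p]
variable {X : Scheme.{u}} [X.Over (Spec (CommRingCat.of k))]
variable {Xl : Scheme.{u}} {g : Xl ⟶ Spec (CommRingCat.of (W2 p k))} {i : X ⟶ Xl}
  [Flat g] [IsClosedImmersion i] [Surjective i]
variable {r : ℕ} {D : Fin r → X.IdealSheafData} {Dl : Fin r → Xl.IdealSheafData}
  {Ω' : X.Modules} {d : OmegaSh.Der (X ↘ Spec (CommRingCat.of k)) Ω'} {Λ : LogNCD.LogMod d D}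

attribute [local instance] K912.Frame.algV K912.Frame.modS Groth.Agent.Fga.MumCech.modP

variable {T : X.Opens} (C : Cov i Dl Λ T) [IsReduced X] [X.IsSeparated] [CharX X p]
variable (hl : IsPullback i (X ↘ Spec (CommRingCat.of k)) g (spW p k))
  (hDl : ∀ j, (Dl j).comap i = D j) (hDlf : ∀ j, Flat ((Dl j).subschemeι ≫ g))

open K912.Alt in
theorem Cov.surjA (s : Set C.ι) (hs : s.Nonempty) (j : C.ι) (hj : j ∈ s) (a : ℕ)
    (A' : Subalgebra k Γ(X, C.V0.U)) (N' : Submodule k (Sec Λ.L C.V0.U)) (hA : A' = C.A hl s hs) (hN : N' = C.N hl s hs)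
    (y : ExteriorAlgebra Γ(X, C.V0.U) (Sec Λ.L C.V0.U)) (hy : y ∈ lat (Subalgebra.toSubmodule A') N' a)
    (hdy : (C.dat hl hDl hDlf).d y = 0) :
    ∃ g ∈ lat (Subalgebra.toSubmodule A') N' a, ∃ z ∈ latZ (Subalgebra.toSubmodule A') N' ((a : ℤ) - 1),
      y = C.F hl hDl hDlf j g + (C.dat hl hDl hDlf).d z := by
  subst hA hN
  exact Cov.IsP.surj (hDl := hDl) (hDlf := hDlf) (fun _ => (Fact.out : p.Prime).pos) (C.isP hl s hs) hj a y hy hdy

/-- The additional properties of the data of a covering. -/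
theorem Cov.topG : _root_.K904.TopGeo.TopG (C.geo hl hDl hDlf) where
  surj s j hj a y hy hdy := C.surjA hl hDl hDlf s ⟨j, hj⟩ j hj a _ _ (C.As_eq hl hDl hDlf s ⟨j, hj⟩)
    (C.Ns_eq hl hDl hDlf s ⟨j, hj⟩) y hy hdy
  exC := TopChart.exists_C C.ne.some (C.c0 hl) (C.div0 hl hDl hDlf) (C.F hl hDl hDlf)
      (C.F_algebraMap hl hDl hDlf) (C.F_ι hl hDl hDlf)
  leib a y hy z := TopChart.leib C.ne.some (C.c0 hl) (C.div0 hl hDl hDlf) a y hy z

end K904.GeoCovT
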