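import Groth.Agent.DelIll.K904.Ext
import Mathlib.LinearAlgebra.TensorProduct.Basis
import Mathlib.LinearAlgebra.CliffordAlgebra.Conjugation
import Mathlib.RingTheory.Derivation.Basic

/-!
# Exterior algebras and base change; coefficientwise operators; the differential `dd`

For `A → B`, `V` free over `A` with basis `e'`, `L` free over `B` with basis `e` (same index type):
`Φ : B ⊗[A] Λ_A V ≃ₗ[B] Λ_B L`.  `sharp e T` acts on the coefficients of an element of `Λ_B L`, and
`dd e θ y = ∑ j, e_j ∧ sharp e (θ j) y`.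
-/

set_option autoImplicit false
set_option linter.unusedSectionVars false

open Module TensorProduct ExteriorAlgebra

namespace K904.Iso

section jL

variable {A B V L : Type*} [CommRing A] [CommRing B] [Algebra A B]
  [AddCommGroup V] [Module A V] [AddCommGroup L] [Module B L] [Module A L] [IsScalarTower A B L]

/-- The algebra map of exterior algebras attached to a linear map `κ : V → L` over `A → B`. -/
noncomputable def jL (κ : V →ₗ[A] L) : ExteriorAlgebra A V →ₐ[A] ExteriorAlgebra B L :=
  ExteriorAlgebra.lift A ⟨((ι B : L →ₗ[B] ExteriorAlgebra B L).restrictScalars A).comp κ, fun _ =>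
    ExteriorAlgebra.ι_sq_zero _⟩

@[simp]
theorem jL_ι (κ : V →ₗ[A] L) (v : V) : jL (B := B) κ (ι A v) = ι B (κ v) :=
  ExteriorAlgebra.lift_ι_apply _ _ _ _

theorem jL_ιMulti (κ : V →ₗ[A] L) {n : ℕ} (v : Fin n → V) :
    jL (B := B) κ (ιMulti A n v) = ιMulti B n (fun i => κ (v i)) := by
  rw [ιMulti_apply, ιMulti_apply, map_list_prod, List.map_ofFn]
  congr 2
  funext i
  exact jL_ι κ _

variable {J : Type*} [LinearOrder J] (e' : Basis J A V) (e : Basis J B L)

theorem jL_basis (s : Finset J) :
    jL (B := B) (e'.constr A (fun l => e l)) (e'.ExteriorAlgebra s) = e.ExteriorAlgebra s := by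
  rw [basis_apply, basis_apply]
  refine (jL_ιMulti _ _).trans ?_
  change _ = ιMulti B _ _
  congr 1
  funext i
  simp

/-- The isomorphism `B ⊗[A] Λ_A V ≃ Λ_B L`. -/
noncomputable def Φ : B ⊗[A] ExteriorAlgebra A V ≃ₗ[B] ExteriorAlgebra B L :=
  (e'.ExteriorAlgebra.baseChange B).equiv e.ExteriorAlgebra (Equiv.refl _)

theorem Φ_tmul (b : B) (x : ExteriorAlgebra A V) :
    Φ e' e (b ⊗ₜ x) = b • jL (B := B) (e'.constr A (fun l => e l)) x := by
  have h : b ⊗ₜ[A] x = b • ((1 : B) ⊗ₜ[A] x) := by rw [smul_tmul', smul_eq_mul, mul_one]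
  rw [h, map_smul]
  congr 1
  have : ((Φ e' e).toLinearMap.restrictScalars A).comp (TensorProduct.mk A B (ExteriorAlgebra A V) 1) =
      (jL (B := B) (e'.constr A (fun l => e l))).toLinearMap := by
    refine e'.ExteriorAlgebra.ext fun s => ?_
    have h2 : (1 : B) ⊗ₜ[A] e'.ExteriorAlgebra s = (e'.ExteriorAlgebra.baseChange B) s := by
      rw [Basis.baseChange_apply]
    change Φ e' e ((1 : B) ⊗ₜ[A] e'.ExteriorAlgebra s) = _
    rw [h2, Φ, Basis.equiv_apply]
    exact (jL_basis e' e s).symm
  exact LinearMap.congr_fun this x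

end jL

section sharp

variable {B L J : Type*} [CommRing B] [AddCommGroup L] [Module B L] [LinearOrder J] [Fintype J] (e : Basis J B L)

/-- Acting on the coefficients with respect to the basis `e_s`. -/
noncomputable def sharp (T : B →+ B) : ExteriorAlgebra B L →+ ExteriorAlgebra B L where
  toFun y := ∑ s, T (e.ExteriorAlgebra.repr y s) • e.ExteriorAlgebra s
  map_zero' := by simp
  map_add' y z := by simp [add_smul, Finset.sum_add_distrib]

theorem sharp_basis (T : B →+ B) (b : B) (s : Finset J) :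
    sharp e T (b • e.ExteriorAlgebra s) = T b • e.ExteriorAlgebra s := by
  change ∑ t, T (e.ExteriorAlgebra.repr (b • e.ExteriorAlgebra s) t) • e.ExteriorAlgebra t = _
  rw [Finset.sum_eq_single s]
  · simp
  · intro t _ hts
    simp [hts.symm]
  · intro h
    exact absurd (Finset.mem_univ _) h

theorem ext_of_basis {G : Type*} [AddCommGroup G] {f g : ExteriorAlgebra B L →+ G}
    (h : ∀ (b : B) (s : Finset J), f (b • e.ExteriorAlgebra s) = g (b • e.ExteriorAlgebra s)) : f = g := by
  ext y
  rw [← e.ExteriorAlgebra.sum_repr y, map_sum, map_sum]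
  exact Finset.sum_congr rfl fun s _ => h _ _

theorem sharp_smul (T : B →+ B) (c : B) (hc : ∀ b, T (c * b) = c * T b) (y : ExteriorAlgebra B L) :
    sharp e T (c • y) = c • sharp e T y := by
  change ∑ t, T (e.ExteriorAlgebra.repr (c • y) t) • e.ExteriorAlgebra t = c • ∑ t, _
  rw [Finset.smul_sum]
  refine Finset.sum_congr rfl fun t _ => ?_
  rw [map_smul, Finsupp.smul_apply, smul_eq_mul, hc, mul_smul]

/-- The differential attached to operators `θ j` on the coefficients. -/
noncomputable def dd (θ : J → B →+ B) : ExteriorAlgebra B L →+ ExteriorAlgebra B L :=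
  ∑ j, (AddMonoidHom.mulLeft (ι B (e j))).comp (sharp e (θ j))

theorem dd_apply (θ : J → B →+ B) (y : ExteriorAlgebra B L) :
    dd e θ y = ∑ j, ι B (e j) * sharp e (θ j) y := by
  rw [dd, AddMonoidHom.finsetSum_apply]
  rfl

theorem dd_smul (θ : J → B →+ B) (c : B) (hc : ∀ j b, θ j (c * b) = c * θ j b) (y : ExteriorAlgebra B L) :
    dd e θ (c • y) = c • dd e θ y := by
  rw [dd_apply, dd_apply, Finset.smul_sum]
  refine Finset.sum_congr rfl fun j _ => ?_
  rw [sharp_smul e _ c (hc j), Algebra.mul_smul_comm]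

theorem dd_basis (θ : J → B →+ B) (b : B) (s : Finset J) :
    dd e θ (b • e.ExteriorAlgebra s) = ∑ j, θ j b • (ι B (e j) * e.ExteriorAlgebra s) := by
  rw [dd_apply]
  refine Finset.sum_congr rfl fun j _ => ?_
  rw [sharp_basis, Algebra.mul_smul_comm]

section base

variable {A V : Type*} [CommRing A] [Algebra A B] [AddCommGroup V] [Module A V] [Module A L] [IsScalarTower A B L]
  (e' : Basis J A V)

theorem Φ_E (j : J) (y : B ⊗[A] ExteriorAlgebra A V) :
    Φ e' e (TensorProduct.map LinearMap.id (Ext.E (e' j)) y) = ι B (e j) * Φ e' e y := by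
  induction y using TensorProduct.induction_on with
  | zero => simp
  | tmul b x =>
    rw [TensorProduct.map_tmul, Φ_tmul, Φ_tmul, Ext.E_apply, map_mul, jL_ι, LinearMap.id_apply,
      Algebra.mul_smul_comm, Basis.constr_basis]
  | add x y hx hy => rw [map_add, map_add, hx, hy, map_add, mul_add]

theorem Φ_sharp (T : Module.End A B) (y : B ⊗[A] ExteriorAlgebra A V) :
    Φ e' e (TensorProduct.map T LinearMap.id y) = sharp e T.toAddMonoidHom (Φ e' e y) := by
  have : ((Φ e' e).toAddEquiv.toAddMonoidHom.comp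
      ((TensorProduct.map T LinearMap.id : Module.End A (B ⊗[A] ExteriorAlgebra A V)).toAddMonoidHom.comp
        (Φ e' e).symm.toAddEquiv.toAddMonoidHom)) = sharp e T.toAddMonoidHom := by
    refine ext_of_basis e fun b s => ?_
    have h2 : (Φ e' e).symm (b • e.ExteriorAlgebra s) = b ⊗ₜ[A] e'.ExteriorAlgebra s := by
      rw [LinearEquiv.symm_apply_eq, Φ_tmul, jL_basis]
    rw [sharp_basis]
    change Φ e' e (TensorProduct.map T LinearMap.id ((Φ e' e).symm (b • e.ExteriorAlgebra s))) = _
    rw [h2, TensorProduct.map_tmul, Φ_tmul, LinearMap.id_apply, jL_basis]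
    rfl
  have h := DFunLike.congr_fun this (Φ e' e y)
  have h3 : (Φ e' e).symm (Φ e' e y) = y := LinearEquiv.symm_apply_apply _ _
  refine Eq.trans ?_ h
  exact congrArg (fun z => Φ e' e (TensorProduct.map T LinearMap.id z)) h3.symm

theorem Φ_dd (θ : J → Module.End A B) (y : B ⊗[A] ExteriorAlgebra A V) :
    Φ e' e ((∑ j, TensorProduct.map (θ j) (Ext.E (e' j)) : Module.End A (B ⊗[A] ExteriorAlgebra A V)) y) =
      dd e (fun j => (θ j).toAddMonoidHom) (Φ e' e y) := by
  rw [dd_apply, LinearMap.sum_apply, map_sum]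
  refine Finset.sum_congr rfl fun j _ => ?_
  have h : ι B (e j) * sharp e (θ j).toAddMonoidHom (Φ e' e y) =
      Φ e' e (TensorProduct.map LinearMap.id (Ext.E (e' j)) (TensorProduct.map (θ j) LinearMap.id y)) := by
    rw [Φ_E, Φ_sharp]
  rw [h, ← LinearMap.comp_apply (TensorProduct.map LinearMap.id _), ← TensorProduct.map_comp, LinearMap.id_comp,
    LinearMap.comp_id]

end base

/-! ### Leibniz -/

/-- the grade involution on the exterior algebra -/
noncomputable abbrev sg : ExteriorAlgebra B L →ₐ[B] ExteriorAlgebra B L := CliffordAlgebra.involute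

omit [Fintype J] [LinearOrder J] in
theorem sg_ι (m : L) : sg (ι B m) = - ι B m := CliffordAlgebra.involute_ι m

theorem ι_mul_eq (m : L) (x : ExteriorAlgebra B L) : ι B m * x = sg x * ι B m := by
  induction x using ExteriorAlgebra.induction with
  | algebraMap r => rw [AlgHom.commutes]; exact (Algebra.commutes r _).symm
  | ι x =>
    rw [sg_ι, neg_mul, eq_neg_iff_add_eq_zero]
    exact ExteriorAlgebra.ι_add_mul_swap m x
  | mul a b ha hb => rw [map_mul, ← mul_assoc, ha, mul_assoc, hb, mul_assoc]
  | add a b ha hb => rw [map_add, mul_add, add_mul, ha, hb]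

theorem dd_mul (θ : J → B →+ B) (hθ : ∀ j b c, θ j (b * c) = b * θ j c + c * θ j b) (x y : ExteriorAlgebra B L) :
    dd e θ (x * y) = dd e θ x * y + sg x * dd e θ y := by
  let e' : Basis J ℤ (J →₀ ℤ) := Finsupp.basisSingleOne
  let T : J → Module.End ℤ B := fun j => (θ j).toIntLinearMap
  let κ : (J →₀ ℤ) →ₗ[ℤ] L := e'.constr ℤ (fun l => e l)
  have hT : (fun j => (T j).toAddMonoidHom) = θ := by
    funext j; ext b; rfl
  have key : ∀ (b : B) (u : ExteriorAlgebra ℤ (J →₀ ℤ)),
      dd e θ (b • jL (B := B) κ u) = ∑ j, θ j b • (ι B (e j) * jL (B := B) κ u) := by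
    intro b u
    rw [← Φ_tmul e' e, ← hT, ← Φ_dd e e' T, LinearMap.sum_apply, map_sum]
    refine Finset.sum_congr rfl fun j _ => ?_
    rw [TensorProduct.map_tmul, Φ_tmul, Ext.E_apply, map_mul, jL_ι, Basis.constr_basis]
    rfl
  have hgen : ∀ x : ExteriorAlgebra B L, x ∈ AddSubgroup.closure {z | ∃ (b : B) (u : ExteriorAlgebra ℤ (J →₀ ℤ)),
      z = b • jL (B := B) κ u} := by
    intro x
    obtain ⟨y, rfl⟩ := (Φ e' e).surjective x
    induction y using TensorProduct.induction_on with
    | zero => rw [map_zero]; exact AddSubgroup.zero_mem _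
    | tmul b u => exact AddSubgroup.subset_closure ⟨b, u, Φ_tmul e' e b u⟩
    | add y z hy hz => rw [map_add]; exact AddSubgroup.add_mem _ hy hz
  induction hgen x using AddSubgroup.closure_induction with
  | zero => simp
  | add x x' _ _ hx hx' => rw [add_mul, map_add, hx, hx', map_add, map_add, add_mul, add_mul]; abel
  | neg x _ hx => rw [neg_mul, map_neg, hx, map_neg, map_neg, neg_mul, neg_mul]; abel
  | mem x hx =>
    obtain ⟨b, u, rfl⟩ := hx
    induction hgen y using AddSubgroup.closure_induction with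
    | zero => simp
    | add y y' _ _ hy hy' => rw [mul_add, map_add, hy, hy', map_add, mul_add, mul_add]; abel
    | neg y _ hy => rw [mul_neg, map_neg, hy, map_neg, mul_neg, mul_neg]; abel
    | mem y hy =>
      obtain ⟨c, v, rfl⟩ := hy
      have h1 : b • jL (B := B) κ u * c • jL (B := B) κ v = (b * c) • jL (B := B) κ (u * v) := by
        rw [map_mul, Algebra.smul_mul_assoc, Algebra.mul_smul_comm, smul_smul]
      rw [h1, key, key, key, Finset.sum_mul, Finset.mul_sum, ← Finset.sum_add_distrib]
      refine Finset.sum_congr rfl fun j _ => ?_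
      rw [hθ, map_mul, add_smul, map_smul]
      simp only [Algebra.smul_mul_assoc, Algebra.mul_smul_comm, smul_smul, mul_assoc]
      rw [← mul_assoc (sg _) (ι B (e j)), ← ι_mul_eq, mul_assoc, add_comm, mul_comm b (θ j c)]

end sharp

end K904.Iso
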