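import Mathlib.Algebra.Ring.Subring.Basic
import Mathlib.Algebra.BigOperators.Group.Finset.Basic
import Mathlib.Tactic.NoncommRing
import Mathlib.Algebra.BigOperators.Ring.Finset

/-!
# The Koszul homotopy in a noncommutative ring

Elements `D j, H j, P j` (`j : J`) of a ring `R` with `D j * H j + H j * D j = 1 - P j`, everything for different
indices (anti)commuting, `D j * P j = 0 = P j * D j`.  Then for every finite set `s` there are `H_s`, `P_s` with
`D_s H_s + H_s D_s = 1 - P_s`, `D_s = ∑_{j ∈ s} D j`, `P_s = ∏_{j ∈ s} P j` (noncommutative product).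
-/

set_option autoImplicit false
set_option linter.unusedSectionVars false

namespace K904.Kos

variable {R J : Type*} [Ring R] [DecidableEq J]

/-- The package of operators of a Koszul type homotopy. -/
structure Pack (D H P : J → R) : Prop where
  hom : ∀ j, D j * H j + H j * D j = 1 - P j
  DP : ∀ j, D j * P j = 0
  PD : ∀ j, P j * D j = 0
  anti : ∀ i j, i ≠ j → D i * H j + H j * D i = 0
  PDc : ∀ i j, i ≠ j → Commute (P i) (D j)
  PHc : ∀ i j, i ≠ j → Commute (P i) (H j)
  PPc : ∀ i j, i ≠ j → Commute (P i) (P j)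

variable {D H P : J → R}

/-- The homotopy for a finite set of indices. -/
theorem exists_homotopy (h : Pack D H P) (G : AddSubgroup R) (hG : ∀ j, H j ∈ G)
    (hPG : ∀ j, ∀ x ∈ G, P j * x ∈ G) (l : List J) (hl : l.Nodup) :
    ∃ Hs ∈ G,
      (l.map D).sum * Hs + Hs * (l.map D).sum = 1 - (l.map P).prod ∧
      (l.map D).sum * (l.map P).prod = 0 ∧ (l.map P).prod * (l.map D).sum = 0 ∧
      (∀ i, i ∉ l → D i * Hs + Hs * D i = 0) ∧
      (∀ i, i ∉ l → Commute (P i) Hs) ∧
      (∀ i, i ∉ l → Commute (l.map P).prod (P i)) ∧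
      (∀ i, i ∉ l → Commute (l.map P).prod (D i)) ∧
      (∀ i, i ∉ l → Commute (l.map P).prod (H i)) ∧
      (∀ i, i ∉ l → Commute (P i) (l.map D).sum) ∧
      (∀ i, i ∉ l → (l.map D).sum * H i + H i * (l.map D).sum = 0) := by
  induction l with
  | nil =>
    refine ⟨0, G.zero_mem, by simp, by simp, by simp, by simp, by simp, by simp, by simp, by simp, by simp, by simp⟩
  | cons j l ih =>
    obtain ⟨hj, hl'⟩ := List.nodup_cons.1 hl
    obtain ⟨Hs, hHs, h1, h2, h3, h4, h5, h6, h7, h8, h9, h10⟩ := ih hl'
    set Ds := (l.map D).sum with hDs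
    set Ps := (l.map P).prod with hPs
    have e4 := h4 j hj
    have e5 := h5 j hj
    have e6 := h6 j hj
    have e7 := h7 j hj
    have e8 := h8 j hj
    have e9 := h9 j hj
    have e10 := h10 j hj
    refine ⟨H j + P j * Hs, G.add_mem (hG j) (hPG j _ hHs), ?_, ?_, ?_, ?_, ?_, ?_, ?_, ?_, ?_, ?_⟩
    · simp only [List.map_cons, List.sum_cons, List.prod_cons]
      rw [← hDs, ← hPs]
      have hh := h.hom j
      have hDP := h.DP j
      have hPD := h.PD j
      calc (D j + Ds) * (H j + P j * Hs) + (H j + P j * Hs) * (D j + Ds)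
          = (D j * H j + H j * D j) + (Ds * H j + H j * Ds) + (D j * P j) * Hs + P j * (Hs * D j)
            + Ds * P j * Hs + P j * (Hs * Ds) := by noncomm_ring
        _ = (1 - P j) + 0 + 0 * Hs + P j * (-(D j * Hs)) + P j * Ds * Hs + P j * (Hs * Ds) := by
            rw [hh, e10, hDP, e9.eq, eq_neg_of_add_eq_zero_right e4]
        _ = (1 - P j) + P j * (Ds * Hs + Hs * Ds) - (P j * D j) * Hs := by noncomm_ring
        _ = 1 - P j * Ps := by rw [h1, hPD]; noncomm_ring
    · simp only [List.map_cons, List.sum_cons, List.prod_cons]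
      rw [← hDs, ← hPs]
      calc (D j + Ds) * (P j * Ps) = (D j * P j) * Ps + (Ds * P j) * Ps := by noncomm_ring
        _ = 0 * Ps + P j * (Ds * Ps) := by rw [h.DP j, e9.eq.symm]; noncomm_ring
        _ = 0 := by rw [h2]; simp
    · simp only [List.map_cons, List.sum_cons, List.prod_cons]
      rw [← hDs, ← hPs]
      calc (P j * Ps) * (D j + Ds) = P j * (Ps * D j) + P j * (Ps * Ds) := by noncomm_ring
        _ = (P j * D j) * Ps + P j * 0 := by rw [e7.eq, h3]; noncomm_ring
        _ = 0 := by rw [h.PD j]; simp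
    · intro i hi
      obtain ⟨hij, hil⟩ := List.ne_and_not_mem_of_not_mem_cons hi
      have a1 := h.anti i j hij
      have a4 := h4 i hil
      have c1 := h.PDc j i (Ne.symm hij)
      calc D i * (H j + P j * Hs) + (H j + P j * Hs) * D i
          = (D i * H j + H j * D i) + (D i * P j) * Hs + P j * (Hs * D i) := by noncomm_ring
        _ = 0 + P j * (D i * Hs + Hs * D i) := by rw [a1, ← c1.eq]; noncomm_ring
        _ = 0 := by rw [a4]; simp
    · intro i hi
      obtain ⟨hij, hil⟩ := List.ne_and_not_mem_of_not_mem_cons hi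
      exact (h.PHc i j hij).add_right ((h.PPc i j hij).mul_right (h5 i hil))
    · intro i hi
      obtain ⟨hij, hil⟩ := List.ne_and_not_mem_of_not_mem_cons hi
      simp only [List.map_cons, List.prod_cons]
      exact (h.PPc j i (Ne.symm hij)).mul_left (h6 i hil)
    · intro i hi
      obtain ⟨hij, hil⟩ := List.ne_and_not_mem_of_not_mem_cons hi
      simp only [List.map_cons, List.prod_cons]
      exact (h.PDc j i (Ne.symm hij)).mul_left (h7 i hil)
    · intro i hi
      obtain ⟨hij, hil⟩ := List.ne_and_not_mem_of_not_mem_cons hi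
      simp only [List.map_cons, List.prod_cons]
      exact (h.PHc j i (Ne.symm hij)).mul_left (h8 i hil)
    · intro i hi
      obtain ⟨hij, hil⟩ := List.ne_and_not_mem_of_not_mem_cons hi
      simp only [List.map_cons, List.sum_cons]
      exact (h.PDc i j hij).add_right (h9 i hil)
    · intro i hi
      obtain ⟨hij, hil⟩ := List.ne_and_not_mem_of_not_mem_cons hi
      simp only [List.map_cons, List.sum_cons]
      have a1 := h.anti j i (Ne.symm hij)
      have a10 := h10 i hil
      calc (D j + Ds) * H i + H i * (D j + Ds)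
          = (D j * H i + H i * D j) + (Ds * H i + H i * Ds) := by noncomm_ring
        _ = 0 := by rw [a1, a10]; simp

end K904.Kos
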