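import Groth.Agent.DelIll.K912.AsmFam

/-!
# Lattices of the exterior powers themselves (no twist)
-/

set_option autoImplicit false

universe u

open CategoryTheory CategoryTheory.Limits AlgebraicGeometry Opposite TopologicalSpace
open Groth.Agent.Sga67.Sec Groth.Agent.Sga67.LocBasis Groth.Agent.Sga67.ExtSheaf
open Groth.Agent.Fga.MumCech
open K912.Alt K912.Twist K912.Frame K912.LatCmp K912.Asm K912.Seq

namespace K904.LatU

attribute [local instance] algV modS modP

variable {X : Scheme.{u}} {E La : X.Modules} {a : ℕ} (φ : Phi a E La) (V₀ : X.affineOpens)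
variable (k : Type u) [Field k] [X.Over (Spec (CommRingCat.of k))]

/-- The realisation of the sections of an exterior power over `V₀`. -/
noncomputable def phu : La.presheaf.obj (op V₀.1) →ₗ[k] (Unit → ExteriorAlgebra Γ(X, V₀.1) (Sec E V₀.1)) where
  toFun x _ := (φ V₀ x : ExteriorAlgebra Γ(X, V₀.1) (Sec E V₀.1))
  map_add' x y := by
    funext _
    exact congrArg Subtype.val (map_add (φ V₀) x y)
  map_smul' t x := by
    funext _
    exact congrArg Subtype.val (map_smul (φ V₀) (glV k V₀.1 t) (show Sec La V₀.1 from x))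

theorem phu_apply (x : La.presheaf.obj (op V₀.1)) (j : Unit) :
    phu φ V₀ k x j = (φ V₀ x : ExteriorAlgebra Γ(X, V₀.1) (Sec E V₀.1)) := rfl

theorem phu_injective : Function.Injective (phu φ V₀ k) := by
  intro x y h
  have h1 : φ V₀ x = φ V₀ y := Subtype.ext (congrFun h ())
  exact (φ V₀).injective h1

theorem rho_phu {V : X.Opens} (h : V₀.1 ≤ V) (x : Sec La V) (j : Unit) :
    rho k La (phu φ V₀ k) h x j = (φ V₀ (res La h x) : ExteriorAlgebra Γ(X, V₀.1) (Sec E V₀.1)) := rfl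

variable (hφ : PhiComp φ)

include hφ in
theorem phi_res_smul {V : X.affineOpens} (hV₀ : V₀.1 ≤ V.1) (c : Γ(X, V.1)) (e : Fin a → Sec E V.1) :
    (φ V₀ (res La hV₀ (c • (φ V).symm (exteriorPower.ιMulti _ a e))) : ExteriorAlgebra Γ(X, V₀.1) (Sec E V₀.1)) =
      resO X hV₀ c • ExteriorAlgebra.ιMulti _ a (fun l => res E hV₀ (e l)) := by
  rw [Groth.Agent.Sga67.Sec.res_smul, hφ, map_smul, LinearEquiv.apply_symm_apply]
  change resO X hV₀ c • ((exteriorPower.ιMulti Γ(X, V₀.1) a (fun l => res E hV₀ (e l)) :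
    ⋀[Γ(X, V₀.1)]^a (Sec E V₀.1)) : ExteriorAlgebra Γ(X, V₀.1) (Sec E V₀.1)) = _
  rw [exteriorPower.ιMulti_apply_coe]

include hφ in
/-- **The lattice of sections.** -/
theorem range_phu_res {U V : X.affineOpens} (hV₀ : V₀.1 ≤ V.1) (hVU : V.1 ≤ U.1) {κ : Type*} [Fintype κ]
    [LinearOrder κ] {b : κ → Sec E U.1} (hb : IsLocBasis b) (y : ExteriorAlgebra Γ(X, V₀.1) (Sec E V₀.1)) :
    (∃ x : Sec La V.1, (φ V₀ (res La hV₀ x) : ExteriorAlgebra Γ(X, V₀.1) (Sec E V₀.1)) = y) ↔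
      y ∈ lat (Subalgebra.toSubmodule (Av k hV₀)) (Nv k E hV₀) a := by
  constructor
  · rintro ⟨x, rfl⟩
    have hB := isLocBasis_extPow φ hφ (hb.restrict hVU)
    obtain ⟨coef, rfl⟩ := (hB V.1 le_rfl).2 x
    have e1 : φ V₀ (res La hV₀ (comb (fun I => (φ V).symm (exteriorPower.ιMulti_family Γ(X, V.1) a
        (fun j => res E hVU (b j)) I)) le_rfl coef)) = ∑ I, φ V₀ (res La hV₀ (coef I •
          (φ V).symm (exteriorPower.ιMulti_family Γ(X, V.1) a (fun j => res E hVU (b j)) I))) := by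
      rw [comb_apply, map_sum, map_sum]
      refine Finset.sum_congr rfl fun I _ => ?_
      rw [res_self]
    have e2 : (φ V₀ (res La hV₀ (comb (fun I => (φ V).symm (exteriorPower.ιMulti_family Γ(X, V.1) a
        (fun j => res E hVU (b j)) I)) le_rfl coef)) : ExteriorAlgebra Γ(X, V₀.1) (Sec E V₀.1)) =
        ∑ I, (φ V₀ (res La hV₀ (coef I •
          (φ V).symm (exteriorPower.ιMulti_family Γ(X, V.1) a (fun j => res E hVU (b j)) I))) :
            ExteriorAlgebra Γ(X, V₀.1) (Sec E V₀.1)) := by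
      rw [e1]
      exact map_sum (Submodule.subtype _) _ _
    rw [e2]
    refine Submodule.sum_mem _ fun I _ => ?_
    have e3 := phi_res_smul φ V₀ hφ hV₀ (coef I)
      (fun l => res E hVU (b (Set.powersetCard.ofFinEmbEquiv.symm I l)))
    have e4 : exteriorPower.ιMulti_family Γ(X, V.1) a (fun j => res E hVU (b j)) I =
      exteriorPower.ιMulti _ a (fun l => res E hVU (b (Set.powersetCard.ofFinEmbEquiv.symm I l))) := rfl
    rw [e4, e3]
    exact smul_ιMulti_mem ((mem_Av k hV₀).2 ⟨_, rfl⟩) fun l => (mem_Nv k E hV₀).2 ⟨_, rfl⟩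
  · intro hy
    induction hy using Submodule.span_induction with
    | mem w hw =>
      obtain ⟨q, ⟨q', rfl⟩, e, he, rfl⟩ := hw
      choose e' he' using he
      refine ⟨q' • (φ V).symm (exteriorPower.ιMulti _ a e'), ?_⟩
      rw [phi_res_smul φ V₀ hφ hV₀]
      have h2 : e = fun l => res E hV₀ (e' l) := funext fun l => (he' l).symm
      rw [h2]
      rfl
    | zero =>
      refine ⟨0, ?_⟩
      rw [map_zero, map_zero]
      rfl
    | add w w' _ _ hw hw' =>
      obtain ⟨x, rfl⟩ := hw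
      obtain ⟨x', rfl⟩ := hw'
      refine ⟨x + x', ?_⟩
      rw [map_add, map_add]
      rfl
    | smul t w _ hw =>
      obtain ⟨x, rfl⟩ := hw
      refine ⟨glV k V.1 t • x, ?_⟩
      rw [Groth.Agent.Sga67.Sec.res_smul, map_smul]
      have h3 : resO X hV₀ (glV k V.1 t) = algebraMap k Γ(X, V₀.1) t := glV_res k hV₀ t
      rw [h3]
      exact algebraMap_smul Γ(X, V₀.1) t (φ V₀ (res La hV₀ x) : ExteriorAlgebra Γ(X, V₀.1) (Sec E V₀.1))

variable {ι : Type u} (U : ι → X.affineOpens) (hV₀ : ∀ i, V₀.1 ≤ (U i).1)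

include hφ in
/-- The lattices of `Λ^a E`. -/
theorem mem_Nl {s : Set ι} {i : ι} (hi : i ∈ s) (haff : IsAffineOpen (Us (fun i => (U i).1) s))
    {κ : Type*} [Fintype κ] [LinearOrder κ] {b : κ → Sec E (U i).1} (hb : IsLocBasis b)
    (y : Unit → ExteriorAlgebra Γ(X, V₀.1) (Sec E V₀.1)) :
    y ∈ Nl k (fun i => (U i).1) hV₀ La (phu φ V₀ k) s ↔
      y () ∈ lat (Subalgebra.toSubmodule (Av k (le_Us (fun i => (U i).1) hV₀ s)))
        (Nv k E (le_Us (fun i => (U i).1) hV₀ s)) a := by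
  have hVU : Us (fun i => (U i).1) s ≤ (U i).1 := iInf_le_of_le i (iInf_le_of_le hi le_rfl)
  have h1 := range_phu_res φ V₀ k hφ (V := ⟨Us (fun i => (U i).1) s, haff⟩) (U := U i)
    (le_Us (fun i => (U i).1) hV₀ s) hVU hb (y ())
  rw [← h1, Nl_nonempty k (fun i => (U i).1) hV₀ _ _ ⟨i, hi⟩]
  constructor
  · rintro ⟨x, hx⟩
    exact ⟨x, congrFun hx ()⟩
  · rintro ⟨x, hx⟩
    exact ⟨x, funext fun _ => hx⟩

theorem rho_phu_injective {U V : X.affineOpens} (h : V.1 ≤ U.1)
    (h₀ : V₀.1 ≤ V.1) (hρ : Function.Injective (resO X h₀)) {κ : Type*} [Fintype κ] [LinearOrder κ]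
    (hφ : PhiComp φ) {b : κ → Sec E U.1} (hb : IsLocBasis b) :
    Function.Injective (rho k La (phu φ V₀ k) h₀) := by
  have hB := isLocBasis_extPow φ hφ hb
  exact (phu_injective φ V₀ k).comp (res_injective h h₀ hρ hB)

end K904.LatU
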