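import Groth.Agent.DelIll.K904.Cartier
import Groth.Agent.DelIll.K904.Semi
import Mathlib.Algebra.CharP.Frobenius
import Mathlib.Algebra.CharP.Algebra

/-!
# The local logarithmic Cartier isomorphism, all degrees, with poles

`B` a ring of characteristic `p`, `L` a free `B`-module with basis `e`, `δ : B → L` a derivation, `x : J → B` a
`p`-basis with `δ (x j) = x j • e j` (`j` logarithmic) or `δ (x j) = e j`.  `pole : J → ℕ` with `pole j < p`.
-/

set_option autoImplicit false
set_option linter.unusedSectionVars false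
set_option linter.style.haveILetI false

open Module TensorProduct ExteriorAlgebra

namespace K904.LocalCartier

/-- A copy of a ring (it will act through Frobenius on the original). -/
def Cp (B : Type*) : Type _ := B

/-- A copy of a module. -/
def CpM (L : Type*) : Type _ := L

instance {B : Type*} [CommRing B] : CommRing (Cp B) := inferInstanceAs (CommRing B)
instance {B : Type*} [CommRing B] (p : ℕ) [CharP B p] : CharP (Cp B) p := inferInstanceAs (CharP B p)
instance {L : Type*} [AddCommGroup L] : AddCommGroup (CpM L) := inferInstanceAs (AddCommGroup L)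
instance {B L : Type*} [CommRing B] [AddCommGroup L] [Module B L] : Module (Cp B) (CpM L) :=
  inferInstanceAs (Module B L)

variable (p : ℕ) [Fact p.Prime] {B L J : Type*} [CommRing B] [CharP B p] [AddCommGroup L] [Module B L]
  [LinearOrder J] [Fintype J]

/-- The monomials `x ^ a`. -/
def mon (x : J → B) (a : J → ℕ) : B := ∏ j, x j ^ a j

/-- `x` is a `p`-basis: every element is uniquely `∑ β_a ^ p x ^ a`, `0 ≤ a_j < p`. -/
def IsPBasis (x : J → B) : Prop :=
  Function.Bijective (fun β : (J → ZMod p) → B => ∑ a, β a ^ p * mon x (fun j => (a j).val))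

/-- Data of a logarithmic chart: `S j` means that the coordinate `x j` is logarithmic. -/
structure LogChart (S : J → Prop) (x : J → B) (δ : B →+ L) (e : Basis J B L) : Prop where
  pbasis : IsPBasis p x
  leib : ∀ b c, δ (b * c) = b • δ c + c • δ b
  log : ∀ j, S j → δ (x j) = x j • e j
  plain : ∀ j, ¬ S j → δ (x j) = e j

variable {p} {S : J → Prop} {x : J → B} {δ : B →+ L} {e : Basis J B L}

/-- The components of `δ`. -/
noncomputable def θ (δ : B →+ L) (e : Basis J B L) (j : J) : B →+ B := (e.coord j).toAddMonoidHom.comp δ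

/-- The de Rham differential. -/
noncomputable def d (δ : B →+ L) (e : Basis J B L) : ExteriorAlgebra B L →+ ExteriorAlgebra B L :=
  Iso.dd e (θ δ e)

/-- The differential on `x ^ (-pole) • Λ`, transported to `Λ`. -/
noncomputable def db (δ : B →+ L) (e : Basis J B L) (pole : J → ℕ) : ExteriorAlgebra B L →+ ExteriorAlgebra B L :=
  d δ e - ∑ j, pole j • AddMonoidHom.mulLeft (ι B (e j))

theorem db_apply (pole : J → ℕ) (y : ExteriorAlgebra B L) :
    db δ e pole y = d δ e y - ∑ j, pole j • (ι B (e j) * y) := by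
  rw [db, AddMonoidHom.sub_apply, AddMonoidHom.finsetSum_apply]
  rfl

open Classical in
/-- The linear map `e'_j ↦ u_j e_j`. -/
noncomputable def fadd (p : ℕ) [Fact p.Prime] [CharP B p] (S : J → Prop) (x : J → B) (e : Basis J B L) : L →+ L :=
  { toFun := fun v => ∑ j, (e.repr v j) ^ p • (if S j then e j else x j ^ (p - 1) • e j)
    map_zero' := by
      simp [(Fact.out : p.Prime).ne_zero]
    map_add' := fun v w => by
      simp only [map_add, Finsupp.add_apply, add_pow_char, add_smul, Finset.sum_add_distrib] }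

theorem fadd_smul (b : B) (v : L) : fadd p S x e (b • v) = frobenius B p b • fadd p S x e v := by
  change ∑ j, (e.repr (b • v) j) ^ p • _ = frobenius B p b • ∑ j, (e.repr v j) ^ p • _
  rw [Finset.smul_sum]
  refine Finset.sum_congr rfl fun j _ => ?_
  rw [map_smul, Finsupp.smul_apply, smul_eq_mul, mul_pow, mul_smul]
  rfl

open Classical in
theorem fadd_basis (j : J) : fadd p S x e (e j) = if S j then e j else x j ^ (p - 1) • e j := by
  change ∑ i, (e.repr (e j) i) ^ p • _ = _
  rw [Finset.sum_eq_single j]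
  · simp
  · intro i _ hi
    simp [hi.symm, (Fact.out : p.Prime).ne_zero]
  · intro h
    exact absurd (Finset.mem_univ _) h

/-- The inverse Cartier operator (a Frobenius semilinear ring homomorphism). -/
noncomputable def c0 (p : ℕ) [Fact p.Prime] [CharP B p] (S : J → Prop) (x : J → B) (e : Basis J B L) :
    ExteriorAlgebra B L →+* ExteriorAlgebra B L :=
  Semi.extR (frobenius B p) (fadd p S x e) fadd_smul

/-- The inverse Cartier operator with poles. -/
noncomputable def cb (p : ℕ) [Fact p.Prime] [CharP B p] (S : J → Prop) (x : J → B) (e : Basis J B L)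
    (pole : J → ℕ) : ExteriorAlgebra B L →+ ExteriorAlgebra B L :=
  (DistribSMul.toAddMonoidHom _ (mon x pole)).comp (c0 p S x e).toAddMonoidHom

theorem cb_apply (pole : J → ℕ) (y : ExteriorAlgebra B L) : cb p S x e pole y = mon x pole • c0 p S x e y := rfl

theorem cb_smul (pole : J → ℕ) (b : B) (y : ExteriorAlgebra B L) :
    cb p S x e pole (b • y) = b ^ p • cb p S x e pole y := by
  rw [cb_apply, cb_apply, c0, Semi.extR_smul, smul_comm]
  rfl

open Classical in
theorem c0_basis (s : Finset J) :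
    c0 p S x e (e.ExteriorAlgebra s) = (∏ j ∈ s, if S j then 1 else x j ^ (p - 1)) • e.ExteriorAlgebra s := by
  obtain ⟨n, v, h1, h2, h3, -⟩ := Ext.exists_basis_eq e s
  rw [h1, c0, Semi.extR_ιMulti]
  have h4 : (fun i => fadd p S x e (e (v i))) = fun i => (if S (v i) then (1 : B) else x (v i) ^ (p - 1)) • e (v i) := by
    funext i
    rw [fadd_basis]
    split_ifs <;> simp
  rw [h4, AlternatingMap.map_smul_univ]
  congr 1
  have hs : s = Finset.univ.image v := by
    ext j
    rw [h2]
    simp
  rw [hs, Finset.prod_image fun a _ b _ h => h3 h]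

/-! ### The setting over the Frobenius copy -/

section copy

variable (p B)

/-- The copy of a ring. -/
def un : Cp B ≃+* B := RingEquiv.refl B

variable (L) in
/-- The copy of a module. -/
def unM : CpM L ≃+ L := AddEquiv.refl L

variable {B} in
theorem unM_smul (c : Cp B) (v : CpM L) : unM L (c • v) = un B c • unM L v := rfl

/-- `B` as an algebra over its copy, through Frobenius. -/
noncomputable abbrev algCp : Algebra (Cp B) B := ((frobenius B p).comp (un B).toRingHom).toAlgebra

/-- `L` as a module over the copy. -/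
abbrev modCp (L : Type*) [AddCommGroup L] [Module B L] : Module (Cp B) L :=
  Module.compHom L ((frobenius B p).comp (un B).toRingHom)

/-- The copy has characteristic `p`. -/
abbrev zalg : Algebra (ZMod p) (Cp B) := ZMod.algebra (Cp B) p

variable {B}

theorem algCp_smul (c : Cp B) (b : B) : letI := algCp p B; c • b = un B c ^ p * b := rfl

theorem modCp_smul (c : Cp B) (v : L) : letI := modCp p B L; c • v = (un B c ^ p) • v := rfl

/-- The basis of the copy. -/
noncomputable def eCp (e : Basis J B L) : Basis J (Cp B) (CpM L) := e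

theorem unM_eCp (e : Basis J B L) (j : J) : unM L (eCp e j) = e j := rfl

/-- The basis of monomials. -/
noncomputable def bas (hx : IsPBasis p x) :
    letI := algCp p B
    Basis (J → ZMod p) (Cp B) B :=
  letI := algCp p B
  Basis.ofEquivFun (LinearEquiv.ofBijective
    ({ toFun := fun β => ∑ a, un B (β a) ^ p * mon x (fun j => (a j).val)
       map_add' := fun β γ => by
         rw [← Finset.sum_add_distrib]
         refine Finset.sum_congr rfl fun a _ => ?_
         rw [Pi.add_apply, map_add, add_pow_char, add_mul]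
       map_smul' := fun c β => by
         rw [Finset.smul_sum]
         refine Finset.sum_congr rfl fun a _ => ?_
         rw [Pi.smul_apply, RingHom.id_apply, algCp_smul, smul_eq_mul, map_mul, mul_pow, mul_assoc] } :
      ((J → ZMod p) → Cp B) →ₗ[Cp B] B) hx).symm

theorem bas_apply (hx : IsPBasis p x) (a : J → ZMod p) :
    letI := algCp p B
    bas p hx a = mon x (fun j => (a j).val) := by
  letI := algCp p B
  classical
  rw [bas, Basis.coe_ofEquivFun, LinearEquiv.symm_symm]
  change ∑ a', un B (Pi.single (M := fun _ => Cp B) a (1 : Cp B) a') ^ p * mon x (fun j => (a' j).val) = _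
  rw [Finset.sum_eq_single a]
  · rw [Pi.single_eq_same, map_one, one_pow, one_mul]
  · intro b _ hb
    rw [Pi.single_eq_of_ne hb, map_zero, zero_pow (Fact.out : p.Prime).ne_zero, zero_mul]
  · intro h
    exact absurd (Finset.mem_univ _) h

end copy

/-! ### Derivatives of monomials -/

section deriv

variable (h : LogChart p S x δ e)
include h

theorem θ_mul (j : J) (b c : B) : θ δ e j (b * c) = b * θ δ e j c + c * θ δ e j b := by
  change e.coord j (δ (b * c)) = _
  rw [h.leib, map_add, map_smul, map_smul]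
  rfl

theorem θ_one (j : J) : θ δ e j 1 = 0 := by
  have := θ_mul h j 1 1
  simpa using this

theorem θ_pow (j : J) (b : B) (n : ℕ) : θ δ e j (b ^ n) = n * (b ^ (n - 1) * θ δ e j b) := by
  induction n with
  | zero => simp [θ_one h]
  | succ n ih =>
    rw [pow_succ, θ_mul h, ih]
    rcases n with _ | n
    · simp
    · simp only [Nat.add_sub_cancel, Nat.cast_add, Nat.cast_one, pow_succ]
      ring

theorem θ_pow_p (j : J) (b : B) : θ δ e j (b ^ p) = 0 := by
  rw [θ_pow h, CharP.cast_eq_zero, zero_mul]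

theorem θ_pow_mul (j : J) (b c : B) : θ δ e j (b ^ p * c) = b ^ p * θ δ e j c := by
  rw [θ_mul h, θ_pow_p h, mul_zero, add_zero]

open Classical in
theorem θ_x (i j : J) : θ δ e j (x i) = if i = j then (if S j then x j else 1) else 0 := by
  change e.coord j (δ (x i)) = _
  by_cases hS : S i
  · rw [h.log i hS, map_smul, Basis.coord_apply, Basis.repr_self]
    by_cases hij : i = j
    · subst hij; simp [hS]
    · simp [hij]
  · rw [h.plain i hS, Basis.coord_apply, Basis.repr_self]
    by_cases hij : i = j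
    · subst hij; simp [hS]
    · simp [hij]

theorem θ_prod_erase (j : J) (a : J → ℕ) (s : Finset J) (hs : j ∉ s) :
    θ δ e j (∏ i ∈ s, x i ^ a i) = 0 := by
  classical
  induction s using Finset.induction_on with
  | empty => simp [θ_one h]
  | insert i s hi ih =>
    have hij : i ≠ j := fun h' => hs (h' ▸ Finset.mem_insert_self i s)
    rw [Finset.prod_insert hi, θ_mul h, ih fun h' => hs (Finset.mem_insert_of_mem h'), θ_pow h, θ_x h, if_neg hij]
    simp

omit h in
theorem mon_update (a : J → ℕ) (j : J) (k : ℕ) :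
    mon x (Function.update a j k) = x j ^ k * ∏ i ∈ Finset.univ.erase j, x i ^ a i := by
  classical
  rw [mon, ← Finset.mul_prod_erase _ _ (Finset.mem_univ j), Function.update_self]
  congr 1
  refine Finset.prod_congr rfl fun i hi => ?_
  rw [Function.update_of_ne (Finset.ne_of_mem_erase hi)]

open Classical in
theorem θ_mon (j : J) (a : J → ℕ) :
    θ δ e j (mon x a) = a j * (if S j then mon x a else mon x (Function.update a j (a j - 1))) := by
  have h1 : mon x a = x j ^ a j * ∏ i ∈ Finset.univ.erase j, x i ^ a i := by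
    rw [← mon_update, Function.update_eq_self]
  rw [h1, θ_mul h, θ_prod_erase h j a _ (Finset.notMem_erase j _), mul_zero, zero_add, θ_pow h, θ_x h, if_pos rfl,
    mon_update]
  split_ifs with hS
  · rcases hn : a j with _ | n
    · simp
    · simp only [Nat.add_sub_cancel, pow_succ]; ring
  · ring

end deriv

/-! ### The main theorem -/

section main

open Classical in
/-- The model slots. -/
noncomputable def model (p : ℕ) [Fact p.Prime] (B : Type*) [CommRing B] [CharP B p] (S : J → Prop) (pole : J → ℕ)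
    (j : J) : Slot.Model (ZMod p) (Cp B) :=
  letI := zalg p B
  if S j then Slot.log p (pole j : ZMod p) else Slot.plain p

variable (p) in
theorem zalg_smul (z : ZMod p) (b : B) : letI := algCp p B; letI := zalg p B
    (algebraMap (ZMod p) (Cp B) z) • b = (z.val : B) * b := by
  letI := algCp p B
  letI := zalg p B
  rw [algCp_smul]
  congr 1
  obtain ⟨n, rfl⟩ := ZMod.natCast_zmod_surjective z
  rw [map_natCast, map_natCast, ← frobenius_def, map_natCast]
  have : ((ZMod.val (n : ZMod p) : ℕ) : ZMod p) = (n : ZMod p) := ZMod.natCast_zmod_val _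
  have h2 := congrArg (ZMod.castHom (dvd_refl p) B) this
  rw [map_natCast, map_natCast] at h2
  exact h2.symm

variable (h : LogChart p S x δ e)

theorem slot_eq (pole : J → ℕ) (hpole : ∀ j, pole j < p) (hpole' : ∀ j, ¬ S j → pole j = 0) (j : J) (b : B) :
    letI := algCp p B
    Slot.slot (bas p h.pbasis) j (model p B S pole j).θ b = θ δ e j b - pole j * b := by
  letI := algCp p B
  letI := zalg p B
  let R : Module.End (Cp B) B :=
    { toFun := fun b => θ δ e j b - pole j * b
      map_add' := fun b c => by rw [map_add, mul_add]; abel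
      map_smul' := fun c b => by
        rw [algCp_smul, θ_pow_mul h, RingHom.id_apply, algCp_smul]
        ring }
  have key : Slot.slot (bas p h.pbasis) j (model p B S pole j).θ = R := by
    refine (bas p h.pbasis).ext fun a => ?_
    have hR : R (bas p h.pbasis a) = θ δ e j (bas p h.pbasis a) - pole j * bas p h.pbasis a := rfl
    rw [hR]
    by_cases hS : S j
    · rw [model, if_pos hS, Slot.log_θ, Slot.slot_diagonal, bas_apply, θ_mon h, if_pos hS, map_sub, sub_smul, zalg_smul, zalg_smul,
        ZMod.val_natCast, Nat.mod_eq_of_lt (hpole j)]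
    · rw [model, if_neg hS, Slot.plain_θ, Slot.slot_mono, bas_apply, bas_apply, θ_mon h, if_neg hS, zalg_smul, hpole' j hS, Nat.cast_zero, zero_mul, sub_zero]
      by_cases ha : a j = 0
      · rw [ha]; simp
      · congr 1
        congr 1
        funext i
        by_cases hij : i = j
        · subst hij
          rw [Function.update_self, Function.update_self]
          have h1 : 1 ≤ (a i).val := Nat.one_le_iff_ne_zero.2 fun h' => ha ((ZMod.val_eq_zero _).1 h')
          rw [ZMod.val_sub]
          · rw [ZMod.val_one]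
          · rw [ZMod.val_one]; exact h1
        · rw [Function.update_of_ne hij, Function.update_of_ne hij]
  exact LinearMap.congr_fun key b

end main

/-! ### Degrees -/

section degree

variable {A B V : Type*} [CommRing A] [CommRing B] [Algebra A B] [AddCommGroup V] [Module A V]

/-- The elements of degree `n` in `B ⊗ Λ_A V`. -/
def gr (A B V : Type*) [CommRing A] [CommRing B] [Algebra A B] [AddCommGroup V] [Module A V] (n : ℕ) :
    AddSubgroup (B ⊗[A] ExteriorAlgebra A V) :=
  AddSubgroup.closure {y | ∃ (b : B) (w : ExteriorAlgebra A V), w ∈ ⋀[A]^n V ∧ y = b ⊗ₜ w}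

theorem tmul_mem_gr {n : ℕ} (b : B) (w : ExteriorAlgebra A V) (hw : w ∈ ⋀[A]^n V) : b ⊗ₜ w ∈ gr A B V n :=
  AddSubgroup.subset_closure ⟨b, w, hw, rfl⟩

theorem gr_induction {n : ℕ} {G : Type*} [AddCommGroup G] (f : B ⊗[A] ExteriorAlgebra A V →+ G) (K : AddSubgroup G)
    (h : ∀ (b : B) (w : ExteriorAlgebra A V), w ∈ ⋀[A]^n V → f (b ⊗ₜ w) ∈ K) (y) (hy : y ∈ gr A B V n) : f y ∈ K := by
  have : gr A B V n ≤ K.comap f := by
    rw [gr, AddSubgroup.closure_le]
    rintro _ ⟨b, w, hw, rfl⟩
    exact h b w hw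
  exact this hy

/-- The operators of degree `-1`. -/
def Gm (A B V : Type*) [CommRing A] [CommRing B] [Algebra A B] [AddCommGroup V] [Module A V] :
    AddSubgroup (Module.End A (B ⊗[A] ExteriorAlgebra A V)) where
  carrier := {T | (∀ n, ∀ y ∈ gr A B V (n + 1), T y ∈ gr A B V n) ∧ ∀ y ∈ gr A B V 0, T y = 0}
  zero_mem' := ⟨fun n y _ => AddSubgroup.zero_mem _, fun y _ => rfl⟩
  add_mem' := fun {T S} hT hS => ⟨fun n y hy => AddSubgroup.add_mem _ (hT.1 n y hy) (hS.1 n y hy), fun y hy => by
    rw [LinearMap.add_apply, hT.2 y hy, hS.2 y hy, add_zero]⟩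
  neg_mem' := fun {T} hT => ⟨fun n y hy => AddSubgroup.neg_mem _ (hT.1 n y hy), fun y hy => by
    rw [LinearMap.neg_apply, hT.2 y hy, neg_zero]⟩

variable {J Q : Type*} [LinearOrder J] [Fintype J] [Fintype Q] [DecidableEq Q]
  (bas : Basis (J → Q) A B) (e : Basis J A V) (m : J → Slot.Model Q A)

theorem Hj_mem (j : J) : Cartier.Hj bas e m j ∈ Gm A B V := by
  refine ⟨fun n y hy => ?_, fun y hy => ?_⟩
  · refine gr_induction (Cartier.Hj bas e m j).toAddMonoidHom (gr A B V n) (fun b w hw => ?_) y hy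
    exact tmul_mem_gr _ _ (Ext.C_mem _ n w hw)
  · refine gr_induction (Cartier.Hj bas e m j).toAddMonoidHom ⊥ (fun b w hw => ?_) y hy
    change Cartier.Hj bas e m j (b ⊗ₜ w) = 0
    rw [Cartier.Hj, TensorProduct.map_tmul, Ext.C_eq_zero _ w hw, tmul_zero]

theorem Pj_mem (j : J) (n : ℕ) (y) (hy : y ∈ gr A B V n) : Cartier.Pj bas e m j y ∈ gr A B V n := by
  refine gr_induction (Cartier.Pj bas e m j).toAddMonoidHom (gr A B V n) (fun b w hw => ?_) y hy
  change Cartier.Pj bas e m j (b ⊗ₜ w) ∈ _
  rw [Cartier.Pj, LinearMap.add_apply, TensorProduct.map_tmul, TensorProduct.map_tmul]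
  refine AddSubgroup.add_mem _ (tmul_mem_gr _ _ ?_) (tmul_mem_gr _ _ ?_)
  · rcases n with _ | n
    · rw [Module.End.mul_apply, Ext.C_eq_zero _ w hw, map_zero]
      exact Submodule.zero_mem _
    · exact Ext.E_mem _ n _ (Ext.C_mem _ n w hw)
  · exact Ext.C_mem _ n _ (Ext.E_mem _ n w hw)

theorem Pj_mul_mem (j : J) (T) (hT : T ∈ Gm A B V) : Cartier.Pj bas e m j * T ∈ Gm A B V := by
  refine ⟨fun n y hy => Pj_mem bas e m j n _ (hT.1 n y hy), fun y hy => ?_⟩
  rw [Module.End.mul_apply, hT.2 y hy, map_zero]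

theorem mem_degree (n : ℕ) (y : ExteriorAlgebra A V) (hy : y ∈ ⋀[A]^n V) :
    ∃ c : Set.powersetCard J n → A, y = ∑ s, c s • e.ExteriorAlgebra s.1 := by
  refine ⟨fun s => (e.exteriorPower n).repr ⟨y, hy⟩ s, ?_⟩
  have := congrArg Subtype.val ((e.exteriorPower n).sum_repr ⟨y, hy⟩)
  refine this.symm.trans ?_
  rw [AddSubmonoidClass.coe_finsetSum]
  refine Finset.sum_congr rfl fun s _ => ?_
  rw [basis_eq_coe_basis]
  rfl

theorem basis_mem_degree (s : Finset J) {n : ℕ} (hs : s.card = n) : e.ExteriorAlgebra s ∈ ⋀[A]^n V := by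
  obtain ⟨k, v, h1, -, -, h2⟩ := Ext.exists_basis_eq e s
  rw [h1]
  have : k = n := h2.trans hs
  subst this
  exact ιMulti_range A k ⟨_, rfl⟩

theorem r_mem (n : ℕ) (y) (hy : y ∈ gr A B V n) : Cartier.r bas e m y ∈ ⋀[A]^n V := by
  refine gr_induction (Cartier.r bas e m).toAddMonoidHom (⋀[A]^n V).toAddSubgroup (fun b w hw => ?_) y hy
  change Cartier.r bas e m (b ⊗ₜ w) ∈ ⋀[A]^n V
  obtain ⟨c, rfl⟩ := mem_degree e n w hw
  rw [tmul_sum, map_sum]
  refine Submodule.sum_mem _ fun s _ => ?_
  rw [tmul_smul, map_smul]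
  refine Submodule.smul_mem _ _ ?_
  rw [← bas.sum_repr b, sum_tmul, map_sum]
  refine Submodule.sum_mem _ fun a _ => ?_
  rw [← smul_tmul', map_smul]
  refine Submodule.smul_mem _ _ ?_
  classical
  rw [Cartier.r_basis]
  split_ifs
  · exact basis_mem_degree e s.1 s.2
  · exact Submodule.zero_mem _

variable {L : Type*} [AddCommGroup L] [Module B L] [Module A L] [IsScalarTower A B L] (f : Basis J B L)

theorem Φ_mem (n : ℕ) (y) (hy : y ∈ gr A B V n) : Iso.Φ e f y ∈ ⋀[B]^n L := by
  refine gr_induction (Iso.Φ e f).toLinearMap.toAddMonoidHom (⋀[B]^n L).toAddSubgroup (fun b w hw => ?_) y hy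
  change Iso.Φ e f (b ⊗ₜ w) ∈ ⋀[B]^n L
  rw [Iso.Φ_tmul]
  refine Submodule.smul_mem _ _ ?_
  obtain ⟨c, rfl⟩ := mem_degree e n w hw
  rw [map_sum]
  refine Submodule.sum_mem _ fun s _ => ?_
  rw [map_smul, Iso.jL_basis, ← algebraMap_smul B]
  exact Submodule.smul_mem _ _ (basis_mem_degree f s.1 s.2)

theorem Φ_symm_basis (b : B) (s : Finset J) :
    (Iso.Φ e f).symm (b • f.ExteriorAlgebra s) = b ⊗ₜ e.ExteriorAlgebra s := by
  rw [LinearEquiv.symm_apply_eq, Iso.Φ_tmul, Iso.jL_basis]

theorem Φ_symm_mem (n : ℕ) (y) (hy : y ∈ ⋀[B]^n L) : (Iso.Φ e f).symm y ∈ gr A B V n := by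
  obtain ⟨c, rfl⟩ := mem_degree f n y hy
  rw [map_sum]
  refine AddSubgroup.sum_mem _ fun s _ => ?_
  rw [Φ_symm_basis]
  exact tmul_mem_gr _ _ (basis_mem_degree e s.1 s.2)

end degree

/-! ### Assembly -/

section assembly

variable (h : LogChart p S x δ e) (pole : J → ℕ)

variable (B L) in
/-- The identification of the exterior algebra of the copy. -/
noncomputable def τ : ExteriorAlgebra (Cp B) (CpM L) →+* ExteriorAlgebra B L :=
  Semi.extR (un B).toRingHom (unM L).toAddMonoidHom (fun _ _ => rfl)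

variable (B L) in
/-- The inverse of `τ`. -/
noncomputable def τ' : ExteriorAlgebra B L →+* ExteriorAlgebra (Cp B) (CpM L) :=
  Semi.extR (un B).symm.toRingHom (unM L).symm.toAddMonoidHom (fun _ _ => rfl)

theorem τ_ι (v : CpM L) : τ B L (ι (Cp B) v) = ι B (unM L v) := Semi.extR_ι _ _ _ _

theorem τ_algebraMap (b : Cp B) : τ B L (algebraMap _ _ b) = algebraMap _ _ (un B b) :=
  Semi.extR_algebraMap _ _ _ _

theorem τ'_ι (v : L) : τ' B L (ι B v) = ι (Cp B) ((unM L).symm v) := Semi.extR_ι _ _ _ _

theorem τ'_algebraMap (b : B) : τ' B L (algebraMap _ _ b) = algebraMap _ _ ((un B).symm b) :=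
  Semi.extR_algebraMap _ _ _ _

theorem τ_τ' (y : ExteriorAlgebra B L) : τ B L (τ' B L y) = y := by
  have : (τ B L).comp (τ' B L) = RingHom.id _ := by
    apply Semi.ringHom_ext
    · intro a
      rw [RingHom.comp_apply, τ'_algebraMap, τ_algebraMap, RingEquiv.apply_symm_apply]
      rfl
    · intro a
      rw [RingHom.comp_apply, τ'_ι, τ_ι, AddEquiv.apply_symm_apply]
      rfl
  exact DFunLike.congr_fun this y

theorem τ'_τ (y : ExteriorAlgebra (Cp B) (CpM L)) : τ' B L (τ B L y) = y := by
  have : (τ' B L).comp (τ B L) = RingHom.id _ := by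
    apply Semi.ringHom_ext
    · intro a
      rw [RingHom.comp_apply, τ_algebraMap, τ'_algebraMap, RingEquiv.symm_apply_apply]
      rfl
    · intro a
      rw [RingHom.comp_apply, τ_ι, τ'_ι, AddEquiv.symm_apply_apply]
      rfl
  exact DFunLike.congr_fun this y

theorem τ_basis (s : Finset J) : τ B L ((eCp e).ExteriorAlgebra s) = e.ExteriorAlgebra s := by
  rw [basis_apply, basis_apply]
  exact Semi.extR_ιMulti _ _ _ _

theorem τ'_basis (s : Finset J) : τ' B L (e.ExteriorAlgebra s) = (eCp e).ExteriorAlgebra s := by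
  rw [← τ_basis, τ'_τ]

theorem τ'_smul (b : B) (y : ExteriorAlgebra B L) : τ' B L (b • y) = (un B).symm b • τ' B L y :=
  Semi.extR_smul _ _ _ _ _

theorem τ_smul (b : Cp B) (y : ExteriorAlgebra (Cp B) (CpM L)) : τ B L (b • y) = un B b • τ B L y :=
  Semi.extR_smul _ _ _ _ _

theorem τ_mem (n : ℕ) (y) (hy : y ∈ ⋀[Cp B]^n (CpM L)) : τ B L y ∈ ⋀[B]^n L := Semi.extR_mem _ _ _ n y hy

open Classical in
theorem mon_w (hpole : ∀ j, pole j < p) (hpole' : ∀ j, ¬ S j → pole j = 0) (s : Finset J) :
    mon x (fun j => (Cartier.w (model p B S pole) s j).val) =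
      mon x pole * ∏ j ∈ s, (if S j then (1 : B) else x j ^ (p - 1)) := by
  letI := zalg p B
  have h1 : (∏ j ∈ s, (if S j then (1 : B) else x j ^ (p - 1))) =
      ∏ j, if j ∈ s then (if S j then (1 : B) else x j ^ (p - 1)) else 1 := by
    rw [Finset.prod_ite_mem, Finset.univ_inter]
  rw [h1, mon, mon, ← Finset.prod_mul_distrib]
  refine Finset.prod_congr rfl fun j _ => ?_
  by_cases hS : S j
  · have : Cartier.w (model p B S pole) s j = (pole j : ZMod p) := by
      rw [Cartier.w, model, if_pos hS, Slot.log_m0, Slot.log_m1]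
      split_ifs <;> rfl
    rw [this, ZMod.val_natCast, Nat.mod_eq_of_lt (hpole j), if_pos hS]
    split_ifs <;> rw [mul_one]
  · rw [if_neg hS, hpole' j hS, pow_zero, one_mul, Cartier.w, model, if_neg hS, Slot.plain_m0, Slot.plain_m1]
    by_cases hj : j ∈ s
    · rw [if_pos hj, if_pos hj]
      congr 1
      obtain ⟨k, hk⟩ : ∃ k, p = k + 1 := ⟨p - 1, (Nat.succ_pred_prime Fact.out).symm⟩
      subst hk
      rw [ZMod.val_neg_one]
      rfl
    · rw [if_neg hj, if_neg hj, ZMod.val_zero, pow_zero]

include h in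
/-- **Local logarithmic Cartier isomorphism** with poles, all degrees. -/
theorem main (hpole : ∀ j, pole j < p) (hpole' : ∀ j, ¬ S j → pole j = 0) :
    ∃ H r : ExteriorAlgebra B L →+ ExteriorAlgebra B L,
      (∀ y, db δ e pole (H y) + H (db δ e pole y) = y - cb p S x e pole (r y)) ∧
      (∀ y, r (cb p S x e pole y) = y) ∧
      (∀ y, r (db δ e pole y) = 0) ∧
      (∀ y, db δ e pole (cb p S x e pole y) = 0) ∧
      (∀ (b : B) y, H (b ^ p • y) = b ^ p • H y) ∧
      (∀ (b : B) y, r (b ^ p • y) = b • r y) ∧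
      (∀ n, ∀ y ∈ ⋀[B]^(n + 1) L, H y ∈ ⋀[B]^n L) ∧
      (∀ y ∈ ⋀[B]^0 L, H y = 0) ∧
      (∀ n, ∀ y ∈ ⋀[B]^n L, r y ∈ ⋀[B]^n L) := by
  letI := algCp p B
  letI := modCp p B L
  haveI : IsScalarTower (Cp B) B L := ⟨fun a b v => by
    rw [algCp_smul, mul_smul]; rfl⟩
  set bs := bas p h.pbasis with hbs
  set e' := eCp e with he'
  set m := model p B S pole with hm
  obtain ⟨H', hG, h1, h2, h3⟩ := Cartier.exists_homotopy bs e' m (Gm (Cp B) B (CpM L)) (Hj_mem bs e' m)
    (Pj_mul_mem bs e' m)
  have hD : ∀ y, Iso.Φ e' e (Cartier.D bs e' m y) = db δ e pole (Iso.Φ e' e y) := by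
    intro y
    rw [Cartier.D]
    refine (Iso.Φ_dd e e' (fun j => Slot.slot bs j (m j).θ) y).trans ?_
    rw [db_apply, d, Iso.dd_apply, Iso.dd_apply, ← Finset.sum_sub_distrib]
    refine Finset.sum_congr rfl fun j _ => ?_
    have hT : (Slot.slot bs j (m j).θ).toAddMonoidHom = θ δ e j - (AddMonoidHom.mulLeft (pole j : B)) := by
      ext b
      exact slot_eq h pole hpole hpole' j b
    rw [hT]
    have h5 : Iso.sharp e (θ δ e j - AddMonoidHom.mulLeft (pole j : B)) (Iso.Φ e' e y) =
        Iso.sharp e (θ δ e j) (Iso.Φ e' e y) - (pole j : B) • Iso.Φ e' e y := by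
      change ∑ s, _ = ∑ s, _ - _
      conv_rhs => rw [← e.ExteriorAlgebra.sum_repr (Iso.Φ e' e y)]
      rw [Finset.smul_sum, ← Finset.sum_sub_distrib]
      refine Finset.sum_congr rfl fun s _ => ?_
      rw [AddMonoidHom.sub_apply, sub_smul, AddMonoidHom.coe_mulLeft, mul_smul, e.ExteriorAlgebra.sum_repr]
    rw [h5, mul_sub, Algebra.mul_smul_comm, Nat.cast_smul_eq_nsmul]
  have hc : ∀ y, Iso.Φ e' e (Cartier.c bs e' m (τ' B L y)) = cb p S x e pole y := by
    intro y
    have : AddMonoidHom.mk' (fun y => Iso.Φ e' e (Cartier.c bs e' m (τ' B L y)))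
        (fun a b => by rw [map_add, map_add, map_add]) = cb p S x e pole := by
      refine Iso.ext_of_basis e fun b s => ?_
      rw [AddMonoidHom.mk'_apply]
      have e1 : τ' B L (b • e.ExteriorAlgebra s) = (un B).symm b • e'.ExteriorAlgebra s := by
        rw [τ'_smul, τ'_basis]
      have e2 : Cartier.c bs e' m ((un B).symm b • e'.ExteriorAlgebra s) =
          (un B).symm b • (bs (Cartier.w m s) ⊗ₜ[Cp B] e'.ExteriorAlgebra s) := by
        rw [map_smul, Cartier.c_basis]
      have e3 : (un B).symm b • (bs (Cartier.w m s) ⊗ₜ[Cp B] e'.ExteriorAlgebra s) =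
          (b ^ p * mon x (fun j => (Cartier.w m s j).val)) ⊗ₜ[Cp B] e'.ExteriorAlgebra s := by
        rw [smul_tmul', algCp_smul, bas_apply]
        rfl
      have e4 : Iso.Φ e' e ((b ^ p * mon x (fun j => (Cartier.w m s j).val)) ⊗ₜ[Cp B] e'.ExteriorAlgebra s) =
          (b ^ p * mon x (fun j => (Cartier.w m s j).val)) • e.ExteriorAlgebra s := by
        rw [Iso.Φ_tmul, Iso.jL_basis]
      rw [e1, e2, e3, e4, cb_smul, cb_apply, c0_basis, mon_w pole hpole hpole', smul_smul, smul_smul]
      rw [mul_assoc]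
    exact DFunLike.congr_fun this y
  refine ⟨AddMonoidHom.mk' (fun y => Iso.Φ e' e (H' ((Iso.Φ e' e).symm y)))
      (fun a b => by rw [map_add, map_add, map_add]),
    AddMonoidHom.mk' (fun y => τ B L (Cartier.r bs e' m ((Iso.Φ e' e).symm y)))
      (fun a b => by rw [map_add, map_add, map_add]), ?_, ?_, ?_, ?_, ?_, ?_, ?_, ?_, ?_⟩
  · intro y
    obtain ⟨z, rfl⟩ := (Iso.Φ e' e).surjective y
    rw [AddMonoidHom.mk'_apply, AddMonoidHom.mk'_apply]
    have hs : (Iso.Φ e' e).symm (Iso.Φ e' e z) = z := LinearEquiv.symm_apply_apply _ _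
    have hs2 : (Iso.Φ e' e).symm (Iso.Φ e' e (Cartier.D bs e' m z)) = Cartier.D bs e' m z :=
      LinearEquiv.symm_apply_apply _ _
    rw [hs, ← hD, ← hD, hs2, ← hc, τ'_τ, ← map_add, h1, map_sub]
  · intro y
    rw [AddMonoidHom.mk'_apply]
    have hs : (Iso.Φ e' e).symm (Iso.Φ e' e (Cartier.c bs e' m (τ' B L y))) = Cartier.c bs e' m (τ' B L y) :=
      LinearEquiv.symm_apply_apply _ _
    rw [← hc, hs, Cartier.r_c, τ_τ']
  · intro y
    obtain ⟨z, rfl⟩ := (Iso.Φ e' e).surjective y
    rw [AddMonoidHom.mk'_apply]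
    have hs2 : (Iso.Φ e' e).symm (Iso.Φ e' e (Cartier.D bs e' m z)) = Cartier.D bs e' m z :=
      LinearEquiv.symm_apply_apply _ _
    rw [← hD, hs2, h2, map_zero]
  · intro y
    rw [← hc, ← hD, h3, map_zero]
  · intro b y
    rw [AddMonoidHom.mk'_apply]
    have e1 : (Iso.Φ e' e).symm (b ^ p • y) = (un B).symm b • (Iso.Φ e' e).symm y := by
      rw [map_smul, ← algebraMap_smul B ((un B).symm b)]
      rfl
    rw [e1, map_smul, ← algebraMap_smul B ((un B).symm b), map_smul]
    rfl
  · intro b y
    rw [AddMonoidHom.mk'_apply]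
    have e1 : (Iso.Φ e' e).symm (b ^ p • y) = (un B).symm b • (Iso.Φ e' e).symm y := by
      rw [map_smul, ← algebraMap_smul B ((un B).symm b)]
      rfl
    rw [e1, map_smul, τ_smul, RingEquiv.apply_symm_apply]
  · intro n y hy
    exact Φ_mem e' e n _ (hG.1 n _ (Φ_symm_mem e' e (n + 1) y hy))
  · intro y hy
    rw [AddMonoidHom.mk'_apply]
    rw [hG.2 _ (Φ_symm_mem e' e 0 y hy), map_zero]
  · intro n y hy
    exact τ_mem n _ (r_mem bs e' m n _ (Φ_symm_mem e' e n y hy))

end assembly

end K904.LocalCartier
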