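import Groth.Agent.DelIll.K904.LogCxL
import Groth.Agent.Vanish.K911.LogModBC
import Groth.Agent.Vanish.K911.Ncd
import Groth.Agent.CohqA.BCPull

/-!
# Base change of logarithmic de Rham complexes
-/

set_option autoImplicit false
set_option linter.unusedSectionVars false

universe u

open CategoryTheory CategoryTheory.Limits AlgebraicGeometry Opposite TopologicalSpace exteriorPower
open Groth.Agent.Sga67.Sec Groth.Agent.Sga67.LocBasis Groth.Agent.Sga67.ExtSheaf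
open Groth.Agent.Krr.H495.ExtPre Groth.Agent.Krr.H495.ExtSemi Groth.Agent.Krr.H487.LocBasisPull

namespace K904.LogCxB

open _root_.K922.DSec _root_.K922.Coord _root_.K922.Chart _root_.K922.LogBasis _root_.K852.DR _root_.K922.Univ
open _root_.K911.LogBC _root_.K911.CoordBC
open _root_.K904.LogCxR _root_.K904.LogCxS _root_.K904.LogCxE _root_.K904.LogCxK _root_.K904.LogCxL

variable {X S X' S' : Scheme.{u}} {f : X ⟶ S} {f' : X' ⟶ S'} {g : X' ⟶ X} {b : S' ⟶ S}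
  {Ω : X.Modules} {d : OmegaSh.Der f Ω} {Ω' : X'.Modules} {d' : OmegaSh.Der f' Ω'} {r : ℕ}
  {D : Fin r → X.IdealSheafData} (Λ : LogNCD.LogMod d D) (Λ' : LogNCD.LogMod d' (fun i => (D i).comap g))

/-- A map of log modules over `g` compatible with the derivations. -/
def IsMap (c : (Scheme.Modules.pullback g).obj Λ.L ⟶ Λ'.L) : Prop :=
  ∀ (U : X.Opens) (a : Γ(X, U)),
    appS c (g ⁻¹ᵁ U) (pbS g Λ.L (δZ Λ U a)) = δZ Λ' (g ⁻¹ᵁ U) (g.app U a)

theorem exists_isMap [Smooth f] (sq : IsPullback g f' f b) (hd : OmegaSh.IsUniversal d)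
    (hd' : OmegaSh.IsUniversal d') (hD : LogNCD.IsNCD D f) :
    ∃ c : (Scheme.Modules.pullback g).obj Λ.L ≅ Λ'.L, IsMap Λ Λ' c.hom := by
  obtain ⟨c, hc⟩ := K911.LogModBC.exists_iso sq hd hd' hD Λ Λ'
  refine ⟨c, fun U a => ?_⟩
  have h1 := hc U (dS d U a)
  rw [tauS_d] at h1
  exact h1

variable (c : (Scheme.Modules.pullback g).obj Λ.L ⟶ Λ'.L)

/-- The map on sections over opens `U' ≤ g⁻¹ U`, semilinear. -/
noncomputable def cL {U : X.Opens} {U' : X'.Opens} (e : U' ≤ g ⁻¹ᵁ U) :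
    Sec Λ.L U →ₛₗ[(g.appLE U U' e).hom] Sec Λ'.L U' where
  toFun s := res Λ'.L e (appS c (g ⁻¹ᵁ U) (pbS g Λ.L s))
  map_add' x y := by
    rw [map_add, map_add, map_add]
  map_smul' a x := by
    rw [pbS_smul, map_smul, res_smul]
    rfl

theorem cL_apply {U : X.Opens} {U' : X'.Opens} (e : U' ≤ g ⁻¹ᵁ U) (s : Sec Λ.L U) :
    cL Λ Λ' c e s = res Λ'.L e (appS c (g ⁻¹ᵁ U) (pbS g Λ.L s)) := rfl

theorem cL_res {U V : X.Opens} {U' V' : X'.Opens} (e : U' ≤ g ⁻¹ᵁ U) (e' : V' ≤ g ⁻¹ᵁ V) (h : V ≤ U)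
    (h' : V' ≤ U') (s : Sec Λ.L U) : cL Λ Λ' c e' (res Λ.L h s) = res Λ'.L h' (cL Λ Λ' c e s) := by
  rw [cL_apply, cL_apply, ← res_pbS g Λ.L h (g.preimage_mono h), appS_res, res_res, res_res]

variable {Λ Λ' c}

theorem cL_δ (hc : IsMap Λ Λ' c) {U : X.Opens} {U' : X'.Opens} (e : U' ≤ g ⁻¹ᵁ U) (a : Γ(X, U)) :
    cL Λ Λ' c e (δZ Λ U a) = δZ Λ' U' (g.appLE U U' e a) := by
  rw [cL_apply, hc U a, δZ_res]
  rfl

theorem DC_comap : DC (fun i => (D i).comap g) = g ⁻¹ᵁ (DC D) := by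
  ext x
  rw [SetLike.mem_coe, mem_DC]
  change _ ↔ g x ∈ DC D
  rw [mem_DC]
  refine forall_congr' fun i => ?_
  rw [Scheme.IdealSheafData.support_comap]
  rfl

section beta

variable (c) {p : ℕ} {T : X.Modules} {T' : X'.Modules} (φ : Phi p Λ.L T) (φ' : Phi p Λ'.L T')

/-- The base change map on exterior powers. -/
noncomputable def beta (U : X.affineOpens) (U' : X'.affineOpens) (e : U'.1 ≤ g ⁻¹ᵁ U.1) : Sec T U.1 →+ Sec T' U'.1 :=
  (φ' U').symm.toLinearMap.toAddMonoidHom.comp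
    ((extS p (cL Λ Λ' c e)).toAddMonoidHom.comp (φ U).toLinearMap.toAddMonoidHom)

theorem beta_apply (U : X.affineOpens) (U' : X'.affineOpens) (e : U'.1 ≤ g ⁻¹ᵁ U.1) (s : Sec T U.1) :
    beta c φ φ' U U' e s = (φ' U').symm (extS p (cL Λ Λ' c e) (φ U s)) := rfl

theorem phi_beta (U : X.affineOpens) (U' : X'.affineOpens) (e : U'.1 ≤ g ⁻¹ᵁ U.1) (s : Sec T U.1) :
    φ' U' (beta c φ φ' U U' e s) = extS p (cL Λ Λ' c e) (φ U s) :=
  (φ' U').apply_symm_apply _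

theorem beta_smul (U : X.affineOpens) (U' : X'.affineOpens) (e : U'.1 ≤ g ⁻¹ᵁ U.1) (a : Γ(X, U.1)) (s : Sec T U.1) :
    beta c φ φ' U U' e (a • s) = (g.appLE U.1 U'.1 e a : Γ(X', U'.1)) • beta c φ φ' U U' e s := by
  apply (φ' U').injective
  have e1 : φ U (a • s) = a • φ U s := map_smul (φ U) a s
  have e2 : φ' U' ((g.appLE U.1 U'.1 e a : Γ(X', U'.1)) • beta c φ φ' U U' e s) =
    (g.appLE U.1 U'.1 e a : Γ(X', U'.1)) • φ' U' (beta c φ φ' U U' e s) := map_smul (φ' U') _ _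
  rw [e2, phi_beta, phi_beta, e1]
  exact (extS p (cL Λ Λ' c e)).map_smulₛₗ a (φ U s)

theorem extS_cL_res {U V : X.Opens} {U' V' : X'.Opens} (e : U' ≤ g ⁻¹ᵁ U) (e' : V' ≤ g ⁻¹ᵁ V) (h : V ≤ U)
    (h' : V' ≤ U') (x : ↥(⋀[Γ(X, U)]^p (Sec Λ.L U))) :
    extS p (cL Λ Λ' c e') (eres p Λ.L h x) = eres p Λ'.L h' (extS p (cL Λ Λ' c e) x) := by
  have hx : x ∈ Submodule.span Γ(X, U) (Set.range (ιMulti Γ(X, U) p (M := Sec Λ.L U))) := by
    rw [ιMulti_span]; trivial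
  induction hx using Submodule.span_induction with
  | mem x hx =>
    obtain ⟨v, rfl⟩ := hx
    rw [eres_ιMulti, extS_ιMulti, extS_ιMulti, eres_ιMulti]
    congr 1
    funext j
    exact cL_res Λ Λ' c e e' h h' (v j)
  | zero =>
    exact (congrArg _ (map_zero (eres p Λ.L h))).trans ((map_zero _).trans
      ((map_zero (eres p Λ'.L h')).symm.trans (congrArg _ (map_zero (extS p (cL Λ Λ' c e))).symm)))
  | add x y _ _ hx hy =>
    exact (congrArg _ (map_add (eres p Λ.L h) x y)).trans ((map_add _ _ _).trans ((congrArg₂ (· + ·) hx hy).trans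
      ((map_add (eres p Λ'.L h') _ _).symm.trans (congrArg _ (map_add (extS p (cL Λ Λ' c e)) x y).symm))))
  | smul a x _ hx =>
    have e1 : eres p Λ.L h (a • x) = resO X h a • eres p Λ.L h x := (eres p Λ.L h).map_smulₛₗ a x
    have e2 : extS p (cL Λ Λ' c e) (a • x) = (g.appLE U U' e a : Γ(X', U')) • extS p (cL Λ Λ' c e) x :=
      (extS p (cL Λ Λ' c e)).map_smulₛₗ a x
    have e3 : eres p Λ'.L h' ((g.appLE U U' e a : Γ(X', U')) • extS p (cL Λ Λ' c e) x) =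
      resO X' h' (g.appLE U U' e a) • eres p Λ'.L h' (extS p (cL Λ Λ' c e) x) :=
      (eres p Λ'.L h').map_smulₛₗ _ _
    have e4 : extS p (cL Λ Λ' c e') (resO X h a • eres p Λ.L h x) =
      (g.appLE V V' e' (resO X h a) : Γ(X', V')) • extS p (cL Λ Λ' c e') (eres p Λ.L h x) :=
      (extS p (cL Λ Λ' c e')).map_smulₛₗ _ _
    have e5 : (g.appLE V V' e' (resO X h a) : Γ(X', V')) = resO X' h' (g.appLE U U' e a) := by
      change (X.presheaf.map (homOfLE h).op ≫ g.appLE V V' e') a =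
        (g.appLE U U' e ≫ X'.presheaf.map (homOfLE h').op) a
      rw [Scheme.Hom.map_appLE, Scheme.Hom.appLE_map]
    exact (congrArg (extS p (cL Λ Λ' c e')) e1).trans (e4.trans ((congrArg₂ (· • ·) e5 hx).trans
      (e3.symm.trans (congrArg (eres p Λ'.L h') e2.symm))))

theorem beta_res (hφ : PhiComp φ) (hφ' : PhiComp φ') (U V : X.affineOpens) (U' V' : X'.affineOpens)
    (e : U'.1 ≤ g ⁻¹ᵁ U.1) (e' : V'.1 ≤ g ⁻¹ᵁ V.1) (h : V.1 ≤ U.1) (h' : V'.1 ≤ U'.1) (s : Sec T U.1) :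
    beta c φ φ' V V' e' (res T h s) = res T' h' (beta c φ φ' U U' e s) := by
  apply (φ' V').injective
  rw [phi_beta, K853.ExtQ.phi_res φ hφ U V h, K853.ExtQ.phi_res φ' hφ' U' V' h', phi_beta]
  exact extS_cL_res c e e' h h' _

end beta

section comm

variable [IsAffine S] [IsAffine S'] (hd : AffUniv d) (hd' : AffUniv d') {p : ℕ} {T T₁ : X.Modules} {T' T₁' : X'.Modules}
  {φ : Phi p Λ.L T} {φ₁ : Phi (p + 1) Λ.L T₁} {φ' : Phi p Λ'.L T'} {φ₁' : Phi (p + 1) Λ'.L T₁'}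

theorem beta_comm_open (hc : IsMap Λ Λ' c) {Φ : Coh.toAb T ⟶ Coh.toAb T₁} (hΦ : IsD hd Λ φ φ₁ Φ)
    {Φ' : Coh.toAb T' ⟶ Coh.toAb T₁'} (hΦ' : IsD hd' Λ' φ' φ₁' Φ') (U : X.affineOpens) (U' : X'.affineOpens)
    (e : U'.1 ≤ g ⁻¹ᵁ U.1) (hU : U.1 ≤ DC D) (s : Sec T U.1) :
    beta c φ₁ φ₁' U U' e (apS Φ U.1 s) = apS Φ' U'.1 (beta c φ φ' U U' e s) := by
  have hU' : U'.1 ≤ DC (fun i => (D i).comap g) := by
    rw [DC_comap]
    exact e.trans (g.preimage_mono hU)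
  apply (φ₁' U').injective
  rw [phi_beta, hΦ' U' hU', hΦ U hU, phi_beta]
  exact isCxMap_comm (span_δZ hd Λ U hU) (dV_rule hd Λ U hU) (dV_rule hd' Λ' U' hU')
    (isCxMap_psi (δ := δZ Λ U.1) (δ' := δZ Λ' U'.1) (cL Λ Λ' c e) (cL_δ hc e)) p (φ U s)

/-- **The base change maps commute with the differentials.** -/
theorem beta_comm [Smooth f'] (hD' : LogNCD.IsNCD (fun i => (D i).comap g) f') (hT₁' : FlatMod.IsFinLocFree T₁')
    (hφ : PhiComp φ) (hφ₁ : PhiComp φ₁) (hφ' : PhiComp φ') (hφ₁' : PhiComp φ₁')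
    (hc : IsMap Λ Λ' c) {Φ : Coh.toAb T ⟶ Coh.toAb T₁} (hΦ : IsD hd Λ φ φ₁ Φ)
    {Φ' : Coh.toAb T' ⟶ Coh.toAb T₁'} (hΦ' : IsD hd' Λ' φ' φ₁' Φ') (U : X.affineOpens) (U' : X'.affineOpens)
    (e : U'.1 ≤ g ⁻¹ᵁ U.1) (s : Sec T U.1) :
    beta c φ₁ φ₁' U U' e (apS Φ U.1 s) = apS Φ' U'.1 (beta c φ φ' U U' e s) := by
  refine sec_ext hD' hT₁' _ _ fun V' hV' hV'D => ?_
  apply eq_of_locally
  intro y hy
  have hyD : g y ∈ DC D := by
    rw [DC_comap] at hV'D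
    exact hV'D hy
  obtain ⟨V, hV, hyV⟩ := K922.Quot.exists_affine_nhd (X := X) (U := U.1 ⊓ DC D) (x := g y)
    ⟨e (hV' hy), hyD⟩
  obtain ⟨W', hW', hyW'⟩ := K922.Quot.exists_affine_nhd (X := X') (U := V'.1 ⊓ g ⁻¹ᵁ V.1) (x := y) ⟨hy, hyV⟩
  refine ⟨W'.1, hW'.trans inf_le_left, hyW', ?_⟩
  have eW : W'.1 ≤ g ⁻¹ᵁ V.1 := hW'.trans inf_le_right
  have hWU : W'.1 ≤ U'.1 := (hW'.trans inf_le_left).trans hV'
  have hVU : V.1 ≤ U.1 := hV.trans inf_le_left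
  rw [res_res, res_res, ← beta_res c φ₁ φ₁' hφ₁ hφ₁' U V U' W' e eW hVU hWU, ← apS_res, ← apS_res,
    ← beta_res c φ φ' hφ hφ' U V U' W' e eW hVU hWU]
  exact beta_comm_open hd hd' hc hΦ hΦ' V W' eW (hV.trans inf_le_right) _

end comm

section bc

open scoped TensorProduct

theorem isBaseChange_of_bijective {A B : Type*} [CommRing A] [CommRing B] [Algebra A B]
    {M N : Type*} [AddCommGroup M] [Module A M] [AddCommGroup N] [Module A N] [Module B N] [IsScalarTower A B N]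
    (f : M →ₗ[A] N) (h : ∀ Φ : B ⊗[A] M →+ N, (∀ b m, Φ (b ⊗ₜ m) = b • f m) → Function.Bijective Φ) :
    IsBaseChange B f := by
  refine h (TensorProduct.lift
    ((Algebra.linearMap B <| Module.End B (M →ₗ[A] N)).flip f |>.restrictScalars A)).toAddMonoidHom ?_
  intro b m
  simp

/-- Exterior powers of a base change of modules. -/
theorem isBaseChange_ext {A B M N T T' : Type*} [CommRing A] [CommRing B] [Algebra A B]
    [AddCommGroup M] [Module A M] [AddCommGroup N] [Module A N] [Module B N] [IsScalarTower A B N]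
    [AddCommGroup T] [Module A T] [AddCommGroup T'] [Module A T'] [Module B T'] [IsScalarTower A B T'] {p : ℕ}
    {k : M →ₗ[A] N} (hk : IsBaseChange B k) (φ : T ≃ₗ[A] ↥(⋀[A]^p M)) (φ' : T' ≃ₗ[B] ↥(⋀[B]^p N))
    (k1 : T →ₗ[A] T') (h : ∀ s, φ' (k1 s) = extS p (Groth.Agent.Dual.H366.ExtLoc.semi (B := B) k) (φ s)) :
    IsBaseChange B k1 := by
  refine isBaseChange_of_bijective k1 fun Φ hΦ => ?_
  let Φ₁ : B ⊗[A] ↥(⋀[A]^p M) →+ ↥(⋀[B]^p N) :=
    φ'.toLinearMap.toAddMonoidHom.comp (Φ.comp (LinearMap.lTensor B φ.symm.toLinearMap).toAddMonoidHom)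
  have h1 : Function.Bijective Φ₁ := by
    apply bijective_lift_extS hk p Φ₁
    intro a x
    change φ' (Φ (a ⊗ₜ φ.symm x)) = _
    rw [hΦ, map_smul, h, LinearEquiv.apply_symm_apply]
  have h2 : (Φ : B ⊗[A] T → T') = φ'.symm ∘ Φ₁ ∘ (LinearEquiv.lTensor B φ) := by
    funext z
    have e2 : (LinearMap.lTensor B φ.symm.toLinearMap) ((LinearEquiv.lTensor B φ) z) = z := by
      induction z with
      | zero => simp
      | add x y hx hy => rw [map_add, map_add, hx, hy]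
      | tmul a s => simp
    change _ = φ'.symm (φ' (Φ (LinearMap.lTensor B φ.symm.toLinearMap ((LinearEquiv.lTensor B φ) z))))
    rw [e2, LinearEquiv.symm_apply_apply]
  rw [h2]
  exact φ'.symm.bijective.comp (h1.comp (LinearEquiv.bijective _))

variable {U : X.affineOpens} {U' : X'.affineOpens} (e : U'.1 ≤ g ⁻¹ᵁ U.1)

/-- Sections of the log module over `U'` are the base change of those over `U`. -/
theorem isBaseChange_cL (c : (Scheme.Modules.pullback g).obj Λ.L ≅ Λ'.L) (hL : Coh.IsQCoh Λ.L) :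
    letI : Algebra Γ(X, U.1) Γ(X', U'.1) := (g.appLE U.1 U'.1 e).hom.toAlgebra
    letI : Module Γ(X, U.1) (Sec Λ'.L U'.1) := Module.compHom _ (g.appLE U.1 U'.1 e).hom
    haveI : IsScalarTower Γ(X, U.1) Γ(X', U'.1) (Sec Λ'.L U'.1) :=
      ⟨fun a b c => by rw [Algebra.smul_def, mul_smul]; rfl⟩
    ∃ k : Sec Λ.L U.1 →ₗ[Γ(X, U.1)] Sec Λ'.L U'.1, IsBaseChange Γ(X', U'.1) k ∧
      ∀ s, k s = cL Λ Λ' c.hom e s := by
  let i1 : Algebra Γ(X, U.1) Γ(X', U'.1) := (g.appLE U.1 U'.1 e).hom.toAlgebra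
  let i2 : Module Γ(X, U.1) (Sec Λ'.L U'.1) := Module.compHom _ (g.appLE U.1 U'.1 e).hom
  have i3 : IsScalarTower Γ(X, U.1) Γ(X', U'.1) (Sec Λ'.L U'.1) :=
      ⟨fun a b c => by rw [Algebra.smul_def, mul_smul]; rfl⟩
  let i4 := Groth.Agent.VarietyB.PullSec.secModule g Λ.L e
  have i5 : IsScalarTower Γ(X, U.1) Γ(X', U'.1) Γ((Scheme.Modules.pullback g).obj Λ.L, U'.1) :=
      ⟨fun a b c => by rw [Algebra.smul_def, mul_smul]; rfl⟩
  have key := Groth.Agent.VarietyB.PullSec.isBaseChange_secₗ g Λ.L e hL U.2 U'.2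
  let ε : Γ((Scheme.Modules.pullback g).obj Λ.L, U'.1) ≃ₗ[Γ(X', U'.1)] Sec Λ'.L U'.1 :=
    { (appS c.hom U'.1) with
      invFun := appS c.inv U'.1
      left_inv := fun s => appS_hom_inv c U'.1 s
      right_inv := fun s => appS_inv_hom c U'.1 s }
  refine ⟨(ε.toLinearMap.restrictScalars Γ(X, U.1)).comp (Groth.Agent.VarietyB.PullSec.secₗ g Λ.L e), ?_, ?_⟩
  · exact (IsBaseChange.iff_of_equiv_comm (f := Groth.Agent.VarietyB.PullSec.secₗ g Λ.L e) (LinearEquiv.refl _ _) ε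
      (LinearMap.ext fun y => rfl)).1 key
  · intro s
    exact appS_res c.hom e (pbS g Λ.L s)

/-- The base change maps on exterior powers are base changes of modules. -/
theorem isBaseChange_beta (c : (Scheme.Modules.pullback g).obj Λ.L ≅ Λ'.L) (hL : Coh.IsQCoh Λ.L) {p : ℕ}
    {T : X.Modules} {T' : X'.Modules} (φ : Phi p Λ.L T) (φ' : Phi p Λ'.L T') :
    letI : Algebra Γ(X, U.1) Γ(X', U'.1) := (g.appLE U.1 U'.1 e).hom.toAlgebra
    letI : Module Γ(X, U.1) (Sec T' U'.1) := Module.compHom _ (g.appLE U.1 U'.1 e).hom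
    haveI : IsScalarTower Γ(X, U.1) Γ(X', U'.1) (Sec T' U'.1) :=
      ⟨fun a b c => by rw [Algebra.smul_def, mul_smul]; rfl⟩
    ∃ k : Sec T U.1 →ₗ[Γ(X, U.1)] Sec T' U'.1, IsBaseChange Γ(X', U'.1) k ∧
      ∀ s, k s = beta c.hom φ φ' U U' e s := by
  let i1 : Algebra Γ(X, U.1) Γ(X', U'.1) := (g.appLE U.1 U'.1 e).hom.toAlgebra
  let i2 : Module Γ(X, U.1) (Sec Λ'.L U'.1) := Module.compHom _ (g.appLE U.1 U'.1 e).hom
  have i3 : IsScalarTower Γ(X, U.1) Γ(X', U'.1) (Sec Λ'.L U'.1) :=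
      ⟨fun a b c => by rw [Algebra.smul_def, mul_smul]; rfl⟩
  let i4 : Module Γ(X, U.1) (Sec T' U'.1) := Module.compHom _ (g.appLE U.1 U'.1 e).hom
  have i5 : IsScalarTower Γ(X, U.1) Γ(X', U'.1) (Sec T' U'.1) :=
      ⟨fun a b c => by rw [Algebra.smul_def, mul_smul]; rfl⟩
  obtain ⟨k, hk, hk'⟩ := isBaseChange_cL e c hL
  have hsemi : Groth.Agent.Dual.H366.ExtLoc.semi (B := Γ(X', U'.1)) k = cL Λ Λ' c.hom e := by
    apply LinearMap.ext
    intro s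
    exact hk' s
  refine ⟨{ toFun := beta c.hom φ φ' U U' e
            map_add' := map_add _
            map_smul' := fun a s => beta_smul c.hom φ φ' U U' e a s }, ?_, fun s => rfl⟩
  apply isBaseChange_ext hk (φ U) (φ' U')
  intro s
  rw [hsemi]
  exact phi_beta c.hom φ φ' U U' e s

end bc

end K904.LogCxB
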