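import Groth.Agent.DelIll.K904.LogCxS

/-!
# Existence of the logarithmic de Rham differential
-/

set_option autoImplicit false
set_option linter.unusedSectionVars false

universe u

open CategoryTheory CategoryTheory.Limits AlgebraicGeometry Opposite TopologicalSpace exteriorPower
open Groth.Agent.Sga67.Sec Groth.Agent.Sga67.LocBasis Groth.Agent.Sga67.ExtSheaf
open Groth.Agent.Krr.H495.ExtPre Groth.Agent.Krr.H495.ExtSemi

namespace K904.LogCxE

open _root_.K922.DSec _root_.K922.Coord _root_.K922.Chart _root_.K922.LogBasis _root_.K852.DR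
open _root_.K904.LogCxR _root_.K904.LogCxS

section semi

variable {A B : Type*} [CommRing A] [CommRing B] {M N : Type*} [AddCommGroup M] [Module A M]
  [AddCommGroup N] [Module B N] {ρ : A →+* B}

theorem extS_wedge1 (g : M →ₛₗ[ρ] N) (p : ℕ) (m : M) (x : ↥(⋀[A]^p M)) :
    extS (p + 1) g (wedge1 p m x) = wedge1 p (g m) (extS p g x) := by
  have hx : x ∈ Submodule.span A (Set.range (ιMulti A p (M := M))) := by rw [ιMulti_span]; trivial
  induction hx using Submodule.span_induction with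
  | mem x hx =>
    obtain ⟨v, rfl⟩ := hx
    rw [wedge1_ιMulti, extS_ιMulti, extS_ιMulti, wedge1_ιMulti]
    congr 1
    funext i
    refine Fin.cases ?_ (fun i => ?_) i <;> rfl
  | zero => simp
  | add x y _ _ hx hy => rw [map_add, map_add, hx, hy, map_add, map_add]
  | smul a x _ hx => rw [map_smul, LinearMap.map_smulₛₗ, hx, LinearMap.map_smulₛₗ, map_smul]

end semi

variable {X S : Scheme.{u}} {f : X ⟶ S} {Ω' : X.Modules} {d : OmegaSh.Der f Ω'} {r : ℕ}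
  {D : Fin r → X.IdealSheafData}

theorem eres_wedge1 (E : X.Modules) {U V : X.Opens} (h : V ≤ U) (p : ℕ) (m : Sec E U)
    (x : ↥(⋀[Γ(X, U)]^p (Sec E U))) :
    eres (p + 1) E h (wedge1 p m x) = wedge1 p (res E h m) (eres p E h x) := by
  rw [eres, eres]
  exact extS_wedge1 (resS E h) p m x

section logform

variable {n : ℕ} (Λ : LogNCD.LogMod d D) {U : X.affineOpens} {c : Chart f D U.1 n}

/-- The basis forms are logarithmic forms off the divisor. -/
theorem isLogForm (B : LogBasis Λ c) (k : Fin n) (V : X.affineOpens) (h : V.1 ≤ U.1) (hV : V.1 ≤ DC D) :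
    IsLogForm (δZ Λ V.1) (res Λ.L h (B.b k)) := by
  by_cases hk : ∃ i, c.e i = some k
  · obtain ⟨i, hi⟩ := hk
    have h1 : IsUnit (resO X h (c.g i)) := by
      rw [← Ideal.span_singleton_eq_top, ← c.ideal i V h]
      exact ideal_eq_top D V hV i
    obtain ⟨u, hu⟩ := h1.exists_left_inv
    refine ⟨u, resO X h (c.g i), Or.inr hu, ?_⟩
    have h2 := congrArg (res Λ.L h) (B.smul_b i k hi)
    rw [res_smul] at h2
    have h3 : res Λ.L h (appS Λ.ι U.1 (dS d U.1 (c.g i))) = δZ Λ V.1 (resO X h (c.g i)) :=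
      δZ_res Λ h (c.g i)
    rw [h3] at h2
    rw [← h2, smul_smul, hu, one_smul]
  · refine ⟨1, resO X h (c.v k), Or.inl rfl, ?_⟩
    rw [one_smul, B.b_none k (fun i hi => hk ⟨i, hi⟩)]
    exact δZ_res Λ h (c.v k)

end logform

section free

/-- The exterior powers of a finite locally free module are finite locally free. -/
theorem isFinLocFree_phi {E L : X.Modules} {p : ℕ} (hE : FlatMod.IsFinLocFree E) (φ : Phi p E L) (hφ : PhiComp φ) :
    FlatMod.IsFinLocFree L := by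
  apply isFinLocFree_of_exists
  intro x
  obtain ⟨W₀, m, hx, b, hb⟩ := (isFinLocFree_iff E).1 hE x
  obtain ⟨W, hW, hxW⟩ := K922.Quot.exists_affine_nhd (X := X) (U := W₀) (x := x) hx
  exact ⟨W.1, _, inferInstance, _, hxW, isLocBasis_extPow φ hφ (hb.restrict hW)⟩

end free

variable [IsAffine S]

/-- The morphism `Φ` is the de Rham differential off the divisor. -/
def IsD (hd : AffUniv d) (Λ : LogNCD.LogMod d D) {p : ℕ} {T T' : X.Modules} (φ : Phi p Λ.L T) (φ' : Phi (p + 1) Λ.L T')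
    (Φ : Coh.toAb T ⟶ Coh.toAb T') : Prop :=
  ∀ (V : X.affineOpens) (hV : V.1 ≤ DC D) (x : Sec T V.1),
    φ' V (apS Φ V.1 x) = dV hd Λ V hV p (φ V x)

variable (hd : AffUniv d) (Λ : LogNCD.LogMod d D) {p : ℕ} {T T' : X.Modules} (φ : Phi p Λ.L T)
  (φ' : Phi (p + 1) Λ.L T')

theorem isD_unique [Smooth f] (hD : LogNCD.IsNCD D f) (hT' : FlatMod.IsFinLocFree T') {Φ Ψ : Coh.toAb T ⟶ Coh.toAb T'}
    (hΦ : IsD hd Λ φ φ' Φ) (hΨ : IsD hd Λ φ φ' Ψ) : Φ = Ψ := by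
  apply homAb_ext hD hT'
  intro V hV x
  apply (φ' V).injective
  rw [hΦ V hV x, hΨ V hV x]

variable {φ φ'}

/-- The defining relation. -/
def Rel (φ : Phi p Λ.L T) (φ' : Phi (p + 1) Λ.L T') (U : X.Opens) (x : Sec T U) (y : Sec T' U) : Prop :=
  ∀ (V : X.affineOpens) (h : V.1 ≤ U) (hV : V.1 ≤ DC D),
    dV hd Λ V hV p (φ V (res T h x)) = φ' V (res T' h y)

theorem rel_res (U V : X.Opens) (h : V ≤ U) (x : Sec T U) (y : Sec T' U) (h1 : Rel hd Λ φ φ' U x y) :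
    Rel hd Λ φ φ' V (res T h x) (res T' h y) := by
  intro W hW hWD
  rw [res_res, res_res]
  exact h1 W _ hWD

theorem rel_loc (hφ : PhiComp φ) (hφ' : PhiComp φ') (U : X.Opens) (x : Sec T U) (y : Sec T' U)
    (h1 : ∀ q ∈ U, ∃ (V : X.Opens) (h : V ≤ U), q ∈ V ∧ Rel hd Λ φ φ' V (res T h x) (res T' h y)) :
    Rel hd Λ φ φ' U x y := by
  intro V h hV
  rw [← LinearEquiv.symm_apply_eq]
  apply eq_of_locally
  intro q hq
  obtain ⟨W, hW, hqW, h2⟩ := h1 q (h hq)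
  obtain ⟨W', hW', hqW'⟩ := K922.Quot.exists_affine_nhd (X := X) (U := V.1 ⊓ W) (x := q) ⟨hq, hqW⟩
  refine ⟨W'.1, hW'.trans inf_le_left, hqW', ?_⟩
  apply (φ' W').injective
  rw [K853.ExtQ.phi_res φ' hφ' V W' (hW'.trans inf_le_left), LinearEquiv.apply_symm_apply,
    dV_res hd Λ hV (hW'.trans inf_le_left), ← K853.ExtQ.phi_res φ hφ V W' (hW'.trans inf_le_left)]
  have h3 := h2 W' (hW'.trans inf_le_right) ((hW'.trans inf_le_left).trans hV)
  rw [res_res, res_res] at h3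
  rw [res_res, res_res]
  exact h3

theorem rel_uniq [Smooth f] (hD : LogNCD.IsNCD D f) (hT' : FlatMod.IsFinLocFree T') (U : X.Opens) (x : Sec T U)
    (y y' : Sec T' U) (h1 : Rel hd Λ φ φ' U x y) (h2 : Rel hd Λ φ φ' U x y') : y = y' := by
  refine sec_ext hD hT' y y' fun V h hV => ?_
  apply (φ' V).injective
  rw [← h1 V h hV, ← h2 V h hV]

theorem rel_add (U : X.Opens) (x x' : Sec T U) (y y' : Sec T' U) (h1 : Rel hd Λ φ φ' U x y)
    (h2 : Rel hd Λ φ φ' U x' y') : Rel hd Λ φ φ' U (x + x') (y + y') := by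
  intro V h hV
  have e1 : res T h (x + x') = res T h x + res T h x' := map_add _ _ _
  have e2 : res T' h (y + y') = res T' h y + res T' h y' := map_add _ _ _
  rw [e1, e2]
  have e3 : φ V (res T h x + res T h x') = φ V (res T h x) + φ V (res T h x') := map_add _ _ _
  have e4 : φ' V (res T' h y + res T' h y') = φ' V (res T' h y) + φ' V (res T' h y') := map_add _ _ _
  rw [e3, e4, map_add, h1 V h hV, h2 V h hV]

theorem eres_wedge1_log {U V : X.affineOpens} (h : V.1 ≤ U.1) (e : Fin p → Sec Λ.L U.1) (a : Γ(X, U.1)) :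
   eres (p + 1) Λ.L h (wedge1 p (δZ Λ U.1 a) (ιMulti Γ(X, U.1) p e)) =
      wedge1 p (δZ Λ V.1 (resO X h a)) (ιMulti Γ(X, V.1) p (fun j => res Λ.L h (e j))) := by
  have h1 := eres_wedge1 Λ.L h p (δZ Λ U.1 a) (ιMulti Γ(X, U.1) p e)
  refine h1.trans ?_
  have h2 := eres_ιMulti p Λ.L h e
  have h3 := δZ_res Λ h a
  exact congrArg₂ (fun x y => wedge1 p x y) h3 h2

theorem eres_smul_log {U V : X.affineOpens} (h : V.1 ≤ U.1) (e : Fin p → Sec Λ.L U.1) (a : Γ(X, U.1)) :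
    eres p Λ.L h (a • ιMulti Γ(X, U.1) p e) = resO X h a • ιMulti Γ(X, V.1) p (fun j => res Λ.L h (e j)) := by
  have h1 : eres p Λ.L h (a • ιMulti Γ(X, U.1) p e) = resO X h a • eres p Λ.L h (ιMulti Γ(X, U.1) p e) :=
    (eres p Λ.L h).map_smulₛₗ _ _
  exact h1.trans (congrArg (resO X h a • ·) (eres_ιMulti p Λ.L h e))

/-- The formula in a family of logarithmic forms. -/
theorem dV_log {U V : X.affineOpens} (h : V.1 ≤ U.1) (hV : V.1 ≤ DC D) {κ : Type} [Fintype κ]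
    (e : κ → Fin p → Sec Λ.L U.1) (he : ∀ k j, IsLogForm (δZ Λ V.1) (res Λ.L h (e k j))) (a : κ → Γ(X, U.1)) :
    dV hd Λ V hV p (eres p Λ.L h (∑ k, a k • ιMulti Γ(X, U.1) p (e k))) =
      eres (p + 1) Λ.L h (∑ k, wedge1 p (δZ Λ U.1 (a k)) (ιMulti Γ(X, U.1) p (e k))) := by
  have e1 : eres p Λ.L h (∑ k, a k • ιMulti Γ(X, U.1) p (e k)) =
    ∑ k, eres p Λ.L h (a k • ιMulti Γ(X, U.1) p (e k)) := map_sum _ _ _
  have e2 : eres (p + 1) Λ.L h (∑ k, wedge1 p (δZ Λ U.1 (a k)) (ιMulti Γ(X, U.1) p (e k))) =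
    ∑ k, eres (p + 1) Λ.L h (wedge1 p (δZ Λ U.1 (a k)) (ιMulti Γ(X, U.1) p (e k))) := map_sum _ _ _
  rw [e1, e2]
  have e3 : dV hd Λ V hV p (∑ k, eres p Λ.L h (a k • ιMulti Γ(X, U.1) p (e k))) =
    ∑ k, dV hd Λ V hV p (eres p Λ.L h (a k • ιMulti Γ(X, U.1) p (e k))) := map_sum _ _ _
  refine e3.trans (Finset.sum_congr rfl fun k _ => ?_)
  rw [eres_smul_log, eres_wedge1_log]
  exact d_smul_ιMulti_log (span_δZ hd Λ V hV) (dV_rule hd Λ V hV) p _ (fun j => he k j) _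

theorem rel_ex_aux (hφ : PhiComp φ) (hφ' : PhiComp φ') (W : X.affineOpens) {κ : Type} [Fintype κ]
    (e : κ → Fin p → Sec Λ.L W.1)
    (he : ∀ (V : X.affineOpens) (h : V.1 ≤ W.1), V.1 ≤ DC D → ∀ k j, IsLogForm (δZ Λ V.1) (res Λ.L h (e k j)))
    (hb : IsLocBasis (M := T) fun k => (φ W).symm (ιMulti Γ(X, W.1) p (e k))) (x : Sec T W.1) :
    ∃ y, Rel hd Λ φ φ' W.1 x y := by
  obtain ⟨a, ha⟩ := (hb W.1 le_rfl).2 x
  have ha' : φ W x = ∑ k, a k • ιMulti Γ(X, W.1) p (e k) := by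
    rw [← ha, comb_apply]
    have e1 : φ W (∑ k, a k • res T le_rfl ((φ W).symm (ιMulti Γ(X, W.1) p (e k)))) =
      ∑ k, φ W (a k • res T le_rfl ((φ W).symm (ιMulti Γ(X, W.1) p (e k)))) := map_sum _ _ _
    refine e1.trans (Finset.sum_congr rfl fun k _ => ?_)
    rw [res_self]
    exact (map_smul (φ W) _ _).trans (congrArg (a k • ·) ((φ W).apply_symm_apply _))
  refine ⟨(φ' W).symm (∑ k, wedge1 p (δZ Λ W.1 (a k)) (ιMulti Γ(X, W.1) p (e k))), ?_⟩
  intro V h hV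
  have e2 := K853.ExtQ.phi_res φ hφ W V h x
  have e3 := K853.ExtQ.phi_res φ' hφ' W V h
    ((φ' W).symm (∑ k, wedge1 p (δZ Λ W.1 (a k)) (ιMulti Γ(X, W.1) p (e k))))
  rw [LinearEquiv.apply_symm_apply] at e3
  rw [ha'] at e2
  exact (congrArg (dV hd Λ V hV p) e2).trans ((dV_log hd Λ h hV e (he V h hV) a).trans e3.symm)

theorem rel_ex [Smooth f] (hD : LogNCD.IsNCD D f) (hφ : PhiComp φ) (hφ' : PhiComp φ') (U : X.Opens) (x : Sec T U)
    (q : X) (hq : q ∈ U) :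
    ∃ (V : X.Opens) (h : V ≤ U), q ∈ V ∧ ∃ y, Rel hd Λ φ φ' V (res T h x) y := by
  obtain ⟨W, n, c, B, hqW, hW⟩ := exists_logChart hd hD Λ hq
  exact ⟨W.1, hW, hqW, rel_ex_aux hd Λ hφ hφ' W
    (fun (I : Set.powersetCard (Fin n) p) j => B.b (Set.powersetCard.ofFinEmbEquiv.symm I j))
    (fun V h hV I j => isLogForm Λ B _ V h hV) (isLocBasis_extPow φ hφ B.isLocBasis) _⟩

theorem exists_isD [Smooth f] (hD : LogNCD.IsNCD D f) (hT' : FlatMod.IsFinLocFree T') (hφ : PhiComp φ)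
    (hφ' : PhiComp φ') : ∃ Φ : Coh.toAb T ⟶ Coh.toAb T', IsD hd Λ φ φ' Φ := by
  obtain ⟨Φ, hΦ⟩ := exists_homAb_of_rel (F := T) (G := T') (Rel hd Λ φ φ') (rel_uniq hd Λ hD hT')
    (rel_res hd Λ) (rel_loc hd Λ hφ hφ') (rel_ex hd Λ hD hφ hφ') (rel_add hd Λ)
  refine ⟨Φ, fun V hV x => ?_⟩
  have := hΦ V.1 x V le_rfl hV
  rw [res_self, res_self] at this
  exact this.symm

end K904.LogCxE
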