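import Groth.Agent.DelIll.K904.LogCxE
import Groth.Agent.PerfA.QCohEpi
import Groth.Agent.DeRhamSh.K853.CxAff
import Groth.Prelude.Def_DeRham2

/-!
# Existence of the logarithmic de Rham complex
-/

set_option autoImplicit false
set_option linter.unusedSectionVars false

universe u

open CategoryTheory CategoryTheory.Limits AlgebraicGeometry Opposite TopologicalSpace exteriorPower
open Groth.Agent.Sga67.Sec Groth.Agent.Sga67.LocBasis Groth.Agent.Sga67.ExtSheaf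
open Groth.Agent.Krr.H495.ExtPre Groth.Agent.Krr.H495.ExtSemi

namespace K904.LogCxK

open _root_.K922.DSec _root_.K922.Coord _root_.K922.Chart _root_.K922.LogBasis _root_.K852.DR
open _root_.K904.LogCxR _root_.K904.LogCxS _root_.K904.LogCxE

variable {X S : Scheme.{u}} {f : X ⟶ S} {Ω' : X.Modules} {d : OmegaSh.Der f Ω'} {r : ℕ}
  {D : Fin r → X.IdealSheafData} (hd : AffUniv d) (Λ : LogNCD.LogMod d D)

/-- Restriction of generators. -/
theorem eres_gen (p : ℕ) {U V : X.Opens} (h : V ≤ U) (b₀ : Γ(X, U)) (b : Fin p → Γ(X, U)) :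
    eres p Λ.L h (DeRham.gen (δZ Λ U) p b₀ b) =
      DeRham.gen (δZ Λ V) p (resO X h b₀) (fun i => resO X h (b i)) := by
  have h1 : eres p Λ.L h (b₀ • ιMulti Γ(X, U) p (fun i => δZ Λ U (b i))) =
      resO X h b₀ • eres p Λ.L h (ιMulti Γ(X, U) p (fun i => δZ Λ U (b i))) := (eres p Λ.L h).map_smulₛₗ _ _
  refine h1.trans (congrArg (resO X h b₀ • ·) ((eres_ιMulti p Λ.L h _).trans ?_))
  congr 1
  funext i
  exact δZ_res Λ h (b i)

theorem eres_cons (p : ℕ) {U V : X.Opens} (h : V ≤ U) (b₀ : Γ(X, U)) (b : Fin p → Γ(X, U)) :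
    eres (p + 1) Λ.L h (ιMulti Γ(X, U) (p + 1) (Fin.cons (δZ Λ U b₀) (fun i => δZ Λ U (b i)))) =
      ιMulti Γ(X, V) (p + 1) (Fin.cons (δZ Λ V (resO X h b₀)) (fun i => δZ Λ V (resO X h (b i)))) := by
  refine (eres_ιMulti (p + 1) Λ.L h _).trans ?_
  congr 1
  funext i
  refine Fin.cases ?_ (fun i => ?_) i
  · exact δZ_res Λ h b₀
  · exact δZ_res Λ h (b i)

variable [IsAffine S] {p : ℕ} {T T' T'' : X.Modules} {φ : Phi p Λ.L T}
  {φ' : Phi (p + 1) Λ.L T'} {φ'' : Phi (p + 1 + 1) Λ.L T''}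

/-- The rule on every affine open. -/
theorem isD_rule [Smooth f] (hD : LogNCD.IsNCD D f) (hT' : FlatMod.IsFinLocFree T') (hφ : PhiComp φ)
    (hφ' : PhiComp φ') {Φ : Coh.toAb T ⟶ Coh.toAb T'} (hΦ : IsD hd Λ φ φ' Φ) (U : X.affineOpens) (b₀ : Γ(X, U.1))
    (b : Fin p → Γ(X, U.1)) :
    apS Φ U.1 ((φ U).symm (b₀ • ιMulti Γ(X, U.1) p (fun i => δZ Λ U.1 (b i)))) =
      (φ' U).symm (ιMulti Γ(X, U.1) (p + 1) (Fin.cons (δZ Λ U.1 b₀) (fun i => δZ Λ U.1 (b i)))) := by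
  refine sec_ext hD hT' _ _ fun V h hV => ?_
  apply (φ' V).injective
  rw [← apS_res, hΦ V hV]
  have e1 := K853.ExtQ.phi_res φ hφ U V h ((φ U).symm (b₀ • ιMulti Γ(X, U.1) p (fun i => δZ Λ U.1 (b i))))
  have e2 := K853.ExtQ.phi_res φ' hφ' U V h
    ((φ' U).symm (ιMulti Γ(X, U.1) (p + 1) (Fin.cons (δZ Λ U.1 b₀) (fun i => δZ Λ U.1 (b i)))))
  rw [LinearEquiv.apply_symm_apply] at e1 e2
  exact (congrArg (dV hd Λ V hV p) (e1.trans (eres_gen Λ p h b₀ b))).trans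
    ((dV_rule hd Λ V hV p _ _).trans ((eres_cons Λ p h b₀ b).symm.trans e2.symm))

/-- The differentials compose to zero. -/
theorem isD_comp [Smooth f] (hD : LogNCD.IsNCD D f) (hT'' : FlatMod.IsFinLocFree T'')
    {Φ : Coh.toAb T ⟶ Coh.toAb T'} (hΦ : IsD hd Λ φ φ' Φ) {Φ' : Coh.toAb T' ⟶ Coh.toAb T''}
    (hΦ' : IsD hd Λ φ' φ'' Φ') : Φ ≫ Φ' = 0 := by
  apply homAb_ext hD hT''
  intro V hV x
  apply (φ'' V).injective
  have e1 : apS (Φ ≫ Φ') V.1 x = apS Φ' V.1 (apS Φ V.1 x) := rfl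
  have e2 : apS (0 : Coh.toAb T ⟶ Coh.toAb T'') V.1 x = 0 := rfl
  have e3 : φ'' V 0 = 0 := map_zero (φ'' V)
  rw [e1, e2, e3, hΦ' V hV, hΦ V hV]
  exact d_d (span_δZ hd Λ V hV) (dV_rule hd Λ V hV) p _

/-- Conversely the rule off the divisor suffices. -/
theorem isD_of_rule (Φ : Coh.toAb T ⟶ Coh.toAb T')
    (h : ∀ (V : X.affineOpens) (_ : V.1 ≤ DC D) (b₀ : Γ(X, V.1)) (b : Fin p → Γ(X, V.1)),
      apS Φ V.1 ((φ V).symm (b₀ • ιMulti Γ(X, V.1) p (fun i => δZ Λ V.1 (b i)))) =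
      (φ' V).symm (ιMulti Γ(X, V.1) (p + 1) (Fin.cons (δZ Λ V.1 b₀) (fun i => δZ Λ V.1 (b i))))) :
    IsD hd Λ φ φ' Φ := by
  intro V hV x
  have key := gen_ext (δZ Λ V.1) (span_δZ hd Λ V hV) p
    ((φ' V).toLinearMap.toAddMonoidHom.comp ((apS Φ V.1).comp (φ V).symm.toLinearMap.toAddMonoidHom))
    (dV hd Λ V hV p).toAddMonoidHom (fun b₀ b => by
      have h1 := congrArg (φ' V) (h V hV b₀ b)
      rw [LinearEquiv.apply_symm_apply] at h1
      exact h1.trans (dV_rule hd Λ V hV p b₀ b).symm)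
  have h2 := DFunLike.congr_fun key (φ V x)
  have h3 : φ' V (apS Φ V.1 ((φ V).symm (φ V x))) = dV hd Λ V hV p (φ V x) := h2
  rwa [LinearEquiv.symm_apply_apply] at h3

section construct

variable {T : ℕ → X.Modules} (φ : ∀ p, Phi p Λ.L (T p)) (hφ : ∀ p, PhiComp (φ p))

include hd hφ in
/-- The logarithmic de Rham complex on given exterior powers. -/
theorem nonempty_cx_of [Smooth f] (hD : LogNCD.IsNCD D f) :
    ∃ K : DeRhamSh.Cx f Λ.L (LogNCD.der Λ), K.term = T := by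
  have hT : ∀ p, FlatMod.IsFinLocFree (T p) := fun p => isFinLocFree_phi (isFinLocFree hd hD Λ) (φ p) (hφ p)
  choose Φ hΦ using fun p => exists_isD (φ := φ p) (φ' := φ (p + 1)) hd Λ hD (hT (p + 1)) (hφ p) (hφ (p + 1))
  have hcomp : ∀ p, Φ p ≫ Φ (p + 1) = 0 := fun p => isD_comp hd Λ hD (hT (p + 2)) (hΦ p) (hΦ (p + 1))
  refine ⟨{ K := CochainComplex.of (fun p => Coh.toAb (T p)) Φ hcomp
            term := T
            iso := fun p => Iso.refl _
            loc := fun p => φ p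
            loc_res := fun p => hφ p
            rule := ?_ }, rfl⟩
  intro p U b₀ b
  have e : (CochainComplex.of (fun p => Coh.toAb (T p)) Φ hcomp).d p (p + 1) = Φ p :=
    CochainComplex.of_d (fun p => Coh.toAb (T p)) Φ p
  exact (congrArg (fun g : Coh.toAb (T p) ⟶ Coh.toAb (T (p + 1)) =>
    apS g U.1 ((φ p U).symm (b₀ • ιMulti Γ(X, U.1) p (fun i => δZ Λ U.1 (b i))))) e).trans
    (isD_rule hd Λ hD (hT (p + 1)) (hφ p) (hφ (p + 1)) (hΦ p) U b₀ b)

include hd in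
/-- **(LC1) Existence of the logarithmic de Rham complex.** -/
theorem nonempty_cx [Smooth f] (hD : LogNCD.IsNCD D f) : Nonempty (DeRhamSh.Cx f Λ.L (LogNCD.der Λ)) := by
  have hq : Coh.IsQCoh Λ.L :=
    Groth.Agent.PerfA.QCohEpi.isQCoh_of_isFinLocFree (isFinLocFree hd hD Λ)
  choose T hT using fun p => Groth.Agent.Dual.H366.ExtQCoh.exists_isExtPow p hq
  choose φ hφ using fun p => exists_phi (hT p)
  obtain ⟨K, -⟩ := nonempty_cx_of hd Λ φ hφ hD
  exact ⟨K⟩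

end construct

section linear

variable (K : DeRhamSh.Cx f Λ.L (LogNCD.der Λ))

/-- The identifications of a de Rham complex. -/
noncomputable def kφ (p : ℕ) : Phi p Λ.L (K.term p) := K.loc p

theorem kφ_comp (p : ℕ) : PhiComp (kφ Λ K p) := K.loc_res p

/-- The differential of a de Rham complex between the terms. -/
noncomputable def kd (p : ℕ) : Coh.toAb (K.term p) ⟶ Coh.toAb (K.term (p + 1)) :=
  (K.iso p).inv ≫ K.K.d p (p + 1) ≫ (K.iso (p + 1)).hom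

theorem isD_kd (p : ℕ) : IsD hd Λ (kφ Λ K p) (kφ Λ K (p + 1)) (kd Λ K p) := by
  apply isD_of_rule hd Λ
  intro V _ b₀ b
  exact K853.CxAff.dSec_rule K V p b₀ b

end linear

end K904.LogCxK
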