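import Groth.Agent.DeRham.K852.Maps
import Groth.Agent.DeRhamSh.K853.ExistD

/-!
# De Rham families over `ℤ`: closed logarithmic forms, existence, compatibility with semilinear maps
-/

set_option autoImplicit false
set_option linter.unusedSectionVars false

universe u v w

open exteriorPower
open scoped TensorProduct

namespace K904.LogCxR

open _root_.K852.DR Groth.Agent.Krr.H495.ExtSemi

section closed

variable {A M : Type u} [CommRing A] [AddCommGroup M] [Module A M]

/-- A derivation over `ℤ` from an additive Leibniz map. -/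
def derZ (δ : A →+ M) (leib : ∀ a b, δ (a * b) = a • δ b + b • δ a) : Derivation ℤ A M :=
  Derivation.mk' δ.toIntLinearMap leib

@[simp]
theorem derZ_apply (δ : A →+ M) (leib : ∀ a b, δ (a * b) = a • δ b + b • δ a) (a : A) : derZ δ leib a = δ a := rfl

variable {δ : Derivation ℤ A M} {d : ∀ p : ℕ, ↥(⋀[A]^p M) →ₗ[ℤ] ↥(⋀[A]^(p + 1) M)}

/-- `v = u δw` with `u = 1` or `u w = 1`. -/
def IsLogForm (δ : Derivation ℤ A M) (v : M) : Prop := ∃ u w : A, (u = 1 ∨ u * w = 1) ∧ v = u • δ w

theorem d_wedge_log (hgen : Submodule.span A (Set.range δ) = ⊤) (hd : DeRham.IsRule δ d) (p : ℕ) {v : M}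
    (hv : IsLogForm δ v) (x : ↥(⋀[A]^p M)) : d (p + 1) (wedge1 p v x) = - wedge1 (p + 1) v (d p x) := by
  obtain ⟨u, w, h, rfl⟩ := hv
  rw [map_smul, LinearMap.smul_apply, d_smul hgen hd, d_wedge1 hgen hd, map_smul, LinearMap.smul_apply, smul_neg]
  rcases h with rfl | h
  · rw [Derivation.map_one_eq_zero, map_zero, LinearMap.zero_apply, zero_add]
  · have h1 : δ u = -(u * u) • δ w := by
      have h2 : u • δ (u * w) = 0 := by rw [h, Derivation.map_one_eq_zero, smul_zero]
      rw [Derivation.leibniz, smul_add, smul_smul, smul_smul, h, one_smul] at h2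
      rw [neg_smul]
      exact eq_neg_of_add_eq_zero_right h2
    rw [h1, map_smul, LinearMap.smul_apply, wedge1_self, smul_zero, zero_add]

/-- Products of logarithmic forms are closed. -/
theorem d_ιMulti_log (hgen : Submodule.span A (Set.range δ) = ⊤) (hd : DeRham.IsRule δ d) (p : ℕ) (v : Fin p → M)
    (hv : ∀ i, IsLogForm δ (v i)) : d p (ιMulti A p v) = 0 := by
  induction p with
  | zero =>
    have h1 : ιMulti A 0 v = DeRham.gen δ 0 1 (Fin.elim0) := by
      rw [DeRham.gen, one_smul]
      congr 1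
      funext i
      exact i.elim0
    rw [h1, d_gen hd, Derivation.map_one_eq_zero, map_zero, LinearMap.zero_apply]
  | succ p ih =>
    rw [ιMulti_succ, d_wedge_log hgen hd p (hv 0), ih _ (fun i => hv i.succ), map_zero, neg_zero]

theorem d_smul_ιMulti_log (hgen : Submodule.span A (Set.range δ) = ⊤) (hd : DeRham.IsRule δ d) (p : ℕ) (v : Fin p → M)
    (hv : ∀ i, IsLogForm δ (v i)) (a : A) : d p (a • ιMulti A p v) = wedge1 p (δ a) (ιMulti A p v) := by
  rw [d_smul hgen hd, d_ιMulti_log hgen hd p v hv, smul_zero, add_zero]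

end closed

section exist

variable {A M : Type u} [CommRing A] [AddCommGroup M] [Module A M] {δ : Derivation ℤ A M}

theorem map_wedge1 {N : Type*} [AddCommGroup N] [Module A N] (f : M →ₗ[A] N) (p : ℕ) (m : M) (x : ↥(⋀[A]^p M)) :
    exteriorPower.map (p + 1) f (wedge1 p m x) = wedge1 p (f m) (exteriorPower.map p f x) := by
  have hx : x ∈ Submodule.span A (Set.range (ιMulti A p (M := M))) := by rw [ιMulti_span]; trivial
  induction hx using Submodule.span_induction with
  | mem x hx =>
    obtain ⟨v, rfl⟩ := hx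
    rw [wedge1_ιMulti, map_apply_ιMulti, map_apply_ιMulti, wedge1_ιMulti]
    congr 1
    funext i
    refine Fin.cases ?_ (fun i => ?_) i <;> rfl
  | zero => simp
  | add x y _ _ hx hy => rw [map_add, map_add, hx, hy, map_add, map_add]
  | smul a x _ hx => rw [map_smul, map_smul, hx, map_smul, map_smul]

/-- Existence of the de Rham family from an identification with Kähler differentials. -/
theorem exists_rule {A₀ : Type v} [CommRing A₀] [Algebra A₀ A] (ε : Ω[A⁄A₀] ≃ₗ[A] M)
    (hε : ∀ a, ε (KaehlerDifferential.D A₀ A a) = δ a) :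
    ∃ d : ∀ p : ℕ, ↥(⋀[A]^p M) →ₗ[ℤ] ↥(⋀[A]^(p + 1) M), DeRham.IsRule δ d := by
  obtain ⟨d₀, hd₀, -⟩ := K853.ExistD.exists_isDiff A₀ A
  refine ⟨fun p => ((exteriorPower.map (p + 1) ε.toLinearMap).toAddMonoidHom.comp
    ((d₀ p).toAddMonoidHom.comp (exteriorPower.map p ε.symm.toLinearMap).toAddMonoidHom)).toIntLinearMap, ?_⟩
  intro p b₀ b
  have h1 : exteriorPower.map p ε.symm.toLinearMap (DeRham.gen δ p b₀ b) =
      DeRham.gen (KaehlerDifferential.D A₀ A) p b₀ b := by
    rw [DeRham.gen, DeRham.gen, map_smul, map_apply_ιMulti]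
    congr 2
    funext i
    rw [Function.comp_apply, ← hε]
    exact ε.symm_apply_apply _
  change exteriorPower.map (p + 1) ε.toLinearMap (d₀ p (exteriorPower.map p ε.symm.toLinearMap _)) = _
  rw [h1, hd₀ p b₀ b, map_apply_ιMulti]
  congr 1
  funext i
  refine Fin.cases ?_ (fun i => ?_) i
  · exact hε b₀
  · exact hε (b i)

end exist

end K904.LogCxR
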