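import Groth.Agent.DelIll.K904.LogCxR
import Groth.Agent.LogNCD.K922.Univ
import Groth.Agent.LogNCD.K913.TermLoc
import Groth.Agent.CurvesC.HomRel
import Groth.Agent.Fga.PicTanSheaf
import Groth.Agent.DeRhamSh.K853.ExtQ
import Groth.Agent.Dual.H366.ExtQCoh

/-!
# Morphisms of abelian sheaves from local relations; sections supported on a normal crossing divisor vanish
-/

set_option autoImplicit false
set_option linter.unusedSectionVars false

universe u

open CategoryTheory CategoryTheory.Limits AlgebraicGeometry Opposite TopologicalSpace exteriorPower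
open Groth.Agent.Sga67.Sec Groth.Agent.Sga67.LocBasis Groth.Agent.Sga67.ExtSheaf
open Groth.Agent.Krr.H495.ExtPre

namespace K904.LogCxS

open _root_.K922.DSec _root_.K922.Coord _root_.K922.Chart _root_.K922.LogBasis _root_.K852.DR _root_.K904.LogCxR

section rel

open Groth.Agent.Fga.PicTanSheaf (mk ap)

variable {X : Scheme.{u}}

/-- A morphism of the underlying abelian sheaves on sections. -/
noncomputable def apS {F G : X.Modules} (Φ : Coh.toAb F ⟶ Coh.toAb G) (U : X.Opens) : Sec F U →+ Sec G U :=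
  ap Φ U

theorem apS_res {F G : X.Modules} (Φ : Coh.toAb F ⟶ Coh.toAb G) {U V : X.Opens} (h : V ≤ U) (x : Sec F U) :
    apS Φ V (res F h x) = res G h (apS Φ U x) :=
  Groth.Agent.Fga.PicTanSheaf.ap_rs Φ h x

/-- Construction of a morphism of abelian sheaves from a local relation. -/
theorem exists_homAb_of_rel {F G : X.Modules} (R : ∀ U : X.Opens, Sec F U → Sec G U → Prop)
    (huniq : ∀ U x y y', R U x y → R U x y' → y = y')
    (hres : ∀ (U V : X.Opens) (h : V ≤ U) x y, R U x y → R V (res F h x) (res G h y))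
    (hloc : ∀ (U : X.Opens) x y,
      (∀ p ∈ U, ∃ (V : X.Opens) (h : V ≤ U), p ∈ V ∧ R V (res F h x) (res G h y)) → R U x y)
    (hex : ∀ (U : X.Opens) (x : Sec F U), ∀ p ∈ U, ∃ (V : X.Opens) (h : V ≤ U), p ∈ V ∧ ∃ y, R V (res F h x) y)
    (hadd : ∀ U x x' y y', R U x y → R U x' y' → R U (x + x') (y + y')) :
    ∃ Φ : Coh.toAb F ⟶ Coh.toAb G, ∀ (U : X.Opens) (x : Sec F U), R U x (apS Φ U x) := by
  have key : ∀ (U : X.Opens) (x : Sec F U), ∃ y, R U x y := by
    intro U x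
    choose V hV hp y hy using hex U x
    obtain ⟨t, ht⟩ := Groth.Agent.Ega1.SubSheaf.exists_glue G (U := U) (fun p : U => V p.1 p.2)
      (fun p => hV p.1 p.2) (fun p hp' => ⟨⟨p, hp'⟩, hp p hp'⟩) (fun p => y p.1 p.2) (by
        intro i j
        refine huniq _ (res F (inf_le_left.trans (hV i.1 i.2)) x) _ _ ?_ ?_
        · have := hres _ _ (inf_le_left : V i.1 i.2 ⊓ V j.1 j.2 ≤ V i.1 i.2) _ _ (hy i.1 i.2)
          rwa [res_res] at this
        · have := hres _ _ (inf_le_right : V i.1 i.2 ⊓ V j.1 j.2 ≤ V j.1 j.2) _ _ (hy j.1 j.2)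
          rwa [res_res] at this)
    refine ⟨t, hloc U x t fun p hp' => ⟨V p hp', hV p hp', hp p hp', ?_⟩⟩
    have h1 : res G (hV p hp') t = y p hp' := ht ⟨p, hp'⟩
    rw [h1]
    exact hy p hp'
  choose g hg using key
  refine ⟨mk (fun U => AddMonoidHom.mk' (g U) fun a b => ?_) ?_, fun U x => hg U x⟩
  · exact huniq U _ _ _ (hg U _) (hadd U _ _ _ _ (hg U a) (hg U b))
  · intro U V h s
    exact huniq V _ _ _ (hg V _) (hres U V h _ _ (hg U s))

end rel

section complement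

variable {X S : Scheme.{u}} {r : ℕ}

/-- The complement of the divisor. -/
def DC (D : Fin r → X.IdealSheafData) : X.Opens :=
  ⟨(⋃ i, ((D i).support : Set X))ᶜ, (isClosed_iUnion_of_finite fun i => (D i).support.isClosed).isOpen_compl⟩

theorem mem_DC (D : Fin r → X.IdealSheafData) (x : X) : x ∈ DC D ↔ ∀ i, x ∉ (D i).support := by
  change x ∈ (⋃ i, ((D i).support : Set X))ᶜ ↔ _
  simp

theorem ideal_eq_top (D : Fin r → X.IdealSheafData) (V : X.affineOpens) (hV : V.1 ≤ DC D) (i : Fin r) :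
    (D i).ideal V = ⊤ :=
  ideal_eq_top_of_disjoint (D i) V fun x hx => (mem_DC D x).1 (hV hx) i

variable {f : X ⟶ S} {D : Fin r → X.IdealSheafData} {n : ℕ}

/-- The product of the equations is invertible on the complement of the divisor. -/
theorem basicOpen_prod_le {U : X.affineOpens} (c : Chart f D U.1 n) : X.basicOpen (∏ i, c.g i) ≤ DC D := by
  intro x hx
  rw [mem_DC]
  intro i hi
  have hxU : x ∈ U.1 := X.basicOpen_le _ hx
  have h1 := c.ideal i U le_rfl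
  rw [resO_self] at h1
  refine (mem_support_iff_span (D i) U (c.g i) h1 x hxU).1 hi ?_
  classical
  rw [← Finset.mul_prod_erase Finset.univ c.g (Finset.mem_univ i), Scheme.basicOpen_mul] at hx
  exact hx.1

/-- Sections of a locally free module vanishing off the divisor vanish. -/
theorem sec_eq_zero [Smooth f] (hD : LogNCD.IsNCD D f) {M : X.Modules} (hM : FlatMod.IsFinLocFree M) {U : X.Opens}
    (x : Sec M U) (hx : ∀ (V : X.affineOpens) (h : V.1 ≤ U), V.1 ≤ DC D → res M h x = 0) : x = 0 := by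
  apply eq_of_locally
  intro p hp
  obtain ⟨W₀, m, hpW₀, b, hb⟩ := (isFinLocFree_iff M).1 hM p
  obtain ⟨W, n, c, hpW, hW⟩ := exists_chart (f := f) hD (O := U ⊓ W₀) (x := p) ⟨hp, hpW₀⟩
  refine ⟨W.1, hW.trans inf_le_left, hpW, ?_⟩
  rw [map_zero]
  have h1 := K913.TermLoc.res_injective (M := M) (X.basicOpen_le (∏ i, c.g i))
    (hb.restrict (hW.trans inf_le_right)) (K913.TermLoc.resO_basicOpen_injective W (∏ i, c.g i)
      (c.isReg_prod.mem_nonZeroDivisors))
  apply h1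
  rw [map_zero, res_res]
  exact hx ⟨X.basicOpen (∏ i, c.g i), W.2.basicOpen _⟩ _ (basicOpen_prod_le c)

theorem sec_ext [Smooth f] (hD : LogNCD.IsNCD D f) {M : X.Modules} (hM : FlatMod.IsFinLocFree M) {U : X.Opens}
    (x y : Sec M U) (hx : ∀ (V : X.affineOpens) (h : V.1 ≤ U), V.1 ≤ DC D → res M h x = res M h y) : x = y := by
  rw [← sub_eq_zero]
  apply sec_eq_zero hD hM
  intro V h hV
  rw [map_sub, hx V h hV, sub_self]

theorem homAb_ext [Smooth f] (hD : LogNCD.IsNCD D f) {M N : X.Modules} (hN : FlatMod.IsFinLocFree N)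
    (Φ Ψ : Coh.toAb M ⟶ Coh.toAb N)
    (h : ∀ (V : X.affineOpens), V.1 ≤ DC D → ∀ x : Sec M V.1, apS Φ V.1 x = apS Ψ V.1 x) : Φ = Ψ := by
  apply Groth.Agent.Fga.PicTanSheaf.hom_ext
  intro U x
  have key : ∀ x : Sec M U, apS Φ U x = apS Ψ U x := by
    intro x
    refine sec_ext (M := N) hD hN (apS Φ U x) (apS Ψ U x) fun V hVU hV => ?_
    rw [← apS_res, ← apS_res, h V hV]
  exact key x

end complement

section openpart

variable {X S : Scheme.{u}} {f : X ⟶ S} {Ω' : X.Modules} {d : OmegaSh.Der f Ω'} {r : ℕ}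
  {D : Fin r → X.IdealSheafData}

theorem ι_bijective (Λ : LogNCD.LogMod d D) (V : X.affineOpens) (hV : V.1 ≤ DC D) :
    Function.Bijective (appS Λ.ι V.1) := by
  refine ⟨ι_injective Λ V.1, ?_⟩
  obtain ⟨-, dl, h1, h2, -⟩ := rule Λ V (fun _ => 1) (fun i => by
    rw [ideal_eq_top D V hV i, Ideal.span_singleton_one])
  have h3 : ∀ i, dl i = 0 := by
    intro i
    have h4 := h1 i
    rwa [one_smul, dS_one, map_zero] at h4
  have h5 : Submodule.span Γ(X, V.1) (Set.range (appS Λ.ι V.1) ∪ Set.range dl) ≤ LinearMap.range (appS Λ.ι V.1) := by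
    rw [Submodule.span_le]
    rintro y (hy | ⟨i, rfl⟩)
    · exact hy
    · rw [h3 i]
      exact Submodule.zero_mem _
  rw [h2] at h5
  rw [← LinearMap.range_eq_top]
  exact top_le_iff.1 h5

/-- The derivation of the log receptacle over `ℤ` on sections. -/
noncomputable def δZ (Λ : LogNCD.LogMod d D) (U : X.Opens) : Derivation ℤ Γ(X, U) (Sec Λ.L U) :=
  derZ (dS (LogNCD.der Λ) U) (dS_mul (LogNCD.der Λ) U)

theorem δZ_apply (Λ : LogNCD.LogMod d D) (U : X.Opens) (a : Γ(X, U)) : δZ Λ U a = dS (LogNCD.der Λ) U a := rfl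

theorem δZ_res (Λ : LogNCD.LogMod d D) {U V : X.Opens} (h : V ≤ U) (a : Γ(X, U)) :
    res Λ.L h (δZ Λ U a) = δZ Λ V (resO X h a) := dS_res (LogNCD.der Λ) h a

theorem δZ_eq (Λ : LogNCD.LogMod d D) (U : X.Opens) (a : Γ(X, U)) : δZ Λ U a = appS Λ.ι U (dS d U a) := rfl

variable [IsAffine S]

theorem exists_kaehler (hd : AffUniv d) (Λ : LogNCD.LogMod d D) (V : X.affineOpens) (hV : V.1 ≤ DC D) :
    letI := (f.appLE ⊤ V.1 le_top).hom.toAlgebra
    ∃ ε : Ω[Γ(X, V.1)⁄Γ(S, ⊤)] ≃ₗ[Γ(X, V.1)] Sec Λ.L V.1,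
      ∀ a, ε (KaehlerDifferential.D Γ(S, ⊤) Γ(X, V.1) a) = δZ Λ V.1 a := by
  let := (f.appLE ⊤ V.1 le_top).hom.toAlgebra
  obtain ⟨ε, hε⟩ := hd V ⟨⊤, isAffineOpen_top S⟩ le_top
  refine ⟨ε.trans (LinearEquiv.ofBijective (appS Λ.ι V.1) (ι_bijective Λ V hV)), fun a => ?_⟩
  rw [LinearEquiv.trans_apply, hε a]
  rfl

theorem span_δZ (hd : AffUniv d) (Λ : LogNCD.LogMod d D) (V : X.affineOpens) (hV : V.1 ≤ DC D) :
    Submodule.span Γ(X, V.1) (Set.range (δZ Λ V.1)) = ⊤ := by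
  let := (f.appLE ⊤ V.1 le_top).hom.toAlgebra
  obtain ⟨ε, hε⟩ := exists_kaehler hd Λ V hV
  have h1 : Set.range (δZ Λ V.1) = ε '' Set.range (KaehlerDifferential.D Γ(S, ⊤) Γ(X, V.1)) := by
    rw [← Set.range_comp]
    congr 1
    funext a
    exact (hε a).symm
  rw [h1]
  have h2 := Submodule.span_image (R := Γ(X, V.1)) (s := Set.range (KaehlerDifferential.D Γ(S, ⊤) Γ(X, V.1))) ε.toLinearMap
  refine h2.trans ?_
  rw [KaehlerDifferential.span_range_derivation, Submodule.map_top]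
  exact LinearEquiv.range ε

theorem exists_dV (hd : AffUniv d) (Λ : LogNCD.LogMod d D) (V : X.affineOpens) (hV : V.1 ≤ DC D) :
    ∃ dV : ∀ p : ℕ, ↥(⋀[Γ(X, V.1)]^p (Sec Λ.L V.1)) →ₗ[ℤ] ↥(⋀[Γ(X, V.1)]^(p + 1) (Sec Λ.L V.1)),
      DeRham.IsRule (δZ Λ V.1) dV := by
  let := (f.appLE ⊤ V.1 le_top).hom.toAlgebra
  obtain ⟨ε, hε⟩ := exists_kaehler hd Λ V hV
  exact exists_rule ε hε

/-- The de Rham differential on affine opens off the divisor. -/
noncomputable def dV (hd : AffUniv d) (Λ : LogNCD.LogMod d D) (V : X.affineOpens) (hV : V.1 ≤ DC D) :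
    ∀ p : ℕ, ↥(⋀[Γ(X, V.1)]^p (Sec Λ.L V.1)) →ₗ[ℤ] ↥(⋀[Γ(X, V.1)]^(p + 1) (Sec Λ.L V.1)) :=
  (exists_dV hd Λ V hV).choose

theorem dV_rule (hd : AffUniv d) (Λ : LogNCD.LogMod d D) (V : X.affineOpens) (hV : V.1 ≤ DC D) :
    DeRham.IsRule (δZ Λ V.1) (dV hd Λ V hV) := (exists_dV hd Λ V hV).choose_spec

theorem dV_res (hd : AffUniv d) (Λ : LogNCD.LogMod d D) {V W : X.affineOpens} (hV : V.1 ≤ DC D) (h : W.1 ≤ V.1)
    (p : ℕ) (x : ↥(⋀[Γ(X, V.1)]^p (Sec Λ.L V.1))) :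
    eres (p + 1) Λ.L h (dV hd Λ V hV p x) = dV hd Λ W (h.trans hV) p (eres p Λ.L h x) :=
  isCxMap_comm (span_δZ hd Λ V hV) (dV_rule hd Λ V hV) (dV_rule hd Λ W (h.trans hV))
    (isCxMap_psi (δ := δZ Λ V.1) (δ' := δZ Λ W.1) (resS Λ.L h) (δZ_res Λ h)) p x

end openpart

end K904.LogCxS
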