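import Groth.Agent.DelIll.K904.TopGeo

/-!
# The dimension count in total degrees `≥ n`, `n ≤ p` the dimension
-/

set_option autoImplicit false
set_option linter.unusedSectionVars false
set_option linter.style.haveILetI false

universe u

open CategoryTheory CategoryTheory.Limits AlgebraicGeometry Opposite TopologicalSpace
open Groth.Agent.Sga67.Sec Groth.Agent.Sga67.LocBasis Groth.Agent.Sga67.ExtSheaf
open Groth.Agent.Fga.MumCech
open K912.Alt K912.Twist K912.Frame K912.LatCmp K912.Asm K912.Seq K912.Dim K912.Cx K912.Stair K912.Num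

namespace K904.TopCount

section lin

variable {p : ℕ} [Fact p.Prime] {k U V V' : Type*} [Field k] [CharP k p] [AddCommGroup U] [Module k U]
  [AddCommGroup V] [Module k V] [AddCommGroup V'] [Module k V']

/-- A semilinear section of a surjective semilinear map. -/
theorem exists_section (ρ : V' →+ V) (hρ : Function.Surjective ρ) (hρs : ∀ (t : k) x, ρ (t ^ p • x) = t • ρ x)
    [Module.Finite k V] : ∃ s : V →+ V', (∀ x, ρ (s x) = x) ∧ ∀ (t : k) x, s (t • x) = t ^ p • s x := by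
  let β := Module.Free.chooseBasis k V
  choose v hv using fun l => hρ (β l)
  refine ⟨AddMonoidHom.mk' (fun x => ∑ l, (β.repr x l) ^ p • v l) fun x y => ?_, fun x => ?_, fun t x => ?_⟩
  · rw [← Finset.sum_add_distrib]
    refine Finset.sum_congr rfl fun l _ => ?_
    rw [map_add, Finsupp.add_apply, add_pow_char, add_smul]
  · rw [AddMonoidHom.mk'_apply, map_sum]
    conv_rhs => rw [← β.sum_repr x]
    exact Finset.sum_congr rfl fun l _ => by rw [hρs, hv]
  · rw [AddMonoidHom.mk'_apply, Finset.smul_sum]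
    refine Finset.sum_congr rfl fun l _ => ?_
    rw [map_smul, Finsupp.smul_apply, smul_eq_mul, mul_pow, mul_smul]

/-- The dimension inequality. -/
theorem finrank_add_le (hk : ∀ t : k, ∃ u : k, u ^ p = t) (φ : U →+ V') (hφ : Function.Injective φ)
    (hφs : ∀ (t : k) x, φ (t • x) = t ^ p • φ x) (ρ : V' →+ V) (hρ : Function.Surjective ρ)
    (hρs : ∀ (t : k) x, ρ (t ^ p • x) = t • ρ x) (h0 : ∀ x, ρ (φ x) = 0) [Module.Finite k V] [Module.Finite k V'] :
    Module.finrank k U + Module.finrank k V ≤ Module.finrank k V' := by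
  obtain ⟨s, hs, hss⟩ := exists_section ρ hρ hρs
  have h1 := finite_and_finrank_le (k := k) (V := U × V) (V' := V') (p := p) (Fact.out (p := p.Prime)).ne_zero hk
    (AddMonoidHom.coprod φ s) (by
      rw [injective_iff_map_eq_zero]
      rintro ⟨u, x⟩ h
      rw [AddMonoidHom.coprod_apply] at h
      have h2 : x = 0 := by
        have := congrArg ρ h
        rw [map_add, h0, zero_add, hs, map_zero] at this
        exact this
      rw [h2, map_zero, add_zero] at h
      exact Prod.ext ((map_eq_zero_iff φ hφ).1 h) h2) (fun t x => by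
      rw [AddMonoidHom.coprod_apply, AddMonoidHom.coprod_apply, Prod.smul_fst, Prod.smul_snd, hφs, hss, smul_add])
  have h2 : Module.Finite k U := by
    have := h1.1
    exact Module.Finite.of_surjective (LinearMap.fst k U V) LinearMap.fst_surjective
  rw [← Module.finrank_prod]
  exact h1.2

/-- The dimension inequality for a family. -/
theorem finrank_add_sum_le {n : ℕ} {V : Fin n → Type*} [∀ j, AddCommGroup (V j)] [∀ j, Module k (V j)]
    [∀ j, Module.Finite k (V j)] [Module.Finite k V'] (hk : ∀ t : k, ∃ u : k, u ^ p = t) (φ : U →+ V')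
    (hφ : Function.Injective φ) (hφs : ∀ (t : k) x, φ (t • x) = t ^ p • φ x) (ρ : V' →+ ∀ j, V j)
    (hρ : Function.Surjective ρ) (hρs : ∀ (t : k) x j, ρ (t ^ p • x) j = t • ρ x j) (h0 : ∀ x j, ρ (φ x) j = 0) :
    Module.finrank k U + ∑ j, Module.finrank k (V j) ≤ Module.finrank k V' := by
  have h1 := finrank_add_le hk φ hφ hφs ρ hρ (fun t x => funext fun j => hρs t x j) (fun x => funext fun j => h0 x j)
  rwa [Module.finrank_pi_fintype] at h1

end lin

/-- The map on quotients induced by a map which is additive on cycles. -/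
def HmapA {k V V' : Type*} [Field k] [AddCommGroup V] [Module k V] [AddCommGroup V'] [Module k V']
    {Z B : Submodule k V} {Z' B' : Submodule k V'} (f : V → V') (hZ : ∀ z ∈ Z, f z ∈ Z')
    (hadd : ∀ z ∈ Z, ∀ z' ∈ Z, f (z + z') = f z + f z') (hB : ∀ z ∈ Z, z ∈ B → f z ∈ B') : Hq Z B →+ Hq Z' B' :=
  QuotientAddGroup.lift _
    (AddMonoidHom.mk' (fun z : Z => cls Z' B' (f z.1) (hZ z.1 z.2)) (fun z z' => by
      have h1 : (⟨f (z + z' : Z).1, hZ _ (z + z').2⟩ : Z') = ⟨f z.1, hZ _ z.2⟩ + ⟨f z'.1, hZ _ z'.2⟩ :=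
        Subtype.ext (hadd z.1 z.2 z'.1 z'.2)
      change Submodule.Quotient.mk _ = _
      rw [h1]
      rfl))
    (fun z hz => cls_eq_zero.2 (hB z.1 z.2 hz))

theorem HmapA_cls {k V V' : Type*} [Field k] [AddCommGroup V] [Module k V] [AddCommGroup V'] [Module k V']
    {Z B : Submodule k V} {Z' B' : Submodule k V'} (f : V → V') (hZ : ∀ z ∈ Z, f z ∈ Z')
    (hadd : ∀ z ∈ Z, ∀ z' ∈ Z, f (z + z') = f z + f z') (hB : ∀ z ∈ Z, z ∈ B → f z ∈ B') (z : V) (hz : z ∈ Z) :
    HmapA f hZ hadd hB (cls Z B z hz) = cls Z' B' (f z) (hZ z hz) := rfl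

attribute [local instance] algV modS modP

open _root_.K904.LatU _root_.K904.LatHyp _root_.K904.TopRho _root_.K904.ExtDual _root_.K904.TopGeo

variable {p : ℕ} {k : Type u} [Field k] {X : Scheme.{u}} [X.Over (Spec (CommRingCat.of k))]
  {E : X.Modules} {n : ℕ} {G : Geo p k X E n} {La : ℕ → X.Modules} (φ : ∀ a, Phi a E (La a))
  (hφ : ∀ a, PhiComp (φ a))

/-- Constant families. -/
def up {ι W : Type*} (x : T ι W) : T ι (Unit → W) := fun n i _ => x n i

theorem ev_up {ι R L : Type*} [CommRing R] [AddCommGroup L] [Module R L] (x : T ι (ExteriorAlgebra R L)) :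
    ev () (up x) = x := rfl

theorem up_ev {ι R L : Type*} [CommRing R] [AddCommGroup L] [Module R L] (x : T ι (Unit → ExteriorAlgebra R L)) :
    up (ev () x) = x := rfl

theorem ev_mem_Tot {m : ℤ} {x : T G.ι (Unit → W G)} (hx : x ∈ Tot (sysZ (latU G φ)) m) : ev () x ∈ Tot (KW G φ) m :=
  fun n => ⟨fun i i' h => congrFun ((hx n).1 i i' h) (), fun i => (hx n).2 i⟩

theorem up_mem_Tot {m : ℤ} {x : T G.ι (W G)} (hx : x ∈ Tot (KW G φ) m) : up x ∈ Tot (sysZ (latU G φ)) m :=
  fun n => ⟨fun i i' h => funext fun _ => (hx n).1 i i' h, fun i => (hx n).2 i⟩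

theorem ev_D (hk : ∀ t : k, ∃ u : k, u ^ p = t) (x : T G.ι (Unit → W G)) :
    ev () (D (dJ G.D hk).toAddMonoidHom x) = D G.D.d (ev () x) := by
  funext n i
  exact D_dJ G.D hk x n i ()

theorem D_up (hk : ∀ t : k, ∃ u : k, u ^ p = t) (x : T G.ι (W G)) :
    D (dJ G.D hk).toAddMonoidHom (up x) = up (D G.D.d x) := by
  rw [← up_ev (D (dJ G.D hk).toAddMonoidHom (up x)), ev_D hk, ev_up]

theorem up_mem_Coch {a : ℕ} {q : ℕ} {c : (ℕ → G.ι) → W G} (hc : c ∈ Coch (KW G φ a) q) :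
    (fun i _ => c i : (ℕ → G.ι) → Unit → W G) ∈ Coch (latU G φ a) q :=
  ⟨fun i i' h => funext fun _ => hc.1 i i' h, fun i => hc.2 i⟩

theorem ev_mem_Coch {a : ℕ} {q : ℕ} {c : (ℕ → G.ι) → Unit → W G} (hc : c ∈ Coch (latU G φ a) q) :
    (fun i => c i ()) ∈ Coch (KW G φ a) q :=
  ⟨fun i i' h => congrFun (hc.1 i i' h) (), fun i => hc.2 i⟩

theorem δ_ev (q : ℕ) (c : (ℕ → G.ι) → Unit → W G) (i : ℕ → G.ι) : δ q (fun i => c i ()) i = δ q c i () :=
  δ_map (Pi.evalAddMonoidHom (fun _ : Unit => W G) ()) q c i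

theorem δ_up (q : ℕ) (c : (ℕ → G.ι) → W G) : δ q (fun i _ => c i : (ℕ → G.ι) → Unit → W G) = fun i _ => δ q c i := by
  funext i j
  exact (δ_ev q (fun i _ => c i : (ℕ → G.ι) → Unit → W G) i).symm

theorem ev_mem_Zc {a : ℕ} {q : ℕ} {c : (ℕ → G.ι) → Unit → W G} (hc : c ∈ Zc (latU G φ a) q) :
    (fun i => c i ()) ∈ Zc (KW G φ a) q := by
  refine mem_Zc.2 ⟨ev_mem_Coch φ (mem_Zc.1 hc).1, ?_⟩
  funext i
  rw [δ_ev, (mem_Zc.1 hc).2]
  rfl

theorem up_mem_Bc {a : ℕ} {q : ℕ} {c : (ℕ → G.ι) → W G} (hc : c ∈ Bc (KW G φ a) q) :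
    (fun i _ => c i : (ℕ → G.ι) → Unit → W G) ∈ Bc (latU G φ a) q := by
  cases q with
  | zero =>
    rw [mem_Bc_zero] at hc ⊢
    subst hc
    rfl
  | succ q =>
    obtain ⟨b, hb, rfl⟩ := mem_Bc_succ.1 hc
    exact mem_Bc_succ.2 ⟨_, up_mem_Coch φ hb, δ_up q b⟩

theorem ev_mem_Bc {a : ℕ} {q : ℕ} {c : (ℕ → G.ι) → Unit → W G} (hc : c ∈ Bc (latU G φ a) q) :
    (fun i => c i ()) ∈ Bc (KW G φ a) q := by
  cases q with
  | zero =>
    rw [mem_Bc_zero] at hc ⊢
    subst hc
    rfl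
  | succ q =>
    obtain ⟨b, hb, rfl⟩ := mem_Bc_succ.1 hc
    exact mem_Bc_succ.2 ⟨_, ev_mem_Coch φ hb, funext fun i => δ_ev q b i⟩

variable [Fact p.Prime]

section rho

variable {ι R L : Type*} [CommRing R] [CharP R p] [AddCommGroup L] [Module R L]
  {k : Type*} [Field k] [Algebra k R] [Module k L] [IsScalarTower k R L]
variable {X : Dat p ι R L} {F : ι → ExteriorAlgebra R L →+* ExteriorAlgebra R L}
  {K : ℤ → Set ι → Submodule k (ExteriorAlgebra R L)} {n : ℕ} (t : Top X F K n)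

/-- `rho` kills boundaries in Čech degree zero. -/
theorem rho_D_zero {m : ℕ} (hm : m ≤ n) {x : T ι (ExteriorAlgebra R L)} (hx : x ∈ Tot K ((m : ℤ) - 1)) :
    rho t m m (D X.d x) = 0 := by
  funext i
  refine rho_eq t hm (Submodule.zero_mem _) fun g hg => ?_
  rw [Pi.zero_apply, zero_mul, lam_apply, Nat.sub_self, _root_.K904.Cup.cup_low m (fun q hq => by omega), D_zero_apply, shift_zero,
    Ψ_apply_zero X F t.hF t.hFι (n - m) hg, mul_smul_comm, map_nsmul]
  have h1 := (hx 0).2 i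
  rw [C_d_mul t h1, smul_zero]

end rho

section frob

variable {ι R L : Type*} [CommRing R] [CharP R p] [AddCommGroup L] [Module R L]
  {k : Type*} [Field k] [Algebra k R] [Module k L] [IsScalarTower k R L]
variable {X : Dat p ι R L} {F : ι → ExteriorAlgebra R L →+* ExteriorAlgebra R L}
  {K : ℤ → Set ι → Submodule k (ExteriorAlgebra R L)} {n : ℕ} (t : Top X F K n)

/-- The Frobenius of a cochain of functions. -/
def Fc (F : ι → ExteriorAlgebra R L →+* ExteriorAlgebra R L) (c : (ℕ → ι) → ExteriorAlgebra R L) :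
    (ℕ → ι) → ExteriorAlgebra R L := fun i => F (i 0) (c i)

include t in
theorem Fc_mem {q : ℕ} {c : (ℕ → ι) → ExteriorAlgebra R L} (hc : c ∈ Coch (K 0) q) : Fc F c ∈ Coch (K 0) q := by
  refine ⟨fun i i' h => ?_, fun i => ?_⟩
  · rw [Fc, Fc, hc.1 i i' h, h 0 (Nat.zero_le _)]
  · have := t.K_F 0 (rg q i) (i 0) (mem_rg i (Nat.zero_le _)) (c i) (by rw [Nat.cast_zero]; exact hc.2 i)
    rwa [Nat.cast_zero] at this

include t in
theorem D_sing_Fc {q : ℕ} {c : (ℕ → ι) → ExteriorAlgebra R L} (hc : c ∈ Coch (K 0) q) :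
    D X.d (sing q (Fc F c)) = sing (q + 1) (Fc F (δ q c)) := by
  funext n i
  rcases lt_trichotomy n q with h | h | h
  · rw [D_sing_lt _ h, sing_ne (by omega)]
  · subst h
    rw [D_sing_self, Fc, d_F t, smul_zero, sing_ne (by omega)]
    rfl
  · obtain ⟨n, rfl⟩ : ∃ n', n = n' + 1 := ⟨n - 1, by omega⟩
    rw [D_succ_apply, sing_ne (show n + 1 ≠ q by omega), Pi.zero_apply, map_zero, smul_zero, add_zero]
    rcases Nat.lt_or_ge q n with h' | h'
    · rw [sing_ne (show n ≠ q by omega), δ_zero, sing_ne (show n + 1 ≠ q + 1 by omega)]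
    · have : n = q := by omega
      subst this
      rw [sing_self, sing_self, Fc, δ_apply, δ_apply, map_sum]
      refine Finset.sum_congr rfl fun l _ => ?_
      rw [map_zsmul, Fc, F_indep t (face l i 0) (i 0) (hc.2 (face l i))]

include t in
theorem Fc_zero : Fc F (0 : (ℕ → ι) → ExteriorAlgebra R L) = 0 := by
  funext i
  exact map_zero _

include t in
/-- The comparison with the Deligne--Illusie map. -/
theorem Psi_sing_zero {m : ℕ} {c : (ℕ → ι) → ExteriorAlgebra R L} (hc : c ∈ Coch (K 0) m) (n : ℕ) (i : ℕ → ι) :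
    (if m ≤ n then Ψ X (c i) (n - m) (shift m i) else 0) = sing m (Fc F c) n i := by
  split_ifs with h
  · rcases h.eq_or_lt with rfl | h
    · rw [sing_self, Nat.sub_self, Ψ_apply_zero X F t.hF t.hFι 0 (t.K_le 0 _ _ (by
        rw [Nat.cast_zero]; exact hc.2 i)), Nat.factorial_zero, one_smul, Fc]
      exact F_indep t _ _ (hc.2 i)
    · rw [sing_ne (by omega)]
      have h1 := t.K_Ψ 0 (rg n i) (c i) (t.sys.mono 0 (rg_mono h.le i) (hc.2 i)) (n - m) (shift m i)
        (rg_shift (by omega) i)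
      rw [t.sys.neg _ (by omega)] at h1
      exact h1
  · rw [sing_ne (by omega)]
    rfl

end frob

section main

variable (hk : ∀ t : k, ∃ u : k, u ^ p = t) (hC : Cartier (triv G))

/-- The cochain attached to an element. -/
noncomputable def rhoU (t : haveI := G.charP; Top G.D G.F (KW G φ) n) (m j : ℕ) (x : T G.ι (Unit → W G)) :
    (ℕ → G.ι) → Unit → W G :=
  haveI := G.charP
  fun i _ => rho t m j (ev () x) i

variable (t : haveI := G.charP; Top G.D G.F (KW G φ) n)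

theorem rhoU_mem_Zc {m j : ℕ} (hj : j ≤ n) (hnm : n ≤ m) {z : T G.ι (Unit → W G)}
    (hz : z ∈ Zt (dJ G.D hk) (sysZ (latU G φ)) m) : rhoU φ t m j z ∈ Zc (latU G φ j) (m - j) := by
  haveI := G.charP
  have hz' := ev_mem_Tot φ (mem_Zt.1 hz).1
  refine mem_Zc.2 ⟨up_mem_Coch φ (rho_mem t hj (by omega) hz'), ?_⟩
  change δ (m - j) (fun i _ => rho t m j (ev () z) i : (ℕ → G.ι) → Unit → W G) = 0
  rw [δ_up, ← rho_D t hj (by omega) hz', ← ev_D hk, (mem_Zt.1 hz).2]
  funext i _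
  have h1 : ev () (0 : T G.ι (Unit → W G)) = 0 := rfl
  rw [h1, rho_zero t hj]
  rfl

theorem rhoU_add {m j : ℕ} (hj : j ≤ n) (hnm : n ≤ m) {z z' : T G.ι (Unit → W G)}
    (hz : z ∈ Tot (sysZ (latU G φ)) m) (hz' : z' ∈ Tot (sysZ (latU G φ)) m) :
    rhoU φ t m j (z + z') = rhoU φ t m j z + rhoU φ t m j z' := by
  haveI := G.charP
  have h1 := rho_add t hj (by omega) (ev_mem_Tot φ hz) (ev_mem_Tot φ hz')
  funext i _
  exact congrFun h1 i

theorem rhoU_mem_Bc {m j : ℕ} (hj : j ≤ n) (hnm : n ≤ m) {z : T G.ι (Unit → W G)}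
    (hz : z ∈ Bt (dJ G.D hk) (sysZ (latU G φ)) m) : rhoU φ t m j z ∈ Bc (latU G φ j) (m - j) := by
  haveI := G.charP
  obtain ⟨y, hy, rfl⟩ := mem_Bt.1 hz
  apply up_mem_Bc
  have hy' := ev_mem_Tot φ hy
  rw [ev_D]
  rcases Nat.lt_or_ge j m with hlt | hge
  · obtain ⟨m, rfl⟩ : ∃ m', m = m' + 1 := ⟨m - 1, by omega⟩
    have e1 : ((m + 1 : ℕ) : ℤ) - 1 = m := by push_cast; ring
    rw [e1] at hy'
    have h2 := rho_D t hj (by omega) hy'
    have e2 : m + 1 - j = m - j + 1 := by omega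
    rw [e2]
    exact mem_Bc_succ.2 ⟨_, rho_mem t hj (by omega) hy', h2.symm⟩
  · have : j = m := by omega
    subst this
    have h1 := rho_D_zero t hj hy'
    rw [h1]
    exact Submodule.zero_mem _

/-- `rho` is semilinear. -/
theorem rhoU_smul {m j : ℕ} (hj : j ≤ n) (hnm : n ≤ m) (r : k) {z : T G.ι (Unit → W G)}
    (hz : z ∈ Tot (sysZ (latU G φ)) m) : rhoU φ t m j (r ^ p • z) = r • rhoU φ t m j z := by
  haveI := G.charP
  funext i _
  refine rho_eq t hj ?_ fun g hg => ?_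
  · exact Submodule.smul_of_tower_mem _ r (t.K_le _ _ _ (rho_mem' t hj (by omega) (ev_mem_Tot φ hz) i))
  · have h1 : ev () (r ^ p • z) = (algebraMap k G.R r) ^ p • ev () z := by
      funext n i
      change r ^ p • z n i () = (algebraMap k G.R r) ^ p • z n i ()
      rw [← map_pow, algebraMap_smul]
    have h2 : _root_.K904.Cup.cup m ((algebraMap k G.R r) ^ p • ev () z) (Ψ G.D g) (m - j) i =
        (algebraMap k G.R r) ^ p • _root_.K904.Cup.cup m (ev () z) (Ψ G.D g) (m - j) i := by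
      rw [_root_.K904.Cup.cup_apply, _root_.K904.Cup.cup_apply, Finset.smul_sum]
      refine Finset.sum_congr rfl fun q _ => ?_
      rw [Pi.smul_apply, Pi.smul_apply, smul_mul_assoc, smul_comm]
    rw [lam_apply, h1, h2, t.C_pow]
    change (r • rho t m j (ev () z) i) * g = _
    rw [smul_mul_assoc, rho_spec t hj (by omega) (ev_mem_Tot φ hz) i g hg, algebraMap_smul]

variable [CharP k p]

/-- All the maps together. -/
noncomputable def rhoV {m : ℕ} (hnm : n ≤ m) : Ht (dJ G.D hk) (sysZ (latU G φ)) m →+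
    ∀ j : Fin n, Hc (latU G φ (j + 1)) (m - (j + 1)) :=
  AddMonoidHom.pi fun j => HmapA (rhoU φ t m (j + 1)) (fun _ hz => rhoU_mem_Zc φ hk t (by omega) hnm hz)
    (fun _ hz _ hz' => rhoU_add φ t (by omega) hnm (mem_Zt.1 hz).1 (mem_Zt.1 hz').1)
    (fun _ _ hzB => rhoU_mem_Bc φ hk t (by omega) hnm hzB)

theorem rhoV_cls {m : ℕ} (hnm : n ≤ m) (z : T G.ι (Unit → W G)) (hz : z ∈ Zt (dJ G.D hk) (sysZ (latU G φ)) m)
    (j : Fin n) : rhoV φ hk t hnm (cls _ _ z hz) j = cls _ _ (rhoU φ t m (j + 1) z)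
      (rhoU_mem_Zc φ hk t (by omega) hnm hz) := rfl

theorem rhoV_smul {m : ℕ} (hnm : n ≤ m) (r : k) (x : Ht (dJ G.D hk) (sysZ (latU G φ)) m) (j : Fin n) :
    rhoV φ hk t hnm (r ^ p • x) j = r • rhoV φ hk t hnm x j := by
  obtain ⟨z, hz, rfl⟩ := exists_cls x
  have h1 : r ^ p • cls (Zt (dJ G.D hk) (sysZ (latU G φ)) m) (Bt (dJ G.D hk) (sysZ (latU G φ)) m) z hz =
    cls _ _ (r ^ p • z) (Submodule.smul_mem _ _ hz) := rfl
  rw [h1, rhoV_cls, rhoV_cls]
  have h2 : r • cls (Zc (latU G φ (j + 1)) (m - (j + 1))) (Bc (latU G φ (j + 1)) (m - (j + 1)))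
      (rhoU φ t m (j + 1) z) (rhoU_mem_Zc φ hk t (by omega) hnm hz) =
    cls _ _ (r • rhoU φ t m (j + 1) z) (Submodule.smul_mem _ _ (rhoU_mem_Zc φ hk t (by omega) hnm hz)) := rfl
  rw [h2]
  congr 2
  exact rhoU_smul φ t (by omega) hnm r (mem_Zt.1 hz).1

theorem rhoV_surjective {m : ℕ} (hnm : n ≤ m) (hvan : Subsingleton (Hc (latU G φ 0) (m + 1))) :
    Function.Surjective (rhoV φ hk t hnm) := by
  haveI := G.charP
  intro y
  have h1 : ∀ j : Fin n, ∃ (c : (ℕ → G.ι) → Unit → W G) (hc : c ∈ Zc (latU G φ (j + 1)) (m - (j + 1))),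
    cls _ _ c hc = y j := fun j => exists_cls (y j)
  choose c hc hcy using h1
  have hvan' : ∀ c ∈ Zc (KW G φ 0) (m + 1), c ∈ Bc (KW G φ 0) (m + 1) := by
    intro c hc
    have hcZ : (fun i _ => c i : (ℕ → G.ι) → Unit → W G) ∈ Zc (latU G φ 0) (m + 1) := by
      refine mem_Zc.2 ⟨up_mem_Coch φ (a := 0) (mem_Zc.1 hc).1, ?_⟩
      rw [δ_up, (mem_Zc.1 hc).2]
      rfl
    have h2 : cls (Zc (latU G φ 0) (m + 1)) (Bc (latU G φ 0) (m + 1)) _ hcZ = 0 := Subsingleton.elim _ _
    exact ev_mem_Bc φ (a := 0) (cls_eq_zero.1 h2)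
  obtain ⟨x, hx, hDx, hρ⟩ := exists_lift t m hnm hvan'
    (fun j => if h : 1 ≤ j ∧ j ≤ n then fun i => c ⟨j - 1, by omega⟩ i () else 0) (by
      intro j hj1 hj
      rw [dif_pos ⟨hj1, hj⟩]
      obtain ⟨j, rfl⟩ : ∃ j', j = j' + 1 := ⟨j - 1, by omega⟩
      exact ev_mem_Zc φ (a := j + 1) (hc ⟨j, by omega⟩))
  have hxZ : up x ∈ Zt (dJ G.D hk) (sysZ (latU G φ)) m := by
    refine mem_Zt.2 ⟨up_mem_Tot φ hx, ?_⟩
    rw [D_up, hDx]
    rfl
  refine ⟨cls _ _ _ hxZ, ?_⟩
  funext j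
  rw [rhoV_cls, ← hcy]
  congr 2
  funext i _
  have h3 := hρ (j + 1) (by omega) (by omega)
  rw [dif_pos ⟨by omega, by omega⟩] at h3
  exact congrFun h3 i

include t in
theorem phi0_mem_Zt {m : ℕ} {c : (ℕ → G.ι) → Unit → W G} (hc : c ∈ Zc (latU G φ 0) m) :
    up (sing m (Fc G.F fun i => c i ())) ∈ Zt (dJ G.D hk) (sysZ (latU G φ)) m := by
  haveI := G.charP
  have h1 := ev_mem_Zc φ (a := 0) hc
  rw [Nat.cast_zero] at h1
  refine mem_Zt.2 ⟨up_mem_Tot φ (sing_mem ?_), ?_⟩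
  · rw [sub_self]
    exact Fc_mem t (mem_Zc.1 h1).1
  · rw [D_up, D_sing_Fc t (mem_Zc.1 h1).1, (mem_Zc.1 h1).2, Fc_zero t, sing_zero_eq]
    rfl

include t in
theorem phi0_mem_Bt {m : ℕ} {c : (ℕ → G.ι) → Unit → W G} (hc : c ∈ Bc (latU G φ 0) m) :
    up (sing m (Fc G.F fun i => c i ())) ∈ Bt (dJ G.D hk) (sysZ (latU G φ)) m := by
  haveI := G.charP
  have h1 := ev_mem_Bc φ (a := 0) hc
  rw [Nat.cast_zero] at h1
  cases m with
  | zero =>
    rw [mem_Bc_zero] at h1
    rw [h1, Fc_zero t, sing_zero_eq]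
    exact Submodule.zero_mem _
  | succ m =>
    obtain ⟨b, hb, hb'⟩ := mem_Bc_succ.1 h1
    have e1 : ((m + 1 : ℕ) : ℤ) - 1 = m := by push_cast; ring
    refine mem_Bt.2 ⟨up (sing m (Fc G.F b)), ?_, ?_⟩
    · rw [e1]
      refine up_mem_Tot φ (sing_mem ?_)
      rw [sub_self]
      exact Fc_mem t hb
    · rw [D_up, D_sing_Fc t hb, hb']

/-- The Frobenius on the cohomology of the structure sheaf. -/
noncomputable def phi0 (m : ℕ) : Hc (latU G φ 0) m →+ Ht (dJ G.D hk) (sysZ (latU G φ)) m :=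
  HmapA (fun c => up (sing m (Fc G.F fun i => c i ()))) (fun _ hz => phi0_mem_Zt φ hk t hz)
    (fun z _ z' _ => by
      funext n i _
      change sing m (Fc G.F fun i => (z + z') i ()) n i =
        sing m (Fc G.F fun i => z i ()) n i + sing m (Fc G.F fun i => z' i ()) n i
      by_cases h : n = m
      · subst h
        rw [sing_self, sing_self, sing_self]
        exact map_add _ _ _
      · rw [sing_ne h, sing_ne h, sing_ne h]
        exact (add_zero _).symm)
    (fun _ _ hzB => phi0_mem_Bt φ hk t hzB)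

theorem phi0_cls (m : ℕ) (c : (ℕ → G.ι) → Unit → W G) (hc : c ∈ Zc (latU G φ 0) m) :
    phi0 φ hk t m (cls _ _ c hc) = cls _ _ (up (sing m (Fc G.F fun i => c i ()))) (phi0_mem_Zt φ hk t hc) := rfl

theorem phi0_smul (m : ℕ) (r : k) (x : Hc (latU G φ 0) m) : phi0 φ hk t m (r • x) = r ^ p • phi0 φ hk t m x := by
  obtain ⟨c, hc, rfl⟩ := exists_cls x
  have h1 : r • cls (Zc (latU G φ 0) m) (Bc (latU G φ 0) m) c hc = cls _ _ (r • c) (Submodule.smul_mem _ _ hc) := rfl
  rw [h1, phi0_cls, phi0_cls]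
  have h2 : r ^ p • cls (Zt (dJ G.D hk) (sysZ (latU G φ)) m) (Bt (dJ G.D hk) (sysZ (latU G φ)) m)
      (up (sing m (Fc G.F fun i => c i ()))) (phi0_mem_Zt φ hk t hc) =
    cls _ _ (r ^ p • up (sing m (Fc G.F fun i => c i ()))) (Submodule.smul_mem _ _ (phi0_mem_Zt φ hk t hc)) := rfl
  rw [h2]
  congr 2
  funext n i _
  change sing m (Fc G.F fun i => (r • c) i ()) n i = r ^ p • sing m (Fc G.F fun i => c i ()) n i
  by_cases h : n = m
  · subst h
    rw [sing_self, sing_self]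
    exact map_smul_F G.hF _ _ _
  · rw [sing_ne h, sing_ne h]
    exact (smul_zero _).symm

theorem rhoV_phi0 {m : ℕ} (hnm : n ≤ m) (x : Hc (latU G φ 0) m) (j : Fin n) :
    rhoV φ hk t hnm (phi0 φ hk t m x) j = 0 := by
  haveI := G.charP
  obtain ⟨c, hc, rfl⟩ := exists_cls x
  rw [phi0_cls, rhoV_cls, cls_eq_zero]
  have h1 : rhoU φ t m (j + 1) (up (sing m (Fc G.F fun i => c i ()))) = 0 := by
    funext i _
    have h2 := rho_congr t (m := m) (j := j + 1) (x := sing m (Fc G.F fun i => c i ())) (x' := 0) (by omega) (by omega)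
      (Submodule.zero_mem _) (fun q hq => sing_ne (by omega) _)
    rw [rho_zero t (by omega)] at h2
    exact congrFun h2 i
  rw [h1]
  exact Submodule.zero_mem _

include hφ in
theorem phi0_injective (hC : Cartier (triv G)) {m : ℕ} (hm : m ≤ p) : Function.Injective (phi0 φ hk t m) := by
  haveI := G.charP
  classical
  let G' : ℤ → Set G.ι → Submodule k (Unit → W G) := fun a => if a < p then sysZ (latU G φ) a else fun _ => ⊥
  have hG'1 : ∀ a : ℤ, a < p → G' a = sysZ (latU G φ) a := fun a ha => if_pos ha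
  have hG'2 : ∀ a : ℤ, ¬ a < p → G' a = fun _ => ⊥ := fun a ha => if_neg ha
  have hG'3 : ∀ (a : ℤ) s, G' a s ≤ sysZ (latU G φ) a s := by
    intro a s
    by_cases ha : a < p
    · rw [hG'1 a ha]
    · rw [hG'2 a ha]
      exact bot_le
  have h0 := LatHyp.hyp φ hφ hk hC
  have hhyp : Hyp (dJ G.D hk).toAddMonoidHom (sysZ (latU G φ)) G' (ψJ (J := Unit) G.D) :=
    { h0 with
      sysG :=
        { mono := fun a => by
            by_cases ha : a < p
            · rw [hG'1 a ha]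
              exact h0.sysG.mono a
            · rw [hG'2 a ha]
              exact monotone_const
          neg := fun a ha s => by
            rw [hG'1 a (by omega)]
            exact h0.sysG.neg a ha s
          d_mem := fun a s w _ => by
            rw [AddMonoidHom.zero_apply]
            exact Submodule.zero_mem _ }
      mem := fun a s g hg => h0.mem a s g (hG'3 a s hg) }
  rw [injective_iff_map_eq_zero]
  intro x hx
  obtain ⟨c, hc, rfl⟩ := exists_cls x
  rw [phi0_cls, cls_eq_zero] at hx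
  obtain ⟨y, hy, hy'⟩ := mem_Bt.1 hx
  rw [cls_eq_zero]
  have hp0 : (0 : ℤ) < p := by exact_mod_cast (Fact.out : p.Prime).pos
  have hcG : c ∈ Coch (G' 0) m := by
    rw [hG'1 0 hp0]
    exact (mem_Zc.1 hc).1
  have hPsi : Psi (ψJ (J := Unit) G.D) (sing m c) = up (sing m (Fc G.F fun i => c i ())) := by
    funext n' i j
    have h1 := Psi_sing_zero t (ev_mem_Coch φ (a := 0) (mem_Zc.1 hc).1) n' i
    refine Eq.trans ?_ h1
    rw [Psi_sing]
    split_ifs
    · rfl
    · rfl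
  obtain ⟨c', hc', hcc'⟩ := exists_of_exact hhyp (m := m)
    (fun a ha => by
      have h1 := LatHyp.surj φ hφ hk hC a (Or.inl (by omega))
      intro s hs i hi x hx hdx
      rw [hG'1 a (by omega)]
      exact h1 s hs i hi x hx hdx)
    (fun a ha => by
      by_cases hap : a < p
      · have h1 := LatHyp.inj φ hφ hk hC a (Or.inl hap)
        intro s hs i hi g hg
        rw [hG'1 a hap] at hg
        exact h1 s hs i hi g hg
      · intro s hs i hi g hg _ _ _
        rw [hG'2 a hap] at hg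
        exact hg)
    (c := sing m c) (sing_mem (by rw [sub_self]; exact hcG))
    (by rw [DG_sing, (mem_Zc.1 hc).2, sing_zero_eq]) hy (by rw [hPsi, hy'])
  have h2 := congrFun hcc' m
  rw [sing_self] at h2
  cases m with
  | zero =>
    rw [DG_zero_apply] at h2
    rw [h2]
    exact Submodule.zero_mem _
  | succ m =>
    rw [DG_succ_apply] at h2
    have h3 := hc' m
    have e : ((m + 1 : ℕ) : ℤ) - 1 - m = 0 := by push_cast; ring
    rw [e, hG'1 0 hp0] at h3
    rw [h2]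
    exact mem_Bc_succ.2 ⟨_, h3, rfl⟩

omit [Fact p.Prime] [CharP k p] in
theorem finrank_eq_zero_of_top {a q : ℕ} (h : ∀ s, latU G φ a s = ⊥) : Module.finrank k (Hc (latU G φ a) q) = 0 := by
  have : Subsingleton (Hc (latU G φ a) q) := by
    refine ⟨fun x y => ?_⟩
    obtain ⟨x, hx, rfl⟩ := exists_cls x
    obtain ⟨y, hy, rfl⟩ := exists_cls y
    have h1 : ∀ z ∈ Zc (latU G φ a) q, z = 0 := by
      intro z hz
      funext i
      have := (mem_Zc.1 hz).1.2 i
      rw [h] at this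
      exact this
    have hx0 := h1 x hx
    have hy0 := h1 y hy
    subst hx0
    subst hy0
    rfl
  exact Module.finrank_zero_of_subsingleton

include hφ in
omit [Fact p.Prime] [CharP k p] in
/-- The lattices above the rank vanish. -/
theorem latU_eq_bot {a : ℕ} (ha : n < a) (s : Set G.ι) : latU G φ a s = ⊥ := by
  rcases s.eq_empty_or_nonempty with rfl | hs
  · exact latU_empty φ a
  · rw [eq_bot_iff]
    intro y hy
    have h1 := lat_top G ha ((mem_latU φ hφ a hs y).1 hy)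
    rw [Submodule.mem_bot]
    funext j
    exact h1

include hφ in
/-- **The dimension inequality in total degrees `m ≥ n`.** -/
theorem sum_le (hk : ∀ t : k, ∃ u : k, u ^ p = t) (hC : Cartier (triv G)) (hG : TopG G) (hnp : n ≤ p) (m : ℕ)
    (hnm : n ≤ m) (hm : m ≤ p ∨ Subsingleton (Hc (latU G φ 0) m)) (hvan : Subsingleton (Hc (latU G φ 0) (m + 1)))
    (hfin : ∀ a ≤ m, Module.Finite k (Hc (latU G φ a) (m - a))) :
    ∑ a ∈ Finset.range (m + 1), Module.finrank k (Hc (latU G φ a) (m - a)) ≤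
      Module.finrank k (Ht (dJ G.D hk) (sysZ (latU G φ)) m) := by
  haveI := G.charP
  obtain ⟨t⟩ := nonempty_top φ hφ hnp hC hG
  have hft := LatHyp.finite_Ht φ hφ hk hC m hfin
  have hfj : ∀ j : Fin n, Module.Finite k (Hc (latU G φ (j + 1)) (m - (j + 1))) := fun j => hfin _ (by omega)
  have key : Module.finrank k (Hc (latU G φ 0) m) +
      ∑ j : Fin n, Module.finrank k (Hc (latU G φ (j + 1)) (m - (j + 1))) ≤
      Module.finrank k (Ht (dJ G.D hk) (sysZ (latU G φ)) m) := by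
    have h2 := fun (φ' : Hc (latU G φ 0) m →+ Ht (dJ G.D hk) (sysZ (latU G φ)) m) =>
      @finrank_add_sum_le p _ k (Hc (latU G φ 0) m) (Ht (dJ G.D hk) (sysZ (latU G φ)) m) _ _ _ _ _ _ n
        (fun j => Hc (latU G φ (j + 1)) (m - (j + 1))) _ _ hfj hft hk φ'
    rcases hm with hm | hm
    · exact h2 (phi0 φ hk t m) (phi0_injective φ hφ hk t hC hm)
        (phi0_smul φ hk t m) (rhoV φ hk t hnm) (rhoV_surjective φ hk t hnm hvan) (rhoV_smul φ hk t hnm)
        (rhoV_phi0 φ hk t hnm)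
    · exact h2 0 (fun _ _ _ => Subsingleton.elim _ _)
        (fun _ _ => (smul_zero _).symm)
        (rhoV φ hk t hnm) (rhoV_surjective φ hk t hnm hvan) (rhoV_smul φ hk t hnm)
        (fun _ j => congrFun (map_zero (rhoV φ hk t hnm)) j)
  rw [Fin.sum_univ_eq_sum_range (fun j => Module.finrank k (Hc (latU G φ (j + 1)) (m - (j + 1))))] at key
  refine le_trans (le_of_eq ?_) key
  rw [Finset.sum_range_succ', Nat.sub_zero, add_comm]
  congr 1
  symm
  refine Finset.sum_subset (Finset.range_subset_range.2 hnm) fun j hj hj' => ?_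
  refine finrank_eq_zero_of_top φ fun s => latU_eq_bot φ hφ ?_ s
  have : ¬ j < n := fun h => hj' (Finset.mem_range.2 h)
  omega

end main

end K904.TopCount
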