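import Groth.Agent.DelIll.K904.TopLift
import Groth.Agent.DelIll.K904.ExtDual
import Groth.Agent.DelIll.K904.LatHyp

/-!
# The hypotheses of the duality argument for geometric data
-/

set_option autoImplicit false
set_option linter.unusedSectionVars false
set_option linter.style.haveILetI false

universe u

open CategoryTheory CategoryTheory.Limits AlgebraicGeometry Opposite TopologicalSpace
open Groth.Agent.Sga67.Sec Groth.Agent.Sga67.LocBasis Groth.Agent.Sga67.ExtSheaf
open Groth.Agent.Fga.MumCech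
open K912.Alt K912.Twist K912.Frame K912.LatCmp K912.Asm K912.Seq K912.Dim K912.Cx

namespace K904.TopGeo

attribute [local instance] algV modS modP

open _root_.K904.LatU _root_.K904.LatHyp _root_.K904.TopRho _root_.K904.ExtDual

variable {p : ℕ} {k : Type u} [Field k] {X : Scheme.{u}} [X.Over (Spec (CommRingCat.of k))]
  {E : X.Modules} {n : ℕ} (G : Geo p k X E n)

/-- The ambient exterior algebra. -/
abbrev W : Type u := ExteriorAlgebra G.R G.L

/-- The additional properties of the geometric data. -/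
structure TopG : Prop where
  surj : ∀ (s : Set G.ι), ∀ i ∈ s, ∀ (a : ℕ), ∀ y ∈ lat (Subalgebra.toSubmodule (G.As s)) (G.Ns s) a, G.D.d y = 0 →
    ∃ g ∈ lat (Subalgebra.toSubmodule (G.As s)) (G.Ns s) a,
      ∃ z ∈ latZ (Subalgebra.toSubmodule (G.As s)) (G.Ns s) ((a : ℤ) - 1), y = G.F i g + G.D.d z
  exC : ∃ C : W G →+ W G, (∀ y, C (G.D.d y) = 0) ∧ (∀ i y, C (G.F i y) = y) ∧
    ∀ (b : G.R) y, C (b ^ p • y) = b • C y
  leib : ∀ (a : ℕ), ∀ y ∈ ⋀[G.R]^a G.L, ∀ z, G.D.d (y * z) = G.D.d y * z + (-1 : ℤ) ^ a • (y * G.D.d z)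

variable {G} {La : ℕ → X.Modules} (φ : ∀ a, Phi a E (La a)) (hφ : ∀ a, PhiComp (φ a))

variable (G) in
/-- The lattices in the exterior algebra itself. -/
noncomputable def KW (a : ℤ) (s : Set G.ι) : Submodule k (W G) :=
  (sysZ (latU G φ) a s).comap (LinearMap.pi fun _ : Unit => LinearMap.id)

theorem mem_KW_iff (a : ℤ) (s : Set G.ι) (w : W G) : w ∈ KW G φ a s ↔ (fun _ => w) ∈ sysZ (latU G φ) a s := Iff.rfl

include hφ in
theorem mem_KW (a : ℤ) {s : Set G.ι} (hs : s.Nonempty) (w : W G) :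
    w ∈ KW G φ a s ↔ w ∈ latZ (Subalgebra.toSubmodule (G.As s)) (G.Ns s) a := by
  rw [mem_KW_iff]
  cases a with
  | ofNat a => exact mem_latU φ hφ a hs _
  | negSucc a =>
    constructor
    · intro h
      have h' : (fun _ : Unit => w) = 0 := h
      have h'' : w = 0 := congrFun h' ()
      rw [h'']
      exact Submodule.zero_mem _
    · intro h
      have h' : w = 0 := h
      rw [h']
      exact Submodule.zero_mem _

theorem KW_empty (a : ℤ) (w : W G) (hw : w ∈ KW G φ a ∅) : w = 0 := by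
  rw [mem_KW_iff, sysZ_empty (latU_empty φ) a] at hw
  exact congrFun (show (fun _ : Unit => w) = 0 from hw) ()

/-- The basis of a chart over the ambient open. -/
noncomputable def bs (G : Geo p k X E n) (i : G.ι) : Module.Basis (Fin n) G.R G.L := (G.hb i).basis (G.le i)

theorem isLat {s : Set G.ι} {i : G.ι} (hi : i ∈ s) : IsLat (bs G i) (G.As s) (G.Ns s) := by
  have hU : Us (fun i => (G.U i).1) s ≤ (G.U i).1 := iInf_le_of_le i (iInf_le_of_le hi le_rfl)
  refine ⟨fun j => ?_, fun w hw j => ?_⟩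
  · rw [bs, IsLocBasis.basis_apply]
    exact (mem_Nv k E _).2 ⟨res E hU (G.b i j), Groth.Agent.Sga67.Sec.res_res E _ _ _⟩
  · obtain ⟨x, rfl⟩ := (mem_Nv k E _).1 hw
    obtain ⟨c, rfl⟩ := ((G.hb i) _ hU).2 x
    rw [res_comb]
    have h1 : comb (G.b i) (G.le i) (fun l => resO X (le_Us (fun i => (G.U i).1) G.le s) (c l)) =
        ∑ l, resO X (le_Us (fun i => (G.U i).1) G.le s) (c l) • bs G i l := by
      rw [comb_apply]
      refine Finset.sum_congr rfl fun l _ => ?_
      rw [bs, IsLocBasis.basis_apply]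
    refine (mem_Av k _).2 ⟨c j, ?_⟩
    refine Eq.symm (Eq.trans (congrArg (fun z => (bs G i).repr z j) h1) ?_)
    rw [map_sum, Finsupp.coe_finsetSum, Finset.sum_apply, Finset.sum_eq_single j]
    · rw [map_smul, Module.Basis.repr_self, Finsupp.smul_apply, Finsupp.single_eq_same, smul_eq_mul, mul_one]
    · intro l _ hl
      rw [map_smul, Module.Basis.repr_self, Finsupp.smul_apply, Finsupp.single_eq_of_ne hl.symm, smul_zero]
    · exact fun h => absurd (Finset.mem_univ _) h

theorem ext_eq_zero (G : Geo p k X E n) {a : ℕ} (ha : n < a) {y : W G} (hy : y ∈ ⋀[G.R]^a G.L) : y = 0 := by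
  obtain ⟨i⟩ := G.nonempty_ι
  rw [sum_powersetCard (bs G i) hy]
  refine Finset.sum_eq_zero fun s _ => ?_
  have h1 : s.1.card = a := s.2
  have h2 := Finset.card_le_univ s.1
  rw [Fintype.card_fin] at h2
  omega

theorem lat_top (G : Geo p k X E n) {a : ℕ} (ha : n < a) {s : Set G.ι} {y : W G}
    (hy : y ∈ lat (Subalgebra.toSubmodule (G.As s)) (G.Ns s) a) : y = 0 :=
  ext_eq_zero G ha (lat_le_exteriorPower _ _ a hy)

theorem F_mem_lat (G : Geo p k X E n) {a : ℕ} {s : Set G.ι} {i : G.ι} (hi : i ∈ s) {y : W G}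
    (hy : y ∈ lat (Subalgebra.toSubmodule (G.As s)) (G.Ns s) a) :
    G.F i y ∈ lat (Subalgebra.toSubmodule (G.As s)) (G.Ns s) a := by
  have hsm : ∀ (b : G.R) (y : W G), G.F i (b • y) = b ^ p • G.F i y := fun b y => by
    rw [Algebra.smul_def, map_mul, G.hF, ← Algebra.smul_def]
  induction hy using Submodule.span_induction with
  | mem x hx =>
    obtain ⟨q, hq, w, hw, rfl⟩ := hx
    have h1 : G.F i (ExteriorAlgebra.ιMulti G.R a w) = ExteriorAlgebra.ιMulti G.R a (fun j => G.D.f i (w j)) := by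
      rw [ExteriorAlgebra.ιMulti_apply, ExteriorAlgebra.ιMulti_apply, map_list_prod, List.map_ofFn]
      congr 2
      funext j
      exact G.hFι _ _
    rw [hsm, h1]
    exact smul_ιMulti_mem ((G.As s).pow_mem hq p) fun j => G.f_mem s i hi _ (hw j)
  | zero =>
    rw [map_zero]
    exact Submodule.zero_mem _
  | add x y _ _ hx hy =>
    rw [map_add]
    exact Submodule.add_mem _ hx hy
  | smul t x _ hx =>
    rw [map_smul_F G.hF]
    exact Submodule.smul_mem _ _ hx

variable [Fact p.Prime]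

include hφ in
/-- **The hypotheses of the duality argument.** -/
theorem nonempty_top (hnp : n ≤ p) (hC : Cartier (triv G)) (hG : TopG G) :
    haveI := G.charP
    Nonempty (Top G.D G.F (KW G φ) n) := by
  haveI := G.charP
  obtain ⟨C, hC1, hC2, hC3⟩ := hG.exC
  have hcases : ∀ s : Set G.ι, s = ∅ ∨ s.Nonempty := Set.eq_empty_or_nonempty
  have hneg : ∀ a : ℤ, a < 0 → ∀ s, KW G φ a s = ⊥ := by
    intro a ha s
    rw [eq_bot_iff]
    intro w hw
    rcases hcases s with rfl | hs
    · exact KW_empty φ a w hw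
    · rw [mem_KW φ hφ a hs, latZ_neg _ _ ha] at hw
      exact hw
  have hdm : ∀ (a : ℤ) (s : Set G.ι) (w : W G), w ∈ KW G φ a s → G.D.d w ∈ KW G φ (a + 1) s := by
    intro a s w hw
    rcases hcases s with rfl | hs
    · rw [KW_empty φ a w hw, map_zero]
      exact Submodule.zero_mem _
    · obtain ⟨i, hi⟩ := hs
      rw [mem_KW φ hφ _ ⟨i, hi⟩] at hw ⊢
      have := hC.d_mem s i hi a w (by rwa [triv_Ps])
      rwa [triv_Ps] at this
  exact ⟨{
    C := C
    hn := hnp
    sys :=
      { mono := fun a s s' h w hw => sysZ_mono (latU_mono φ) a h hw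
        neg := hneg
        d_mem := hdm }
    hF := G.hF
    hFι := G.hFι
    leib := hG.leib
    C_d := hC1
    C_F := hC2
    C_pow := hC3
    K_le := by
      intro a s y hy
      rcases hcases s with rfl | hs
      · rw [KW_empty φ a y hy]
        exact Submodule.zero_mem _
      · rw [mem_KW φ hφ _ hs] at hy
        exact lat_le_exteriorPower _ _ a hy
    K_C := by
      intro s hs y hy
      rw [mem_KW φ hφ _ hs] at hy ⊢
      obtain ⟨i, hi⟩ := hs
      have hdy : G.D.d y = 0 := by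
        have h1 := hC.d_mem s i hi (n : ℤ) y (by rwa [triv_Ps])
        rw [triv_Ps] at h1
        exact lat_top G (Nat.lt_succ_self n) h1
      obtain ⟨g, hg, z, hz, hgz⟩ := hG.surj s i hi n y hy hdy
      rw [hgz, map_add, hC2, hC1, add_zero]
      exact hg
    K_mul := by
      intro a b s hs y hy z hz
      rw [mem_KW φ hφ _ hs] at hy hz ⊢
      rcases lt_or_ge a 0 with ha | ha
      · rw [latZ_neg _ _ ha] at hy
        rw [(Submodule.mem_bot k).1 hy, zero_mul]
        exact Submodule.zero_mem _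
      rcases lt_or_ge b 0 with hb | hb
      · rw [latZ_neg _ _ hb] at hz
        rw [(Submodule.mem_bot k).1 hz, mul_zero]
        exact Submodule.zero_mem _
      obtain ⟨a, rfl⟩ := Int.eq_ofNat_of_zero_le ha
      obtain ⟨b, rfl⟩ := Int.eq_ofNat_of_zero_le hb
      rw [← Nat.cast_add]
      exact mul_mem_lat hy hz
    K_F := by
      intro a s i hi y hy
      rw [mem_KW φ hφ _ ⟨i, hi⟩] at hy ⊢
      exact F_mem_lat G hi hy
    K_Ψ := by
      intro a s g hg m i hi
      have hs : s.Nonempty := ⟨i 0, hi (mem_rg i (Nat.zero_le m))⟩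
      rw [mem_KW φ hφ _ hs] at hg ⊢
      exact K912.Alt.Ψ_mem G.D (G.As s) (G.Ns s) s (G.f_mem s) (G.h_mem s) a hg m i hi
    surj := by
      intro s i hi a _ y hy hdy
      rw [mem_KW φ hφ _ ⟨i, hi⟩] at hy
      obtain ⟨g, hg, z, hz, h⟩ := hG.surj s i hi a y hy hdy
      exact ⟨g, (mem_KW φ hφ _ ⟨i, hi⟩ _).2 hg, z, (mem_KW φ hφ _ ⟨i, hi⟩ _).2 hz, h⟩
    top := by
      intro a ha s
      rw [eq_bot_iff]
      intro w hw
      rcases hcases s with rfl | hs
      · exact KW_empty φ a w hw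
      · rw [mem_KW φ hφ _ hs] at hw
        obtain ⟨a, rfl⟩ := Int.eq_ofNat_of_zero_le (show 0 ≤ a by omega)
        exact lat_top G (by exact_mod_cast ha) hw
    dual := by
      intro s hs j e hje f hf
      obtain ⟨i, hi⟩ := hs
      obtain ⟨y, hy, h⟩ := exists_mul_eq (isLat hi) (j := j) (e := e) (by rw [Fintype.card_fin]; exact hje) f
        (fun g hg => by
          have h1 := hf g ((mem_KW φ hφ _ ⟨i, hi⟩ _).2 hg)
          rw [mem_KW φ hφ _ ⟨i, hi⟩] at h1
          rw [Fintype.card_fin]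
          exact h1)
      exact ⟨y, (mem_KW φ hφ _ ⟨i, hi⟩ _).2 hy, h⟩
    uniq := by
      intro j e hje y hy h
      obtain ⟨i⟩ := G.nonempty_ι
      exact eq_zero_of_mul (bs G i) (by rw [Fintype.card_fin]; exact hje) hy h }⟩

end K904.TopGeo
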