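import Groth.Agent.DelIll.K904.TopRho

/-!
# The dual Deligne--Illusie maps are surjective on cohomology in degrees `≥ n`
-/

set_option autoImplicit false

namespace K904.TopRho

open K912.Seq K912.Cx K912.Alt K912.Stair K912.Dim _root_.K904.Cup
open scoped Nat

variable {p : ℕ} [Fact p.Prime] {ι R L : Type*} [CommRing R] [CharP R p] [AddCommGroup L] [Module R L]
  {k : Type*} [Field k] [Algebra k R] [Module k L] [IsScalarTower k R L]
variable {X : Dat p ι R L} {F : ι → ExteriorAlgebra R L →+* ExteriorAlgebra R L}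
  {K : ℤ → Set ι → Submodule k (ExteriorAlgebra R L)} {n : ℕ} (t : Top X F K n)

include t in
theorem F_smul (i : ι) (b : R) (y : ExteriorAlgebra R L) : F i (b • y) = b ^ p • F i y := by
  rw [Algebra.smul_def, map_mul, t.hF, ← Algebra.smul_def]

include t in
theorem d_F (i : ι) (y : ExteriorAlgebra R L) : X.d (F i y) = 0 := by
  have hg : y ∈ Submodule.span R
      (Set.range fun x : Σ n, (Fin n → L) => ExteriorAlgebra.ιMulti R x.1 x.2) := by
    rw [ExteriorAlgebra.ιMulti_span]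
    trivial
  induction hg using Submodule.span_induction with
  | mem x hx =>
    obtain ⟨⟨a, v⟩, rfl⟩ := hx
    dsimp only
    induction a with
    | zero => rw [ExteriorAlgebra.ιMulti_zero_apply, map_one, X.d_one]
    | succ a ih => rw [ExteriorAlgebra.ιMulti_succ_apply, map_mul, t.hFι, X.anti, ih, mul_zero, neg_zero]
  | zero => rw [map_zero, map_zero]
  | add x y _ _ hx hy => rw [map_add, map_add, hx, hy, add_zero]
  | smul b x _ hx => rw [F_smul t, X.d_pow, hx, smul_zero]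

include t in
/-- On functions the Frobenius does not depend on the chart. -/
theorem F_indep (i i' : ι) {s : Set ι} {y : ExteriorAlgebra R L} (hy : y ∈ K 0 s) : F i y = F i' y := by
  have h1 : y ∈ ⋀[R]^0 L := t.K_le 0 s y (by rwa [Nat.cast_zero])
  rw [ExteriorAlgebra.exteriorPower, pow_zero, Submodule.one_eq_range] at h1
  obtain ⟨b, rfl⟩ := h1
  exact (t.hF i b).trans (t.hF i' b).symm

theorem C_d_mul {a : ℤ} {s : Set ι} {z : ExteriorAlgebra R L} (hz : z ∈ K a s) (i : ι) (g : ExteriorAlgebra R L) :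
    t.C (X.d z * F i g) = 0 := by
  rcases lt_or_ge a 0 with ha | ha
  · rw [t.sys.neg a ha, Submodule.mem_bot] at hz
    rw [hz, map_zero, zero_mul, map_zero]
  · obtain ⟨a, rfl⟩ := Int.eq_ofNat_of_zero_le ha
    have h1 := t.leib a z (t.K_le _ _ _ hz) (F i g)
    rw [d_F t, mul_zero, smul_zero, add_zero] at h1
    rw [← h1, t.C_d]

theorem C_F_mul (i : ι) (h g : ExteriorAlgebra R L) : t.C (F i h * F i g) = h * g := by
  rw [← map_mul, t.C_F]

section

variable [CharP k p]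

omit [CharP R p] in
theorem fac_ne {e : ℕ} (he : e < p) : ((e ! : ℕ) : k) ≠ 0 := K912.Twist.isUnit_factorial he

omit [CharP R p] [CharP k p] [IsScalarTower k R L] [Module k L] in
theorem eq_zero_of_fac (k : Type*) [Field k] [CharP k p] [Algebra k R] {e : ℕ} (he : e < p)
    {y : ExteriorAlgebra R L} (h : e ! • y = 0) : y = 0 := by
  let := Module.compHom (ExteriorAlgebra R L) (algebraMap k R)
  rw [← Nat.cast_smul_eq_nsmul k] at h
  exact (smul_eq_zero_iff_right (K912.Twist.isUnit_factorial he)).1 h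

/-- `rho` of an element concentrated in one Čech degree. -/
theorem rho_sing {m j : ℕ} (hj1 : 1 ≤ j) (hj : j ≤ n) (hjm : j ≤ m) {w : (ℕ → ι) → ExteriorAlgebra R L}
    (hw : w ∈ Coch (K j) (m - j)) :
    (sing (m - j) (fun i => F (i (m - j)) ((((n - j)! : ℕ) : k)⁻¹ • w i)) ∈ Tot K m) ∧
      rho t m j (sing (m - j) (fun i => F (i (m - j)) ((((n - j)! : ℕ) : k)⁻¹ • w i))) = w := by
  have h1 : (fun i : ℕ → ι => F (i (m - j)) ((((n - j)! : ℕ) : k)⁻¹ • w i)) ∈ Coch (K j) (m - j) := by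
    refine ⟨fun i i' h => ?_, fun i => ?_⟩
    · dsimp only
      rw [hw.1 i i' h, h (m - j) le_rfl]
    · exact t.K_F j _ _ (mem_rg i le_rfl) _ (Submodule.smul_mem _ _ (hw.2 i))
  have h2 : sing (m - j) (fun i : ℕ → ι => F (i (m - j)) ((((n - j)! : ℕ) : k)⁻¹ • w i)) ∈ Tot K m := by
    refine sing_mem ?_
    have e : (m : ℤ) - ((m - j : ℕ) : ℤ) = j := by omega
    rwa [e]
  refine ⟨h2, ?_⟩
  funext i
  rw [← sub_eq_zero]
  refine t.uniq j (n - j) (by omega) _ (Submodule.sub_mem _ (t.K_le _ _ _ (rho_mem' t hj hjm h2 i))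
    (t.K_le _ _ _ (hw.2 i))) fun g hg => ?_
  have hn := t.hn
  rw [sub_mul, rho_low t hj hjm h2 (fun q hq => sing_ne (by omega) _) i g hg, sing_self, C_F_mul, smul_mul_assoc,
    ← Nat.cast_smul_eq_nsmul k, smul_smul, mul_inv_cancel₀ (fac_ne (by omega)), one_smul, sub_self]

/-- Correction by closed elements. -/
theorem exists_fix (m : ℕ) (j₀ : ℕ) (hj : j₀ ≤ n) (hjm : j₀ ≤ m) (x : T ι (ExteriorAlgebra R L)) (hx : x ∈ Tot K m)
    (c : ℕ → (ℕ → ι) → ExteriorAlgebra R L) (hc : ∀ j, 1 ≤ j → j ≤ j₀ → c j ∈ Coch (K j) (m - j)) :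
    ∃ u ∈ Tot K m, (∀ q < m - j₀, u q = 0) ∧ (∀ q i, X.d (u q i) = 0) ∧
      ∀ j, 1 ≤ j → j ≤ j₀ → rho t m j (x + u) = c j := by
  induction j₀ generalizing x with
  | zero =>
    exact ⟨0, Submodule.zero_mem _, fun _ _ => rfl, fun _ _ => map_zero _, fun j h1 h2 => by omega⟩
  | succ j₀ ih =>
    have hw : c (j₀ + 1) - rho t m (j₀ + 1) x ∈ Coch (K ((j₀ + 1 : ℕ) : ℤ)) (m - (j₀ + 1)) :=
      Submodule.sub_mem _ (hc _ (by omega) le_rfl) (rho_mem t hj hjm hx)
    obtain ⟨h1, h2⟩ := rho_sing t (by omega) hj hjm hw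
    set u₁ := sing (m - (j₀ + 1)) (fun i : ℕ → ι => F (i (m - (j₀ + 1)))
      ((((n - (j₀ + 1))! : ℕ) : k)⁻¹ • (c (j₀ + 1) - rho t m (j₀ + 1) x) i)) with hu₁
    obtain ⟨u₂, h3, h4, h5, h6⟩ := ih (by omega) (by omega) (x + u₁) (Submodule.add_mem _ hx h1)
      (fun j hj1 hj2 => hc j hj1 (by omega))
    refine ⟨u₁ + u₂, Submodule.add_mem _ h1 h3, fun q hq => ?_, fun q i => ?_, fun j hj1 hj2 => ?_⟩
    · rw [Pi.add_apply, h4 q (by omega), hu₁, sing_ne (by omega), add_zero]
    · rw [Pi.add_apply, Pi.add_apply, map_add, h5, add_zero, hu₁]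
      by_cases hq : q = m - (j₀ + 1)
      · subst hq
        rw [sing_self, d_F t]
      · rw [sing_ne hq, Pi.zero_apply, map_zero]
    · rw [← add_assoc]
      rcases Nat.lt_or_ge j₀ j with hlt | hge
      · have hj' : j = j₀ + 1 := by omega
        subst hj'
        rw [rho_congr t hj hjm (Submodule.add_mem _ hx h1) (x := x + u₁ + u₂) (fun q hq => by
          rw [Pi.add_apply, h4 q (by omega), add_zero]), rho_add t hj hjm hx h1, h2, add_sub_cancel]
      · exact h6 j hj1 hge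

end

variable [CharP k p]

omit [CharP k p] in
include t in
/-- The last step: an element of form degree zero. -/
theorem exists_last (m : ℕ) (hvan : ∀ c ∈ Zc (K 0) (m + 1), c ∈ Bc (K 0) (m + 1)) (z : T ι (ExteriorAlgebra R L))
    (hz : z ∈ Tot K ((m + 1 : ℕ) : ℤ)) (hDz : D X.d z = 0) (h0 : ∀ q < m + 1, z q = 0) :
    ∃ w ∈ Tot K m, D X.d w = z ∧ ∀ q < m, w q = 0 := by
  have e0 : ((m + 1 : ℕ) : ℤ) - ((m + 1 : ℕ) : ℤ) = 0 := by ring
  have hz1 := hz (m + 1)
  rw [e0] at hz1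
  have hδ : δ (m + 1) (z (m + 1)) = 0 := by
    funext i
    have h1 := congrFun (congrFun hDz (m + 2)) i
    rw [D_succ_apply, eq_zero_of_gt t.sys hz (n := m + 1 + 1) (by push_cast; omega), Pi.zero_apply, map_zero,
      smul_zero, add_zero] at h1
    exact h1
  have hcl : ∀ i, X.d (z (m + 1) i) = 0 := by
    intro i
    have h1 := congrFun (congrFun hDz (m + 1)) i
    rw [D_succ_apply, h0 m (by omega), δ_zero, Pi.zero_apply, zero_add] at h1
    have h2 := congrArg (fun w => (-1 : ℤ) ^ (m + 1) • w) h1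
    simp only [smul_smul, ← mul_pow] at h2
    simpa using h2
  have hF : ∀ i, t.C (z (m + 1) i) ∈ K 0 (rg (m + 1) i) ∧ z (m + 1) i = F (i (m + 1)) (t.C (z (m + 1) i)) := by
    intro i
    obtain ⟨g, hg, y, hy, hgy⟩ := t.surj _ (i (m + 1)) (mem_rg i le_rfl) 0 (Nat.zero_le _) _
      (by rw [Nat.cast_zero]; exact hz1.2 i) (hcl i)
    rw [t.sys.neg _ (by simp), Submodule.mem_bot] at hy
    rw [hy, map_zero, add_zero] at hgy
    rw [Nat.cast_zero] at hg
    rw [hgy, t.C_F]
    exact ⟨hg, rfl⟩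
  have hZ : (fun i => t.C (z (m + 1) i)) ∈ Zc (K 0) (m + 1) := by
    refine mem_Zc.2 ⟨⟨fun i i' h => ?_, fun i => (hF i).1⟩, ?_⟩
    · dsimp only
      rw [hz1.1 i i' h]
    · funext i
      rw [δ_map, hδ]
      exact map_zero _
  obtain ⟨b, hb, hb'⟩ := mem_Bc_succ.1 (hvan _ hZ)
  have hw : (fun i : ℕ → ι => F (i 0) (b i)) ∈ Coch (K 0) m := by
    refine ⟨fun i i' h => ?_, fun i => ?_⟩
    · dsimp only
      rw [hb.1 i i' h, h 0 (Nat.zero_le _)]
    · have := t.K_F 0 (rg m i) (i 0) (mem_rg i (Nat.zero_le _)) (b i) (by rw [Nat.cast_zero]; exact hb.2 i)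
      rwa [Nat.cast_zero] at this
  refine ⟨sing m (fun i : ℕ → ι => F (i 0) (b i)), sing_mem (by rw [sub_self]; exact hw), ?_,
    fun q hq => sing_ne (by omega) _⟩
  funext q i
  rcases lt_trichotomy q m with h | h | h
  · rw [D_sing_lt _ h, h0 q (by omega)]
  · subst h
    rw [D_sing_self, d_F t, smul_zero, h0 q (by omega)]
    rfl
  · obtain ⟨q, rfl⟩ : ∃ q', q = q' + 1 := ⟨q - 1, by omega⟩
    rw [D_succ_apply, sing_ne (show q + 1 ≠ m by omega), Pi.zero_apply, map_zero, smul_zero, add_zero]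
    rcases Nat.lt_or_ge m q with h' | h'
    · rw [sing_ne (show q ≠ m by omega), δ_zero, eq_zero_of_gt t.sys hz (by push_cast; omega)]
    · have : q = m := by omega
      subst this
      rw [sing_self, (hF i).2, ← congrFun hb' i, δ_apply, δ_apply, map_sum]
      refine Finset.sum_congr rfl fun l _ => ?_
      rw [map_zsmul, F_indep t (face l i 0) (i (q + 1)) (hb.2 (face l i))]

/-- A closed element killed by all `rho` is a boundary. -/
theorem exists_prim (m : ℕ) (hm : n ≤ m) (hvan : ∀ c ∈ Zc (K 0) (m + 1), c ∈ Bc (K 0) (m + 1)) (r : ℕ) :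
    ∀ q : ℕ, m + 1 ≤ q + r → ∀ z ∈ Tot K ((m + 1 : ℕ) : ℤ), D X.d z = 0 → (∀ l < q, z l = 0) →
      (∀ j, 1 ≤ j → j ≤ n → rho t (m + 1) j z = 0) →
      ∃ w ∈ Tot K m, D X.d w = z ∧ ∀ j, 1 ≤ j → j ≤ n → rho t m j w = 0 := by
  induction r with
  | zero =>
    intro q hq z hz hDz h0 _
    obtain ⟨w, hw, h1, h2⟩ := exists_last t m hvan z hz hDz (fun l hl => h0 l (by omega))
    refine ⟨w, hw, h1, fun j hj1 hj => ?_⟩
    rw [rho_congr t hj (by omega) (Submodule.zero_mem _) (fun l hl => h2 l (by omega)), rho_zero t hj]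
  | succ r ih =>
    intro q hq z hz hDz h0 hρ
    by_cases hqr : m + 1 ≤ q + r
    · exact ih q hqr z hz hDz h0 hρ
    have hqm : q ≤ m := by omega
    have hcl : ∀ i, X.d (z q i) = 0 := by
      intro i
      have h1 := congrFun (congrFun hDz q) i
      cases q with
      | zero => exact h1
      | succ q =>
        rw [D_succ_apply, h0 q (by omega), δ_zero, Pi.zero_apply, zero_add] at h1
        have h2 := congrArg (fun w => (-1 : ℤ) ^ (q + 1) • w) h1
        simp only [smul_smul, ← mul_pow] at h2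
        simpa using h2
    have ea : ((m + 1 : ℕ) : ℤ) - (q : ℤ) = ((m + 1 - q : ℕ) : ℤ) := by omega
    by_cases han : n < m + 1 - q
    · have hzq : z q = 0 := by
        funext i
        have h1 := (hz q).2 i
        rw [ea, t.top _ (by exact_mod_cast han)] at h1
        exact h1
      refine ih (q + 1) (by omega) z hz hDz (fun l hl => ?_) hρ
      rcases Nat.lt_succ_iff_lt_or_eq.1 hl with h | rfl
      · exact h0 l h
      · exact hzq
    have han' : m + 1 - q ≤ n := by omega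
    obtain ⟨y, hy, hzy⟩ := exists_coch (k := k) (N := K ((m : ℤ) - q)) (n := q)
      (P := fun i y => z q i = X.d y) (fun i => by
        have hzi := (hz q).2 i
        rw [ea] at hzi
        obtain ⟨g, hg, y, hy, hgy⟩ := t.surj _ (i q) (mem_rg i le_rfl) (m + 1 - q) han' _ hzi (hcl i)
        have hg0 : g = 0 := by
          refine t.uniq (m + 1 - q) (n - (m + 1 - q)) (by omega) _ (t.K_le _ _ _ hg) fun g' hg' => ?_
          have hjm : m + 1 - q ≤ m + 1 := by omega
          have eq1 : m + 1 - (m + 1 - q) = q := by omega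
          have h1 := rho_low t han' hjm hz (fun l hl => h0 l (by omega)) i g' hg'
          rw [hρ _ (by omega) han', Pi.zero_apply, zero_mul, eq1, hgy, add_mul, map_add, C_F_mul,
            C_d_mul t hy, add_zero] at h1
          have hn := t.hn
          exact eq_zero_of_fac k (by omega) h1.symm
        refine ⟨y, ?_, ?_⟩
        · have e : ((m + 1 - q : ℕ) : ℤ) - 1 = m - q := by omega
          rwa [e] at hy
        · rw [hgy, hg0, map_zero, zero_add]) (fun i i' hi w hw => by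
        rw [← (hz q).1 i i' hi, hw])
    have hw0 : sing q ((-1 : ℤ) ^ q • y) ∈ Tot K m := sing_mem (zsmul_mem hy _)
    obtain ⟨u, hu, hu0, hucl, huρ⟩ := exists_fix t m (m - q) (by omega) (by omega) _ hw0 (fun _ => 0)
      (fun j _ _ => Submodule.zero_mem _)
    set w₁ := sing q ((-1 : ℤ) ^ q • y) + u with hw₁
    have hw₁m : w₁ ∈ Tot K m := Submodule.add_mem _ hw0 hu
    have hw₁0 : ∀ l < q, w₁ l = 0 := fun l hl => by
      rw [hw₁, Pi.add_apply, sing_ne (by omega), hu0 l (by omega), add_zero]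
    have hw₁ρ : ∀ j, 1 ≤ j → j ≤ n → rho t m j w₁ = 0 := by
      intro j hj1 hj
      rcases Nat.lt_or_ge (m - q) j with hlt | hge
      · rw [rho_congr t hj (by omega) (Submodule.zero_mem _) (fun l hl => hw₁0 l (by omega)), rho_zero t hj]
      · exact huρ j hj1 hge
    have hDw : D X.d w₁ ∈ Tot K ((m + 1 : ℕ) : ℤ) := by
      have := D_mem t.sys hw₁m
      rwa [Nat.cast_succ]
    have hDw0 : ∀ l < q + 1, (z - D X.d w₁) l = 0 := by
      intro l hl
      funext i
      rw [Pi.sub_apply, Pi.sub_apply]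
      rcases Nat.lt_succ_iff_lt_or_eq.1 hl with h | rfl
      · rw [h0 l h, D_congr X.d (y := 0) (fun l' hl' => hw₁0 l' (by omega)), D_zero]
        simp
      · have h1 : D X.d w₁ l i = (-1 : ℤ) ^ l • X.d (w₁ l i) := by
          cases l with
          | zero => rw [D_zero_apply, pow_zero, one_smul]
          | succ l => rw [D_succ_apply, hw₁0 l (by omega), δ_zero, Pi.zero_apply, zero_add]
        rw [h1, hw₁, Pi.add_apply, Pi.add_apply, map_add, hucl, add_zero, sing_self, Pi.smul_apply, map_zsmul,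
          ← hzy i, smul_smul, ← mul_pow]
        simp
    obtain ⟨w₂, hw₂, h1, h2⟩ := ih (q + 1) (by omega) (z - D X.d w₁) (Submodule.sub_mem _ hz hDw)
      (by rw [D_sub, hDz, D_D X.d X.dd, sub_zero]) hDw0 (fun j hj1 hj => by
        rw [rho_sub t hj (by omega) hz hDw, hρ j hj1 hj, rho_D t hj (by omega) hw₁m, hw₁ρ j hj1 hj, δ_zero, sub_zero])
    refine ⟨w₁ + w₂, Submodule.add_mem _ hw₁m hw₂, ?_, fun j hj1 hj => ?_⟩
    · rw [D_add, h1]
      abel
    · rw [rho_add t hj (by omega) hw₁m hw₂, hw₁ρ j hj1 hj, h2 j hj1 hj, add_zero]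

/-- **Surjectivity of the dual Deligne--Illusie maps on cohomology.** -/
theorem exists_lift (m : ℕ) (hm : n ≤ m) (hvan : ∀ c ∈ Zc (K 0) (m + 1), c ∈ Bc (K 0) (m + 1))
    (c : ℕ → (ℕ → ι) → ExteriorAlgebra R L) (hc : ∀ j : ℕ, 1 ≤ j → j ≤ n → c j ∈ Zc (K j) (m - j)) :
    ∃ x ∈ Tot K m, D X.d x = 0 ∧ ∀ j, 1 ≤ j → j ≤ n → rho t m j x = c j := by
  obtain ⟨u, hu, -, -, hρ⟩ := exists_fix t m n le_rfl hm 0 (Submodule.zero_mem _) c
    (fun j h1 h2 => (mem_Zc.1 (hc j h1 h2)).1)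
  simp only [zero_add] at hρ
  have hDu : D X.d u ∈ Tot K ((m + 1 : ℕ) : ℤ) := by
    have := D_mem t.sys hu
    rwa [Nat.cast_succ]
  obtain ⟨w, hw, h1, h2⟩ := exists_prim t m hm hvan (m + 1) 0 (by omega) (D X.d u) hDu (D_D X.d X.dd u)
    (fun l hl => by omega) (fun j hj1 hj => by
      rw [rho_D t hj (by omega) hu, hρ j hj1 hj, (mem_Zc.1 (hc j hj1 hj)).2])
  refine ⟨u - w, Submodule.sub_mem _ hu hw, ?_, fun j hj1 hj => ?_⟩
  · rw [D_sub, h1, sub_self]
  · rw [rho_sub t hj (by omega) hu hw, hρ j hj1 hj, h2 j hj1 hj, sub_zero]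

end K904.TopRho
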