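import Groth.Agent.DelIll.K904.GeoTop
import Groth.Agent.S0458

/-!
# Degeneration of the logarithmic Hodge to de Rham spectral sequence in characteristic `p` for `dim X ≤ p`
-/

set_option autoImplicit false
set_option linter.unusedSectionVars false
set_option linter.style.haveILetI false

universe w u

open CategoryTheory CategoryTheory.Limits AlgebraicGeometry Opposite TopologicalSpace
open Groth.Agent.Sga67.Sec Groth.Agent.Sga67.LocBasis Groth.Agent.Sga67.ExtSheaf
open Groth.Agent.Fga.MumCech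
open FrobAlg K673.W2Basic K673.Lift

namespace K904.TopMain

open _root_.K904.GeoUp _root_.K904.DegCount _root_.K904.FmExists _root_.K922.Coord _root_.K904.TopGeo
open _root_.K904.GeoCovT _root_.K904.GeoCover _root_.K904.LatHyp _root_.K904.LatU _root_.K904.GeoDt _root_.K904.GeoCh _root_.K922.DSec _root_.K904.LogCxK _root_.K904.LogCxE
open K912.Alt K912.Twist K912.Frame K912.LatCmp K912.Asm K912.Seq K912.Fam K912.Dim

attribute [local instance] algV modS modP

variable {p : ℕ} [Fact p.Prime] {k : Type u} [Field k] [CharP k p] [PerfectRing k p]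
variable {X : Scheme.{u}} [X.Over (Spec (CommRingCat.of k))]
variable {Xl : Scheme.{u}} {g : Xl ⟶ Spec (CommRingCat.of (W2 p k))} {i : X ⟶ Xl} [Flat g]
variable {r : ℕ} {D : Fin r → X.IdealSheafData} {Dl : Fin r → Xl.IdealSheafData}
  {Ω' : X.Modules} {d : OmegaSh.Der (X ↘ Spec (CommRingCat.of k)) Ω'}


/-- **Existence of the geometric data**, with the additional properties. -/
theorem exists_fm [QuasiCompact (X ↘ Spec (CommRingCat.of k))] [IsSeparated (X ↘ Spec (CommRingCat.of k))]
    [Smooth (X ↘ Spec (CommRingCat.of k))]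
    (hl : IsPullback i (X ↘ Spec (CommRingCat.of k)) g (spW p k)) (hd : _root_.K922.Coord.AffUniv d)
    (hD : LogNCD.IsNCD D (X ↘ Spec (CommRingCat.of k))) (hDl : ∀ j, (Dl j).comap i = D j)
    (hDlf : ∀ j, Flat ((Dl j).subschemeι ≫ g)) (Λ : LogNCD.LogMod d D) :
    ∃ F : Fm p k Λ, ∀ c, TopG (F.G c) := by
  haveI : IsClosedImmersion i := isClosedImmersion hl
  haveI : Surjective i := GeoUp.surjective hl
  haveI : CompactSpace X := QuasiCompact.compactSpace_of_compactSpace (X ↘ Spec (CommRingCat.of k))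
  haveI : X.IsSeparated := ⟨by
    rw [← terminal.comp_from (X ↘ Spec (CommRingCat.of k))]
    infer_instance⟩
  haveI : IsLocallyNoetherian X := LocallyOfFiniteType.isLocallyNoetherian (X ↘ Spec (CommRingCat.of k))
  haveI : IsNoetherian X := ⟨⟩
  haveI : IsReduced X := Groth.Agent.Etcore.SmoothRed.isReduced_of_smooth (X ↘ Spec (CommRingCat.of k))
  haveI : CharX X p := charX p k X
  obtain ⟨hdisj, hopen⟩ := components (X ↘ Spec (CommRingCat.of k))
  have hfin : (irreducibleComponents X).Finite := NoetherianSpace.finite_irreducibleComponents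
  let T : irreducibleComponents X → X.Opens := fun c => ⟨c.1, hopen c.1 c.2⟩
  have hT : ∀ c : irreducibleComponents X, IsIrreducible (T c : Set X) := fun c => c.2.1
  have hC : ∀ c : irreducibleComponents X, ∃ C : GeoCovT.Cov i Dl Λ (T c), ∀ j : C.ι, True := fun c => by
    obtain ⟨C, -⟩ := GeoCovT.exists_cov (isClosed_of_mem_irreducibleComponents c.1 c.2).isCompact (hT c) hl hd hD hDl
      (fun _ => True) (fun x _ => ⟨⊤, trivial, fun _ _ => trivial⟩)
    exact ⟨C, fun _ => trivial⟩
  choose C _ using hC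
  exact ⟨{
    C := irreducibleComponents X
    fin := hfin.fintype
    n := _
    G := fun c => (C c).geo hl hDl hDlf
    finι := fun c => (C c).fin
    disj := by
      intro c c' j j' hcc
      have h1 : T c ⊓ T c' = ⊥ := by
        rw [eq_bot_iff]
        intro x hx
        have h2 := hdisj c.2 c'.2 (fun h => hcc (Subtype.ext h))
        exact (Set.disjoint_iff.1 h2 ⟨hx.1, hx.2⟩).elim
      rw [eq_bot_iff, ← h1]
      exact inf_le_inf ((C c).le j) ((C c').le j')
    cov := by
      rw [eq_top_iff]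
      intro x _
      let c : irreducibleComponents X := ⟨irreducibleComponent x, irreducibleComponent_mem_irreducibleComponents x⟩
      have hx : x ∈ T c := mem_irreducibleComponent
      rw [← (C c).sup] at hx
      obtain ⟨j, hj⟩ := Opens.mem_iSup.1 hx
      exact Opens.mem_iSup.2 ⟨⟨c, j⟩, hj⟩
    cartier := fun c => (C c).cartier hl hDl hDlf
    le := fun c => (C c).V0_le_DC
    link := fun c => (C c).link hl hDl hDlf }, fun c => (C c).topG hl hDl hDlf⟩

section count

variable {Λ : LogNCD.LogMod d D} (F : Fm p k Λ) [IsProper (X ↘ Spec (CommRingCat.of k))]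
  [Smooth (X ↘ Spec (CommRingCat.of k))] (hd : AffUniv d) (hD : LogNCD.IsNCD D (X ↘ Spec (CommRingCat.of k)))
  (K : DeRhamSh.Cx (X ↘ Spec (CommRingCat.of k)) Λ.L (LogNCD.der Λ))

include hd hD K in
/-- The ranks are bounded by the dimension. -/
theorem rank_le {N : ℕ} (hdim : topologicalKrullDim X ≤ N) (c : F.C) : F.n c ≤ N := by
  by_contra hlt
  push Not at hlt
  haveI := (F.G c).charP
  haveI : Nontrivial (F.G c).R := CharP.nontrivial_of_char_ne_one (R := (F.G c).R) (v := p) (Fact.out : p.Prime).ne_one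
  obtain ⟨i⟩ := (F.G c).nonempty_ι
  have h1 := F.latU_eq_bot K (LogCxZ.isZero_term hd hdim hD K (N + 1) (by omega)) c {i}
  obtain ⟨S, -, hS⟩ := Finset.exists_subset_card_eq (s := (Finset.univ : Finset (Fin (F.n c)))) (n := N + 1)
    (by rw [Finset.card_univ, Fintype.card_fin]; omega)
  have h2 : (TopGeo.bs (F.G c) i).ExteriorAlgebra S ∈
      lat (Subalgebra.toSubmodule ((F.G c).As {i})) ((F.G c).Ns {i}) (N + 1) := by
    rw [ExtDual.mem_lat_iff (TopGeo.isLat (Set.mem_singleton i))]
    refine ⟨LocalCartier.basis_mem_degree _ _ hS, fun S' => ?_⟩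
    rw [Module.Basis.repr_self, Finsupp.single_apply]
    split_ifs
    · exact ((F.G c).As {i}).one_mem
    · exact ((F.G c).As {i}).zero_mem
  have h3 : (fun _ : Unit => (TopGeo.bs (F.G c) i).ExteriorAlgebra S) ∈ latU (F.G c) (kφ Λ K) (N + 1) {i} :=
    (mem_latU (kφ Λ K) (kφ_comp Λ K) (N + 1) (Set.singleton_nonempty i) _).2 h2
  rw [h1, Submodule.mem_bot] at h3
  exact (TopGeo.bs (F.G c) i).ExteriorAlgebra.ne_zero S (congrFun h3 ())

include hd hD in
/-- Vanishing above the dimension. -/
theorem subsingleton_Hc {N : ℕ} (hdim : topologicalKrullDim X ≤ N) (c : F.C) (a q : ℕ) (hq : N < q) :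
    Subsingleton (Hc (latU (F.G c) (kφ Λ K) a) q) := by
  haveI : CompactSpace X := QuasiCompact.compactSpace_of_compactSpace (X ↘ Spec (CommRingCat.of k))
  haveI : IsLocallyNoetherian X := LocallyOfFiniteType.isLocallyNoetherian (X ↘ Spec (CommRingCat.of k))
  haveI : IsNoetherian X := ⟨⟩
  haveI : NoetherianSpace (X.toTopCat) := inferInstanceAs (NoetherianSpace X)
  have h0 : Subsingleton (Coh.HH X (K.term a) q) :=
    Groth.Agent.S0458.result (X := X.toTopCat) N hdim (Coh.toAb (K.term a)) q hq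
  have hfin := MainLt.finite_term hd hD K a q
  have h1 := F.finrank_term K hd hD a q hfin
  have h2 := F.finite_term K hd hD a q hfin c
  let := F.fin
  rw [Module.finrank_zero_of_subsingleton] at h1
  have h3 := (Finset.sum_eq_zero_iff.1 h1.symm) c (Finset.mem_univ c)
  exact Module.finrank_zero_iff.1 h3

include hd hD in
/-- **The dimension inequality in all total degrees.** -/
theorem sum_le (hT : ∀ c, TopG (F.G c)) (hdim : topologicalKrullDim X ≤ p) (m : ℕ) (c : F.C) :
    ∑ a ∈ Finset.range (m + 1), Module.finrank k (Hc (latU (F.G c) (kφ Λ K) a) (m - a)) ≤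
      Module.finrank k (Ht (dJ (F.G c).D MainLt.exists_root) (sysZ (latU (F.G c) (kφ Λ K))) m) := by
  have hn := rank_le F hd hD K hdim c
  have hfin : ∀ a ≤ m, Module.Finite k (Hc (latU (F.G c) (kφ Λ K) a) (m - a)) := fun a _ =>
    F.finite_term K hd hD a (m - a) (MainLt.finite_term hd hD K a (m - a)) c
  by_cases hcase : m < p ∨ F.n c < p
  · refine LatHyp.sum_le (kφ Λ K) (kφ_comp Λ K) MainLt.exists_root (F.cartier c) m (fun a ha => ?_) hfin
    by_cases hap : a < p
    · exact Or.inl hap
    · exact Or.inr fun s => TopCount.latU_eq_bot (kφ Λ K) (kφ_comp Λ K) (by omega) s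
  · push Not at hcase
    refine TopCount.sum_le (kφ Λ K) (kφ_comp Λ K) MainLt.exists_root (F.cartier c) (hT c) hn m (by omega) ?_
      (subsingleton_Hc F hd hD K hdim c 0 (m + 1) (by omega)) hfin
    by_cases hmp : m ≤ p
    · exact Or.inl hmp
    · exact Or.inr (subsingleton_Hc F hd hD K hdim c 0 m (by omega))

variable [HasDerivedCategory.{w} (Sheaf (Opens.grothendieckTopology X) AddCommGrpCat.{u})]

include F hd hD in
/-- **Degeneration in total degree `m`.** -/
theorem degeneratesAt_nat (hT : ∀ c, TopG (F.G c)) (hdim : topologicalKrullDim X ≤ p) (m : ℕ) (j : ℤ) :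
    E1Deg.DegeneratesAt (CohCx.freeSheaf (Opens.grothendieckTopology X) (⊤ : X.Opens)) K.KZ m j := by
  haveI : CompactSpace X := QuasiCompact.compactSpace_of_compactSpace (X ↘ Spec (CommRingCat.of k))
  obtain ⟨N, hN⟩ := LogCxZ.exists_isZero_term hd hD K
  have hfin := MainLt.finite_term hd hD K
  have h1 := K905.HTSch.count (K904.LogCxL.termwiseLinear hd Λ hD K) hfin (N + 1) (fun i hi => hN i (by omega)) m
  refine h1.2.2.1 (le_antisymm h1.2.1 ?_) j
  let := F.fin
  have hft : ∀ c, Module.Finite k (Ht (dJ (F.G c).D MainLt.exists_root) (sysZ (latU (F.G c) (kφ Λ K))) m) := fun c =>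
    LatHyp.finite_Ht (kφ Λ K) (kφ_comp Λ K) MainLt.exists_root (F.cartier c) m
      (fun a _ => F.finite_term K hd hD a (m - a) (hfin a _) c)
  have hff : ∀ c, Module.Free k (Ht (dJ (F.G c).D MainLt.exists_root) (sysZ (latU (F.G c) (kφ Λ K))) m) := fun c =>
    Module.Free.of_divisionRing k _
  obtain ⟨E⟩ := F.nonempty_equiv hd hD K MainLt.exists_root m
  rw [E.finrank_eq]
  have h3 : Module.finrank k (∀ c, Ht (dJ (F.G c).D MainLt.exists_root) (sysZ (latU (F.G c) (kφ Λ K))) m) =
      ∑ c, Module.finrank k (Ht (dJ (F.G c).D MainLt.exists_root) (sysZ (latU (F.G c) (kφ Λ K))) m) :=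
    Module.finrank_pi_fintype k
  rw [h3]
  have h4 : ∀ i ∈ Finset.range (m + 1), Module.finrank k (Coh.HH X (K.term i) (m - i)) =
      ∑ c, Module.finrank k (Hc (latU (F.G c) (kφ Λ K) i) (m - i)) := fun i _ =>
    F.finrank_term K hd hD i (m - i) (hfin i _)
  rw [Finset.sum_congr rfl h4, Finset.sum_comm]
  exact Finset.sum_le_sum fun c _ => sum_le F hd hD K hT hdim m c

end count

section main

variable [IsProper (X ↘ Spec (CommRingCat.of k))] [Smooth (X ↘ Spec (CommRingCat.of k))]
  [HasDerivedCategory.{w} (Sheaf (Opens.grothendieckTopology X) AddCommGrpCat.{u})]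

/-- **Degeneration for `dim X ≤ p`.** -/
theorem main (hl : IsPullback i (X ↘ Spec (CommRingCat.of k)) g (spW p k)) (hd : AffUniv d)
    (hD : LogNCD.IsNCD D (X ↘ Spec (CommRingCat.of k))) (hDl : ∀ j, (Dl j).comap i = D j)
    (hDlf : ∀ j, Flat ((Dl j).subschemeι ≫ g)) {Λ : LogNCD.LogMod d D}
    (K : DeRhamSh.Cx (X ↘ Spec (CommRingCat.of k)) Λ.L (LogNCD.der Λ)) (hdim : topologicalKrullDim X ≤ p) :
    E1Deg.HyperDegenerates K.KZ (⊤ : X.Opens) := by
  obtain ⟨F, hT⟩ := exists_fm hl hd hD hDl hDlf Λ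
  intro a j
  by_cases ha : a < 0
  · exact K905.HTAbs.degeneratesAt_of_neg _ _ (K905.HTSch.isZero_extend_neg K.K) a j ha
  · obtain ⟨m, rfl⟩ := Int.eq_ofNat_of_zero_le (show 0 ≤ a by omega)
    exact degeneratesAt_nat F hd hD K hT hdim m j

end main

end K904.TopMain
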