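import Groth.Agent.DelIll.K904.Cup
import Groth.Agent.DelIll.K912.Twist

/-!
# The dual Deligne--Illusie maps

`Top`: the hypotheses (Cartier operator on top forms, perfect pairing over the lattices).
`rho m j x`: for `x` of total degree `m` the `j`-form valued cochain of Čech degree `m - j` with
`rho m j x ∧ g = C (x ∪ Ψ g)`.
-/

set_option autoImplicit false

namespace K904.TopRho

open K912.Seq K912.Cx K912.Alt K912.Stair _root_.K904.Cup
open scoped Nat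

variable {p : ℕ} [Fact p.Prime] {ι R L : Type*} [CommRing R] [CharP R p] [AddCommGroup L] [Module R L]
  {k : Type*} [Field k] [Algebra k R] [Module k L] [IsScalarTower k R L]

/-- The hypotheses of the duality argument. -/
structure Top (X : Dat p ι R L) (F : ι → ExteriorAlgebra R L →+* ExteriorAlgebra R L)
    (K : ℤ → Set ι → Submodule k (ExteriorAlgebra R L)) (n : ℕ) where
  /-- the Cartier operator -/
  C : ExteriorAlgebra R L →+ ExteriorAlgebra R L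
  hn : n ≤ p
  sys : Sys X.d K
  hF : ∀ i (b : R), F i (algebraMap R _ b) = algebraMap R _ (b ^ p)
  hFι : ∀ i w, F i (ExteriorAlgebra.ι R w) = ExteriorAlgebra.ι R (X.f i w)
  leib : ∀ (a : ℕ), ∀ y ∈ ⋀[R]^a L, ∀ z, X.d (y * z) = X.d y * z + (-1 : ℤ) ^ a • (y * X.d z)
  C_d : ∀ y, C (X.d y) = 0
  C_F : ∀ i y, C (F i y) = y
  C_pow : ∀ (b : R) y, C (b ^ p • y) = b • C y
  K_le : ∀ (a : ℕ) s, ∀ y ∈ K a s, y ∈ ⋀[R]^a L
  K_C : ∀ s : Set ι, s.Nonempty → ∀ y ∈ K n s, C y ∈ K n s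
  K_mul : ∀ (a b : ℤ) s, s.Nonempty → ∀ y ∈ K a s, ∀ z ∈ K b s, y * z ∈ K (a + b) s
  K_F : ∀ (a : ℕ) s, ∀ i ∈ s, ∀ y ∈ K a s, F i y ∈ K a s
  K_Ψ : ∀ (a : ℤ) s, ∀ g ∈ K a s, ∀ (m : ℕ) (i : ℕ → ι), rg m i ⊆ s → Ψ X g m i ∈ K (a - m) s
  surj : ∀ s : Set ι, ∀ i ∈ s, ∀ a : ℕ, a ≤ n → ∀ y ∈ K a s, X.d y = 0 →
    ∃ g ∈ K a s, ∃ z ∈ K ((a : ℤ) - 1) s, y = F i g + X.d z
  top : ∀ a : ℤ, n < a → ∀ s, K a s = ⊥
  dual : ∀ s : Set ι, s.Nonempty → ∀ j e, j + e = n → ∀ f : ExteriorAlgebra R L →ₗ[R] ExteriorAlgebra R L,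
    (∀ g ∈ K e s, f g ∈ K n s) → ∃ y ∈ K j s, ∀ g ∈ ⋀[R]^e L, y * g = f g
  uniq : ∀ j e, j + e = n → ∀ y ∈ ⋀[R]^j L, (∀ g ∈ ⋀[R]^e L, y * g = 0) → y = 0

variable {X : Dat p ι R L} {F : ι → ExteriorAlgebra R L →+* ExteriorAlgebra R L}
  {K : ℤ → Set ι → Submodule k (ExteriorAlgebra R L)} {n : ℕ} (t : Top X F K n)

omit [Fact p.Prime] [CharP R p] in
theorem cup_smul_right (m : ℕ) (x u : T ι (ExteriorAlgebra R L)) (b : R) (N : ℕ) (i : ℕ → ι) :
    cup m x (b • u) N i = b • cup m x u N i := by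
  rw [cup_apply, cup_apply, Finset.smul_sum]
  refine Finset.sum_congr rfl fun q _ => ?_
  rw [Pi.smul_apply, Pi.smul_apply, mul_smul_comm, smul_comm]

/-- The functional. -/
noncomputable def lam (m : ℕ) (x : T ι (ExteriorAlgebra R L)) (N : ℕ) (i : ℕ → ι) :
    ExteriorAlgebra R L →ₗ[R] ExteriorAlgebra R L where
  toFun g := t.C (cup m x (Ψ X g) N i)
  map_add' g g' := by
    rw [map_add, cup_add_right, Pi.add_apply, Pi.add_apply, map_add]
  map_smul' b g := by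
    rw [Ψ_smul, cup_smul_right, t.C_pow, RingHom.id_apply]

theorem lam_apply (m : ℕ) (x : T ι (ExteriorAlgebra R L)) (N : ℕ) (i : ℕ → ι) (g : ExteriorAlgebra R L) :
    lam t m x N i g = t.C (cup m x (Ψ X g) N i) := rfl

open scoped Classical in
/-- The dual Deligne--Illusie map. -/
noncomputable def rho (m j : ℕ) (x : T ι (ExteriorAlgebra R L)) (i : ℕ → ι) : ExteriorAlgebra R L :=
  if h : ∃ y ∈ ⋀[R]^j L, ∀ g ∈ ⋀[R]^(n - j) L, y * g = lam t m x (m - j) i g then h.choose else 0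

theorem rho_eq {m j : ℕ} (hj : j ≤ n) {x : T ι (ExteriorAlgebra R L)} {i : ℕ → ι} {y : ExteriorAlgebra R L}
    (hy : y ∈ ⋀[R]^j L) (h : ∀ g ∈ ⋀[R]^(n - j) L, y * g = lam t m x (m - j) i g) : rho t m j x i = y := by
  have h1 : ∃ y ∈ ⋀[R]^j L, ∀ g ∈ ⋀[R]^(n - j) L, y * g = lam t m x (m - j) i g := ⟨y, hy, h⟩
  rw [rho, dif_pos h1]
  obtain ⟨h2, h3⟩ := h1.choose_spec
  rw [← sub_eq_zero]
  refine t.uniq j (n - j) (by omega) _ (Submodule.sub_mem _ h2 hy) fun g hg => ?_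
  rw [sub_mul, h3 g hg, h g hg, sub_self]

include t in
theorem cup_mem {m j : ℕ} (hj : j ≤ n) (hjm : j ≤ m) {x : T ι (ExteriorAlgebra R L)} (hx : x ∈ Tot K m)
    (i : ℕ → ι) (g : ExteriorAlgebra R L) (hg : g ∈ K ((n - j : ℕ) : ℤ) (rg (m - j) i)) :
    cup m x (Ψ X g) (m - j) i ∈ K n (rg (m - j) i) := by
  rw [cup_apply]
  refine Submodule.sum_mem _ fun q hq => zsmul_mem ?_ _
  have hq' : q ≤ m - j := by have := Finset.mem_range.1 hq; omega
  have h1 := t.sys.mono _ (rg_mono hq' i) ((hx q).2 i)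
  have h2 := t.K_Ψ _ _ g hg (m - j - q) (shift q i) (rg_shift (by omega) i)
  have h3 := t.K_mul _ _ _ (rg_nonempty _ _) _ h1 _ h2
  have e : (m : ℤ) - (q : ℤ) + (((n - j : ℕ) : ℤ) - ((m - j - q : ℕ) : ℤ)) = n := by omega
  rwa [e] at h3

theorem exists_rho {m j : ℕ} (hj : j ≤ n) (hjm : j ≤ m) {x : T ι (ExteriorAlgebra R L)} (hx : x ∈ Tot K m)
    (i : ℕ → ι) : ∃ y ∈ K j (rg (m - j) i), ∀ g ∈ ⋀[R]^(n - j) L, y * g = lam t m x (m - j) i g :=
  t.dual _ (rg_nonempty _ _) j (n - j) (by omega) (lam t m x (m - j) i) fun g hg =>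
    t.K_C _ (rg_nonempty _ _) _ (cup_mem t hj hjm hx i g hg)

theorem rho_spec {m j : ℕ} (hj : j ≤ n) (hjm : j ≤ m) {x : T ι (ExteriorAlgebra R L)} (hx : x ∈ Tot K m)
    (i : ℕ → ι) (g : ExteriorAlgebra R L) (hg : g ∈ ⋀[R]^(n - j) L) :
    rho t m j x i * g = t.C (cup m x (Ψ X g) (m - j) i) := by
  obtain ⟨y, hy, h⟩ := exists_rho t hj hjm hx i
  rw [rho_eq t hj (t.K_le _ _ _ hy) h]
  exact h g hg

theorem rho_mem' {m j : ℕ} (hj : j ≤ n) (hjm : j ≤ m) {x : T ι (ExteriorAlgebra R L)} (hx : x ∈ Tot K m)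
    (i : ℕ → ι) : rho t m j x i ∈ K j (rg (m - j) i) := by
  obtain ⟨y, hy, h⟩ := exists_rho t hj hjm hx i
  rwa [rho_eq t hj (t.K_le _ _ _ hy) h]

theorem cup_dep {m N : ℕ} {x : T ι (ExteriorAlgebra R L)} (hx : ∀ q, Dep q (x q)) (g : ExteriorAlgebra R L)
    {i i' : ℕ → ι} (h : ∀ l ≤ N, i l = i' l) : cup m x (Ψ X g) N i = cup m x (Ψ X g) N i' := by
  rw [cup_apply, cup_apply]
  refine Finset.sum_congr rfl fun q hq => ?_
  have hq' : q ≤ N := by have := Finset.mem_range.1 hq; omega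
  rw [hx q i i' fun l hl => h l (by omega), dep_Ψ X g (N - q) (shift q i) (shift q i') fun l hl => h _ (by omega)]

theorem rho_mem {m j : ℕ} (hj : j ≤ n) (hjm : j ≤ m) {x : T ι (ExteriorAlgebra R L)} (hx : x ∈ Tot K m) :
    rho t m j x ∈ Coch (K j) (m - j) := by
  refine ⟨fun i i' h => ?_, rho_mem' t hj hjm hx⟩
  obtain ⟨y, hy, h'⟩ := exists_rho t hj hjm hx i'
  rw [rho_eq t hj (t.K_le _ _ _ hy) h']
  refine rho_eq t hj (t.K_le _ _ _ hy) fun g hg => ?_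
  rw [h' g hg, lam_apply, lam_apply, cup_dep (fun q => (hx q).1) g h]

theorem rho_add {m j : ℕ} (hj : j ≤ n) (hjm : j ≤ m) {x x' : T ι (ExteriorAlgebra R L)} (hx : x ∈ Tot K m)
    (hx' : x' ∈ Tot K m) : rho t m j (x + x') = rho t m j x + rho t m j x' := by
  funext i
  refine rho_eq t hj ?_ fun g hg => ?_
  · exact Submodule.add_mem _ (t.K_le _ _ _ (rho_mem' t hj hjm hx i)) (t.K_le _ _ _ (rho_mem' t hj hjm hx' i))
  · rw [Pi.add_apply, add_mul, rho_spec t hj hjm hx i g hg, rho_spec t hj hjm hx' i g hg, lam_apply, cup_add,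
      Pi.add_apply, Pi.add_apply, map_add]

theorem rho_congr {m j : ℕ} (hj : j ≤ n) (hjm : j ≤ m) {x x' : T ι (ExteriorAlgebra R L)}
    (hx' : x' ∈ Tot K m) (h : ∀ q ≤ m - j, x q = x' q) : rho t m j x = rho t m j x' := by
  funext i
  refine rho_eq t hj (t.K_le _ _ _ (rho_mem' t hj hjm hx' i)) fun g hg => ?_
  rw [rho_spec t hj hjm hx' i g hg, lam_apply, cup_congr m _ h]

theorem rho_zero {m j : ℕ} (hj : j ≤ n) : rho t m j (0 : T ι (ExteriorAlgebra R L)) = 0 := by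
  funext i
  refine rho_eq t hj (Submodule.zero_mem _) fun g hg => ?_
  rw [lam_apply, cup_zero, Pi.zero_apply, zero_mul, Pi.zero_apply, Pi.zero_apply, map_zero]

theorem rho_sub {m j : ℕ} (hj : j ≤ n) (hjm : j ≤ m) {x x' : T ι (ExteriorAlgebra R L)} (hx : x ∈ Tot K m)
    (hx' : x' ∈ Tot K m) : rho t m j (x - x') = rho t m j x - rho t m j x' := by
  have h1 := rho_add t hj hjm (Submodule.sub_mem _ hx hx') hx'
  rw [sub_add_cancel] at h1
  rw [h1, add_sub_cancel_right]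

include t in
theorem leib' {m : ℕ} {x : T ι (ExteriorAlgebra R L)} (hx : x ∈ Tot K m) (q : ℕ) (i : ℕ → ι)
    (z : ExteriorAlgebra R L) :
    X.d (x q i * z) = X.d (x q i) * z + (-1 : ℤ) ^ (m + q) • (x q i * X.d z) := by
  rcases Nat.lt_or_ge m q with h | h
  · rw [eq_zero_of_gt t.sys hx (by omega)]
    simp
  · have h1 := (hx q).2 i
    have e : (m : ℤ) - q = ((m - q : ℕ) : ℤ) := by omega
    rw [e] at h1
    rw [t.leib (m - q) _ (t.K_le _ _ _ h1)]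
    congr 2
    have : m + q = (m - q) + 2 * q := by omega
    rw [this, pow_add, pow_mul, neg_one_sq, one_pow, mul_one]

/-- `rho` is a morphism of complexes. -/
theorem rho_D {m j : ℕ} (hj : j ≤ n) (hjm : j ≤ m) {x : T ι (ExteriorAlgebra R L)} (hx : x ∈ Tot K m) :
    rho t (m + 1) j (D X.d x) = δ (m - j) (rho t m j x) := by
  funext i
  have e : m + 1 - j = m - j + 1 := by omega
  refine rho_eq t hj ?_ fun g hg => ?_
  · rw [δ_apply]
    exact Submodule.sum_mem _ fun l _ => Submodule.smul_of_tower_mem _ _ (t.K_le _ _ _ (rho_mem' t hj hjm hx _))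
  · rw [delta_mul, lam_apply, e]
    have h1 := congrFun (congrFun (D_cup X.d (x := x) (D_Ψ X g) m (fun q => (hx q).1) (leib' t hx)) (m - j + 1)) i
    rw [← h1, D_succ_apply, map_add, map_zsmul, t.C_d, smul_zero, add_zero, δ_apply, map_sum]
    refine Finset.sum_congr rfl fun l _ => ?_
    rw [map_zsmul, rho_spec t hj hjm hx _ g hg]

/-- The value of `rho` in the lowest degree. -/
theorem rho_low {m j : ℕ} (hj : j ≤ n) (hjm : j ≤ m) {x : T ι (ExteriorAlgebra R L)} (hx : x ∈ Tot K m)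
    (h0 : ∀ q < m - j, x q = 0) (i : ℕ → ι) (g : ExteriorAlgebra R L) (hg : g ∈ ⋀[R]^(n - j) L) :
    rho t m j x i * g = (n - j)! • t.C (x (m - j) i * F (i (m - j)) g) := by
  rw [rho_spec t hj hjm hx i g hg, cup_low m h0, Ψ_apply_zero X F t.hF t.hFι (n - j) hg, mul_smul_comm, map_nsmul,
    shift_apply, Nat.zero_add]

end K904.TopRho
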