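import Groth.Agent.Lefpen.H278.SysFam
import Groth.Agent.Lefpen.H278.SecSys

/-!
# The total complex of a Čech system with an internal differential

`E : Sys k ι` a Čech system with (on nonempty index sets) an internal differential `d`, a parity operator
`ε` and a grading by submodules `G a`.  The total complex has cochains `x : ∀ b, C E b` with
`(D x) b = d (x b) + ε (δ (x (b - 1)))`; the elements of total degree `n` are those with `x b` in `G (n - b)`.
-/

set_option autoImplicit false
universe u

open CategoryTheory CategoryTheory.Limits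

namespace K904.Tot

open Groth.Agent.Lefpen.H722.Sys Groth.Agent.Lefpen.H278 Groth.Agent.Lefpen.H278.SysFam

section Cls

variable {k : Type u} [Field k] {ι : Type}

/-- Coboundaries of degree `p` (only `0` in degree `0`). -/
def IsBd (V : Sys k ι) : (p : ℕ) → C V p → Prop
  | 0, s => s = 0
  | p + 1, s => ∃ t : C V p, d V p t = s

theorem cls_eq_zero_iff (V : Sys k ι) (p : ℕ) (s : LinearMap.ker (d V p)) :
    SecSys.clsV k V p s = 0 ↔ IsBd V p s.1 := by
  cases p with
  | zero =>
    rw [SecSys.clsV_eq_zero_iff_zero]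
    exact ⟨fun h => by rw [h]; rfl, fun h => Subtype.ext h⟩
  | succ p => exact SecSys.clsV_eq_zero_iff_succ k V p s

theorem IsBd.add {V : Sys k ι} {p : ℕ} {s t : C V p} (hs : IsBd V p s) (ht : IsBd V p t) :
    IsBd V p (s + t) := by
  cases p with
  | zero => change s + t = 0; rw [show s = 0 from hs, show t = 0 from ht, add_zero]
  | succ p =>
    obtain ⟨a, rfl⟩ := hs
    obtain ⟨b, rfl⟩ := ht
    exact ⟨a + b, map_add _ _ _⟩

theorem IsBd.zero {V : Sys k ι} {p : ℕ} : IsBd V p 0 := by
  cases p with
  | zero => rfl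
  | succ p => exact ⟨0, map_zero _⟩

end Cls

/-- Submodules of a system stable under restriction. -/
structure SubSys {k : Type u} [CommRing k] {ι : Type} (E : Sys k ι) where
  /-- the submodules -/
  G : ∀ I : Set ι, Submodule k (E.M I)
  res_mem : ∀ {I J : Set ι} (h : I ⊆ J) {x : E.M I}, x ∈ G I → E.res h x ∈ G J

namespace SubSys

variable {k : Type u} [CommRing k] {ι : Type} {E : Sys k ι} (G : SubSys E)

/-- The system of a stable family of submodules. -/
def sys : Sys k ι where
  M I := G.G I
  res h := ((E.res h).domRestrict (G.G _)).codRestrict (G.G _) fun x => G.res_mem h x.2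
  res_res h h' x := Subtype.ext (E.res_res h h' x.1)

/-- Cochains of the subsystem as cochains of the system. -/
def inc (p : ℕ) : C G.sys p →ₗ[k] C E p :=
  LinearMap.pi fun σ => (G.G (Set.range σ)).subtype ∘ₗ LinearMap.proj σ

theorem inc_apply (p : ℕ) (s : C G.sys p) (σ : Fin (p + 1) → ι) : G.inc p s σ = (s σ).1 := rfl

theorem inc_injective (p : ℕ) : Function.Injective (G.inc p) := fun s t h =>
  funext fun σ => Subtype.ext (congrFun h σ)

theorem inc_d (p : ℕ) (s : C G.sys p) : G.inc (p + 1) (d G.sys p s) = d E p (G.inc p s) := by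
  funext σ
  rw [inc_apply, d_apply, d_apply]
  have h := map_sum (G.G (Set.range σ)).subtype (fun j : Fin (p + 2) =>
    (-1 : ℤ) ^ (j : ℕ) • G.sys.res (face_subset σ j) (s (σ ∘ j.succAbove))) Finset.univ
  refine h.trans (Finset.sum_congr rfl fun j _ => ?_)
  exact map_zsmul (G.G (Set.range σ)).subtype.toAddMonoidHom _ _

/-- A cochain with values in the submodules. -/
def lift (p : ℕ) (s : C E p) (hs : ∀ σ, s σ ∈ G.G (Set.range σ)) : C G.sys p := fun σ => ⟨s σ, hs σ⟩

theorem inc_lift (p : ℕ) (s : C E p) (hs : ∀ σ, s σ ∈ G.G (Set.range σ)) :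
    G.inc p (G.lift p s hs) = s := rfl

end SubSys

/-- An endomorphism of a system on nonempty index sets. -/
structure FEnd {k : Type u} [CommRing k] {ι : Type} (E : Sys k ι) where
  /-- components -/
  app : ∀ I : Set ι, I.Nonempty → (E.M I →ₗ[k] E.M I)
  nat : ∀ (I J : Set ι) (hI : I.Nonempty) (h : I ⊆ J) (x : E.M I),
    app J (hI.mono h) (E.res h x) = E.res h (app I hI x)

/-- The map on cochains. -/
def FEnd.c {k : Type u} [CommRing k] {ι : Type} {E : Sys k ι} (f : FEnd E) (p : ℕ) :
    C E p →ₗ[k] C E p := famC f.app p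

theorem FEnd.c_apply {k : Type u} [CommRing k] {ι : Type} {E : Sys k ι} (f : FEnd E) (p : ℕ)
    (s : C E p) (σ : Fin (p + 1) → ι) : f.c p s σ = f.app _ (Set.range_nonempty σ) (s σ) := rfl

theorem FEnd.c_d {k : Type u} [CommRing k] {ι : Type} {E : Sys k ι} (f : FEnd E) (p : ℕ)
    (s : C E p) : f.c (p + 1) (d E p s) = d E p (f.c p s) := famC_d f.app f.nat p s

/-- A Čech system with internal differential, parity operator and grading. -/
structure DSys (k : Type u) [CommRing k] (ι : Type) where
  /-- the system -/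
  E : Sys k ι
  /-- the internal differential -/
  d : FEnd E
  /-- the parity operator -/
  ε : FEnd E
  dd : ∀ I hI x, d.app I hI (d.app I hI x) = 0
  εε : ∀ I hI x, ε.app I hI (ε.app I hI x) = x
  dε : ∀ I hI x, d.app I hI (ε.app I hI x) = -ε.app I hI (d.app I hI x)

namespace DSys

variable {k : Type u} [CommRing k] {ι : Type} (K : DSys k ι)

/-- Total cochains. -/
abbrev T : Type u := ∀ b : ℕ, C K.E b

/-- The Čech part of the differential. -/
noncomputable def ver : K.T →ₗ[k] K.T :=
  LinearMap.pi fun b => match b with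
    | 0 => 0
    | b + 1 => K.ε.c (b + 1) ∘ₗ Groth.Agent.Lefpen.H722.Sys.d K.E b ∘ₗ LinearMap.proj b

/-- The internal part of the differential. -/
noncomputable def hor : K.T →ₗ[k] K.T := LinearMap.pi fun b => K.d.c b ∘ₗ LinearMap.proj b

/-- The total differential. -/
noncomputable def D : K.T →ₗ[k] K.T := K.hor + K.ver

theorem D_zero (x : K.T) : K.D x 0 = K.d.c 0 (x 0) := by
  change K.d.c 0 (x 0) + 0 = _
  rw [add_zero]

theorem D_succ (x : K.T) (b : ℕ) : K.D x (b + 1) =
    K.d.c (b + 1) (x (b + 1)) + K.ε.c (b + 1) (Groth.Agent.Lefpen.H722.Sys.d K.E b (x b)) := rfl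

theorem dc_dc (b : ℕ) (s : C K.E b) : K.d.c b (K.d.c b s) = 0 := funext fun σ => K.dd _ _ _

theorem εc_εc (b : ℕ) (s : C K.E b) : K.ε.c b (K.ε.c b s) = s := funext fun σ => K.εε _ _ _

theorem dc_εc (b : ℕ) (s : C K.E b) : K.d.c b (K.ε.c b s) = -K.ε.c b (K.d.c b s) :=
  funext fun σ => K.dε _ _ _

theorem D_D (x : K.T) : K.D (K.D x) = 0 := by
  funext b
  cases b with
  | zero => rw [D_zero, D_zero, dc_dc]; rfl
  | succ b =>
    rw [D_succ, D_succ, map_add, dc_dc, zero_add, dc_εc, FEnd.c_d]
    cases b with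
    | zero => rw [D_zero]; exact neg_add_cancel _
    | succ b =>
      rw [D_succ, map_add, map_add, ← FEnd.c_d K.ε, Groth.Agent.Lefpen.H722.Sys.d_d, map_zero, map_zero,
        add_zero, FEnd.c_d]
      exact neg_add_cancel _

end DSys

end K904.Tot
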