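import Groth.Agent.DelIll.K904.TotVal

/-!
# Hypercohomology by lattices

`K` a complex of abelian sheaves on `X` with terms `K^a ≅ term a`, realised on the components of `X` in modules with
differential `(W c, dW c)`.  The hypercohomology of `K` is the product of the cohomologies of the total complexes of
the systems of lattices (`K912.Dim.Ht`), `k`-linearly.
-/

set_option autoImplicit false

universe w w' u

open CategoryTheory CategoryTheory.Limits AlgebraicGeometry Opposite TopologicalSpace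
open Groth.Agent.CohqA.CechBasic Groth.Agent.CohqA.CechSheaf Groth.Agent.CurvesB.HZero
open Groth.Agent.Fga.MumCech Groth.Agent.Ega3B Groth.Agent.Ega3B.CombRes
open K912.Seq K912.Dim K912.CechCmp K912.LatCmp K912.Fam K912.Cx K912.Asm K890 K904.TotVal KLinDR

namespace K904.TotCmp

attribute [local instance] modP

section Sign

/-- the signs -/
def sg (n b : ℕ) : ℤ := (-1) ^ (n * b + ∑ j ∈ Finset.range b, j)

theorem sg_succ_left (n b : ℕ) : sg (n + 1) b = (-1) ^ b * sg n b := by
  unfold sg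
  rw [← pow_add]
  congr 1
  ring

theorem sg_succ (n b : ℕ) : sg (n + 1) (b + 1) * (-1) ^ (n + 1) = sg n b := by
  unfold sg
  rw [Finset.sum_range_succ, ← pow_add]
  have h : (n + 1) * (b + 1) + (∑ x ∈ Finset.range b, x + b) + (n + 1) =
      (n * b + ∑ j ∈ Finset.range b, j) + 2 * (n + b + 1) := by ring
  rw [h, pow_add, pow_mul]
  simp

theorem sg_mul_self (n b : ℕ) : sg n b * sg n b = 1 := by
  unfold sg
  rw [← pow_add, ← two_mul, pow_mul]
  simp

end Sign

variable (k : Type u) [Field k] {X : Scheme.{u}} [X.Over (Spec (CommRingCat.of k))]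
  {C : Type u} {ι : C → Type u} (U : ∀ c, ι c → X.Opens) {J : Type} [Fintype J] [DecidableEq J]
  (e : J ≃ Σ c, ι c) {V₀ : C → X.Opens} (hV₀ : ∀ c i, V₀ c ≤ U c i)
  {K : CochainComplex (Sheaf (Opens.grothendieckTopology X) AddCommGrpCat.{u}) ℕ}
  {term : ℕ → X.Modules} (iso : ∀ a, K.X a ≅ Coh.toAb (term a))
  {W : C → Type*} [∀ c, AddCommGroup (W c)] [∀ c, Module k (W c)]
  (φ : ∀ c a, (term a).presheaf.obj (op (V₀ c)) →ₗ[k] W c)

/-- the systems of lattices -/
noncomputable abbrev Nc (c : C) (a : ℕ) : Set (ι c) → Submodule k (W c) :=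
  Nl k (U c) (hV₀ c) (term a) (φ c a)

/-- the components on sequences -/
noncomputable abbrev Ea (c : C) (a b : ℕ) : (DJ U e).K b (K.X a).obj →+ ((ℕ → ι c) → W c) :=
  E k U e hV₀ (term a) (iso a) (fun c => φ c a) c b

/-- total cochains as families of functions on sequences -/
noncomputable def Et (c : C) (n : ℕ) (x : CechHT.T (DJ U e) K n) : T (ι c) (W c) := fun b =>
  if h : b ≤ n then sg n b • Ea k U e hV₀ iso φ c (n - b) b (x.at (n - b) b (by omega)) else 0

variable {k U e hV₀ iso φ}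

theorem Et_at (c : C) {n : ℕ} (x : CechHT.T (DJ U e) K n) (a b : ℕ) (h : a + b = n) :
    Et k U e hV₀ iso φ c n x b = sg n b • Ea k U e hV₀ iso φ c a b (x.at a b h) := by
  subst h
  have h1 : ∀ (a' : ℕ) (ha : a' = a) (h : a' + b = a + b), Ea k U e hV₀ iso φ c a' b (x.at a' b h) =
      Ea k U e hV₀ iso φ c a b (x.at a b rfl) := by
    rintro a' rfl h
    rfl
  rw [Et, dif_pos (by omega), h1 _ (by omega)]

theorem Et_gt (c : C) {n : ℕ} (x : CechHT.T (DJ U e) K n) (b : ℕ) (h : n < b) :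
    Et k U e hV₀ iso φ c n x b = 0 := by
  rw [Et, dif_neg (by omega)]

theorem Et_add (c : C) {n : ℕ} (x y : CechHT.T (DJ U e) K n) :
    Et k U e hV₀ iso φ c n (x + y) = Et k U e hV₀ iso φ c n x + Et k U e hV₀ iso φ c n y := by
  funext b
  rw [Pi.add_apply]
  by_cases h : b ≤ n
  · rw [Et_at c (x + y) (n - b) b (by omega), Et_at c x (n - b) b (by omega), Et_at c y (n - b) b (by omega),
      CechHT.T.add_at, map_add, smul_add]
  · rw [Et_gt c _ b (by omega), Et_gt c _ b (by omega), Et_gt c _ b (by omega), add_zero]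

variable (dW : ∀ c, W c →ₗ[k] W c)
  (hd : ∀ c a (s : (K.X a).obj.obj (op (V₀ c))),
    φ c (a + 1) (tr (term (a + 1)) (iso (a + 1)) ((K.d a (a + 1)).hom.app (op (V₀ c)) s)) =
      dW c (φ c a (tr (term a) (iso a) s)))

include hd in
/-- the differentials correspond -/
theorem Et_dT (c : C) (n : ℕ) (x : CechHT.T (DJ U e) K n) :
    Et k U e hV₀ iso φ c (n + 1) (CechHT.dT (DJ U e) K n x) =
      D (dW c).toAddMonoidHom (Et k U e hV₀ iso φ c n x) := by
  have hE : ∀ (a b : ℕ) (y : (DJ U e).K b (K.X a).obj) (i : ℕ → ι c),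
      Ea k U e hV₀ iso φ c (a + 1) b ((DJ U e).Kmap b (K.d a (a + 1)).hom y) i =
        dW c (Ea k U e hV₀ iso φ c a b y i) := fun a b y i =>
    E_map U e hV₀ (iso a) (fun c => φ c a) (iso (a + 1)) (fun c => φ c (a + 1)) (K.d a (a + 1)) c (dW c)
      (hd c a) b y i
  funext b i
  cases b with
  | zero =>
    rw [D_zero_apply, Et_at c _ (n + 1) 0 (by omega), Et_at c x n 0 (by omega), CechHT.dT_at]
    have h1 : CechHT.ver x (n + 1) 0 (by omega) = 0 := rfl
    have h2 : CechHT.hor x (n + 1) 0 (by omega) = (DJ U e).Kmap 0 (K.d n (n + 1)).hom (x.at n 0 (by omega)) := rfl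
    rw [h1, smul_zero, add_zero, h2, sg_succ_left, pow_zero, one_mul, Pi.smul_apply, Pi.smul_apply, hE]
    exact (map_zsmul (dW c) _ _).symm
  | succ b =>
    rw [D_succ_apply]
    rcases lt_trichotomy (b + 1) (n + 1) with h | h | h
    · obtain ⟨a, rfl⟩ : ∃ a, n = a + (b + 1) := ⟨n - (b + 1), by omega⟩
      rw [Et_at c _ (a + 1) (b + 1) (by omega), Et_at c x a (b + 1) rfl, Et_at c x (a + 1) b (by omega),
        CechHT.dT_at, map_add, smul_add, Pi.add_apply, add_comm]
      have h1 : CechHT.ver x (a + 1) (b + 1) (by omega) = (DJ U e).δ b (K.X (a + 1)).obj (x.at (a + 1) b (by omega)) :=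
        rfl
      have h2 : CechHT.hor x (a + 1) (b + 1) (by omega) =
        (DJ U e).Kmap (b + 1) (K.d a (a + 1)).hom (x.at a (b + 1) rfl) := rfl
      rw [h1, h2]
      congr 1
      · rw [δ_smul, Units.smul_def, map_zsmul, smul_smul]
        have h3 : sg (a + (b + 1) + 1) (b + 1) * (((a + (b + 1) + 1 : ℕ) : ℤ).negOnePow : ℤˣ) =
            sg (a + (b + 1)) b := by
          rw [Int.coe_negOnePow_natCast]
          exact sg_succ _ _
        rw [h3]
        exact congrFun (congrArg (fun z => sg (a + (b + 1)) b • z)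
          (E_δ k U e hV₀ (term (a + 1)) (iso (a + 1)) (fun c => φ c (a + 1)) c b (x.at (a + 1) b (by omega)))) i
      · rw [Pi.smul_apply, Pi.smul_apply, hE, sg_succ_left, mul_smul]
        congr 1
        exact (map_zsmul (dW c) _ _).symm
    · obtain rfl : b = n := by omega
      rw [Et_at c _ 0 (b + 1) (by omega), Et_gt c x (b + 1) (by omega), Et_at c x 0 b (by omega),
        CechHT.dT_at]
      have h1 : CechHT.ver x 0 (b + 1) (by omega) = (DJ U e).δ b (K.X 0).obj (x.at 0 b (by omega)) :=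
        rfl
      have h2 : CechHT.hor x 0 (b + 1) (by omega) = 0 := rfl
      rw [h1, h2, zero_add, Pi.zero_apply, map_zero, smul_zero, add_zero, δ_smul, Units.smul_def, map_zsmul, smul_smul]
      have h3 : sg (b + 1) (b + 1) * (((b + 1 : ℕ) : ℤ).negOnePow : ℤˣ) = sg b b := by
        rw [Int.coe_negOnePow_natCast]
        exact sg_succ _ _
      rw [h3]
      exact congrFun (congrArg (fun z => sg b b • z)
        (E_δ k U e hV₀ (term 0) (iso 0) (fun c => φ c 0) c b (x.at 0 b (by omega)))) i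
    · rw [Et_gt c _ (b + 1) (by omega), Et_gt c x (b + 1) (by omega), Et_gt c x b (by omega), δ_zero,
        Pi.zero_apply, map_zero, smul_zero, add_zero]

theorem Et_mem (c : C) (n : ℕ) (x : CechHT.T (DJ U e) K n) :
    Et k U e hV₀ iso φ c n x ∈ Tot (sysZ (Nc k U hV₀ φ c)) n := by
  intro b
  by_cases h : b ≤ n
  · rw [Et_at c x (n - b) b (by omega)]
    have h1 : (n : ℤ) - (b : ℕ) = ((n - b : ℕ) : ℤ) := by omega
    rw [h1]
    exact zsmul_mem (E_mem k U e hV₀ (term (n - b)) (iso (n - b)) (fun c => φ c (n - b)) c b _) _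
  · rw [Et_gt c x b (by omega)]
    exact Submodule.zero_mem _

variable (hinj : ∀ c a (p : ℕ) (i : Fin (p + 1) → ι c),
    Function.Injective (rho k (term a) (φ c a) (le_iInf_U (U c) (hV₀ c) i)))

include hinj in
theorem Et_ext (hdj : Disj U) (n : ℕ) {x y : CechHT.T (DJ U e) K n}
    (h : ∀ c, Et k U e hV₀ iso φ c n x = Et k U e hV₀ iso φ c n y) : x = y := by
  refine CechHT.T.ext fun a b hab => ?_
  refine E_ext k U e hV₀ (term a) (iso a) (fun c => φ c a) hdj (fun c => hinj c a) b fun c => ?_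
  have h1 := congrFun (h c) b
  rw [Et_at c x a b hab, Et_at c y a b hab] at h1
  have h2 := congrArg (fun z => sg n b • z) h1
  simp only [smul_smul, sg_mul_self, one_smul] at h2
  exact h2

theorem Et_surj (n : ℕ) {z : ∀ c, T (ι c) (W c)} (hz : ∀ c, z c ∈ Tot (sysZ (Nc k U hV₀ φ c)) n) :
    ∃ x : CechHT.T (DJ U e) K n, ∀ c, Et k U e hV₀ iso φ c n x = z c := by
  have h1 : ∀ p : CechHT.Ix n, ∃ y : (DJ U e).K p.1.2 (K.X p.1.1).obj,
      ∀ c, Ea k U e hV₀ iso φ c p.1.1 p.1.2 y = sg n p.1.2 • z c p.1.2 := by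
    rintro ⟨⟨a, b⟩, hab⟩
    refine E_surj k U e hV₀ (term a) (iso a) (fun c => φ c a) b fun c => ?_
    have h2 := hz c b
    have h3 : (n : ℤ) - (b : ℕ) = (a : ℤ) := by
      change a + b = n at hab
      omega
    rw [h3] at h2
    exact zsmul_mem h2 _
  have h4 : ∃ x : CechHT.T (DJ U e) K n, ∀ a b h c, Ea k U e hV₀ iso φ c a b (x.at a b h) = sg n b • z c b := by
    choose y hy using h1
    exact ⟨y, fun a b h c => hy ⟨(a, b), h⟩ c⟩
  obtain ⟨y, hy⟩ := h4
  refine ⟨y, fun c => funext fun b => ?_⟩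
  by_cases h : b ≤ n
  · rw [Et_at c y (n - b) b (by omega), hy, smul_smul, sg_mul_self, one_smul]
  · rw [Et_gt c _ b (by omega)]
    funext i
    have h2 := (hz c b).2 i
    have h3 : ∃ m : ℕ, (n : ℤ) - (b : ℕ) = Int.negSucc m := ⟨b - n - 1, by omega⟩
    obtain ⟨m, hm⟩ := h3
    rw [hm] at h2
    exact h2.symm

end K904.TotCmp
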