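import Groth.Agent.DelIll.K904.TotCmp

/-!
# Hypercohomology by lattices: the comparison
-/

set_option autoImplicit false

universe w w' u

open CategoryTheory CategoryTheory.Limits AlgebraicGeometry Opposite TopologicalSpace
open Groth.Agent.CohqA.CechBasic Groth.Agent.CohqA.CechSheaf Groth.Agent.CurvesB.HZero
open Groth.Agent.Fga.MumCech Groth.Agent.Ega3B Groth.Agent.Ega3B.CombRes
open K912.Seq K912.Dim K912.CechCmp K912.LatCmp K912.Fam K912.Cx K912.Asm K890 K904.TotVal K904.TotCmp KLinDR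

namespace K904.TotHT

attribute [local instance] modP

/-- An abstract lemma on quotients. -/
theorem exists_equiv_of_ops {k Z H H' : Type*} [Field k] [AddCommGroup Z] [AddCommGroup H]
    [Module k H] [AddCommGroup H'] [Module k H'] (s : k → Z → Z) (Θ : Z →+ H) (hΘ : Function.Surjective Θ)
    (hΘs : ∀ (t : k) z, Θ (s t z) = t • Θ z) (T : Z →+ H') (hT : Function.Surjective T)
    (hTs : ∀ (t : k) z, T (s t z) = t • T z)
    (h : ∀ z, Θ z = 0 ↔ T z = 0) : ∃ E : H ≃ₗ[k] H', ∀ z, E (Θ z) = T z := by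
  have h1 : Θ.ker = T.ker := by
    ext z
    exact h z
  let e1 : (Z ⧸ Θ.ker) ≃+ H := QuotientAddGroup.quotientKerEquivOfSurjective Θ hΘ
  let e2 : (Z ⧸ T.ker) ≃+ H' := QuotientAddGroup.quotientKerEquivOfSurjective T hT
  let E₀ : H ≃+ H' := e1.symm.trans ((QuotientAddGroup.quotientAddEquivOfEq h1).trans e2)
  have hE : ∀ z, E₀ (Θ z) = T z := by
    intro z
    have h2 : e1.symm (Θ z) = QuotientAddGroup.mk z := by
      rw [AddEquiv.symm_apply_eq]
      rfl
    change e2 ((QuotientAddGroup.quotientAddEquivOfEq h1) (e1.symm (Θ z))) = _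
    rw [h2]
    rfl
  refine ⟨{ E₀ with
    map_smul' := fun t x => ?_ }, hE⟩
  obtain ⟨z, rfl⟩ := hΘ x
  change E₀ (t • Θ z) = t • E₀ (Θ z)
  rw [← hΘs, hE, hE, hTs]

variable {k : Type u} [Field k] {X : Scheme.{u}} [X.Over (Spec (CommRingCat.of k))]
  {C : Type u} {ι : C → Type u} {U : ∀ c, ι c → X.Opens} {J : Type} [Fintype J] [DecidableEq J]
  {e : J ≃ Σ c, ι c} {V₀ : C → X.Opens} {hV₀ : ∀ c i, V₀ c ≤ U c i}
  {K : CochainComplex (Sheaf (Opens.grothendieckTopology X) AddCommGrpCat.{u}) ℕ}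
  {term : ℕ → X.Modules} {iso : ∀ a, K.X a ≅ Coh.toAb (term a)}
  {W : C → Type*} [∀ c, AddCommGroup (W c)] [∀ c, Module k (W c)]
  {φ : ∀ c a, (term a).presheaf.obj (op (V₀ c)) →ₗ[k] W c}
  (dW : ∀ c, W c →ₗ[k] W c)
  (hd : ∀ c a (s : (K.X a).obj.obj (op (V₀ c))),
    φ c (a + 1) (tr (term (a + 1)) (iso (a + 1)) ((K.d a (a + 1)).hom.app (op (V₀ c)) s)) =
      dW c (φ c a (tr (term a) (iso a) s)))

omit [Fintype J] [DecidableEq J] in
theorem sysZ_neg (c : C) (a : ℤ) (ha : a < 0) (s : Set (ι c)) : sysZ (Nc k U hV₀ φ c) a s = ⊥ := by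
  obtain ⟨m, rfl⟩ : ∃ m : ℕ, a = Int.negSucc m := ⟨(-a - 1).toNat, by omega⟩
  rfl

theorem Et_zero (c : C) (n : ℕ) : Et k U e hV₀ iso φ c n 0 = 0 := by
  have h := Et_add (U := U) (e := e) (hV₀ := hV₀) (iso := iso) (φ := φ) c (0 : CechHT.T (DJ U e) K n) 0
  rw [add_zero] at h
  exact left_eq_add.1 h

include hd in
theorem Et_mem_Zt (c : C) (n : ℕ) {x : CechHT.T (DJ U e) K n} (hx : CechHT.dT (DJ U e) K n x = 0) :
    Et k U e hV₀ iso φ c n x ∈ Zt (dW c) (sysZ (Nc k U hV₀ φ c)) n := by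
  refine mem_Zt.2 ⟨Et_mem c n x, ?_⟩
  rw [← Et_dT dW hd, hx, Et_zero]

variable (U e hV₀ iso φ)

/-- The class in the cohomology of the total complexes. -/
noncomputable def toHt (n : ℕ) : (CechHT.dT (DJ U e) K n).ker →+
    ∀ c, Ht (dW c) (sysZ (Nc k U hV₀ φ c)) n where
  toFun x c := cls _ _ (Et k U e hV₀ iso φ c n x.1) (Et_mem_Zt dW hd c n x.2)
  map_zero' := by
    funext c
    exact cls_eq_zero.2 (by
      change Et k U e hV₀ iso φ c n 0 ∈ _
      rw [Et_zero]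
      exact Submodule.zero_mem _)
  map_add' x y := by
    funext c
    exact congrArg (Submodule.Quotient.mk (p := (Bt (dW c) (sysZ (Nc k U hV₀ φ c)) n).submoduleOf
        (Zt (dW c) (sysZ (Nc k U hV₀ φ c)) n)))
      (Subtype.ext (Et_add c x.1 y.1) : (⟨Et k U e hV₀ iso φ c n (x.1 + y.1), _⟩ :
        Zt (dW c) (sysZ (Nc k U hV₀ φ c)) n) = ⟨_, _⟩ + ⟨_, _⟩)

theorem toHt_apply (n : ℕ) (x : (CechHT.dT (DJ U e) K n).ker) (c : C) :
    toHt U e hV₀ iso φ dW hd n x c =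
      cls _ _ (Et k U e hV₀ iso φ c n x.1) (Et_mem_Zt dW hd c n x.2) := rfl

variable (hinj : ∀ c a (p : ℕ) (i : Fin (p + 1) → ι c),
    Function.Injective (rho k (term a) (φ c a) (le_iInf_U (U c) (hV₀ c) i)))

variable {U e hV₀ iso φ}

include hinj in
theorem toHt_surjective (hdj : Disj U) (n : ℕ) : Function.Surjective
    (toHt U e hV₀ iso φ dW hd n) := by
  intro x
  have h1 : ∀ c, ∃ (z : T (ι c) (W c)) (hz : z ∈ Zt (dW c) (sysZ (Nc k U hV₀ φ c)) n), cls _ _ z hz = x c :=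
    fun c => exists_cls (x c)
  choose z hz hzx using h1
  obtain ⟨y, hy⟩ := Et_surj (U := U) (e := e) (hV₀ := hV₀) (iso := iso) (φ := φ) n
    (fun c => (mem_Zt.1 (hz c)).1)
  have hdy : CechHT.dT (DJ U e) K n y = 0 := by
    refine Et_ext (U := U) (e := e) (hV₀ := hV₀) (iso := iso) (φ := φ) hinj hdj (n + 1) fun c => ?_
    rw [Et_dT dW hd, hy, Et_zero]
    exact (mem_Zt.1 (hz c)).2
  refine ⟨⟨y, hdy⟩, funext fun c => ?_⟩
  rw [toHt_apply, ← hzx c]
  exact congrArg (Submodule.Quotient.mk (p := (Bt (dW c) (sysZ (Nc k U hV₀ φ c)) n).submoduleOf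
        (Zt (dW c) (sysZ (Nc k U hV₀ φ c)) n)))
      (Subtype.ext (hy c) : (⟨Et k U e hV₀ iso φ c n y, _⟩ :
        Zt (dW c) (sysZ (Nc k U hV₀ φ c)) n) = ⟨z c, hz c⟩)

include hinj in
theorem toHt_eq_zero_iff (hdj : Disj U) (n : ℕ) (x : (CechHT.dT (DJ U e) K n).ker) :
    toHt U e hV₀ iso φ dW hd n x = 0 ↔
      CechHT.IsB (DJ U e) K n x.1 := by
  rw [funext_iff]
  have h0 : ∀ c, toHt U e hV₀ iso φ dW hd n x c = (0 : ∀ c,
      Ht (dW c) (sysZ (Nc k U hV₀ φ c)) n) c ↔ Et k U e hV₀ iso φ c n x.1 ∈ Bt (dW c) (sysZ (Nc k U hV₀ φ c)) n :=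
    fun c => cls_eq_zero
  rw [forall_congr' h0]
  cases n with
  | zero =>
    constructor
    · intro h
      refine Et_ext (U := U) (e := e) (hV₀ := hV₀) (iso := iso) (φ := φ) hinj hdj 0 fun c => ?_
      obtain ⟨y, hy, hyx⟩ := mem_Bt.1 (h c)
      have hy0 : y = 0 := by
        funext b i
        have h1 := (hy b).2 i
        rw [sysZ_neg c _ (by push_cast; omega)] at h1
        exact h1
      rw [← hyx, hy0, D_zero, Et_zero]
    · intro h c
      have h' : x.1 = 0 := h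
      rw [h', Et_zero]
      exact Submodule.zero_mem _
  | succ n =>
    constructor
    · intro h
      have h1 : ∀ c, ∃ y ∈ Tot (sysZ (Nc k U hV₀ φ c)) (n : ℤ), D (dW c).toAddMonoidHom y =
          Et k U e hV₀ iso φ c (n + 1) x.1 := fun c => by
        obtain ⟨y, hy, hyx⟩ := mem_Bt.1 (h c)
        have e1 : ((n + 1 : ℕ) : ℤ) - 1 = n := by push_cast; ring
        rw [e1] at hy
        exact ⟨y, hy, hyx⟩
      choose y hy hyx using h1
      obtain ⟨y', hy'⟩ := Et_surj (U := U) (e := e) (hV₀ := hV₀) (iso := iso) (φ := φ) n hy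
      refine ⟨y', Et_ext (U := U) (e := e) (hV₀ := hV₀) (iso := iso) (φ := φ) hinj hdj (n + 1) fun c => ?_⟩
      rw [Et_dT dW hd, hy', hyx]
    · rintro ⟨y, hy⟩ c
      refine mem_Bt.2 ⟨Et k U e hV₀ iso φ c n y, ?_, ?_⟩
      · have e1 : ((n + 1 : ℕ) : ℤ) - 1 = n := by push_cast; ring
        rw [e1]
        exact Et_mem c n y
      · rw [← Et_dT dW hd, hy]

/-- scalars on sections -/
theorem tr_scalarEnd (t : k) (a : ℕ) {V : X.Opens} (s : (K.X a).obj.obj (op V)) :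
    tr (term a) (iso a) ((scalarEnd (Coh.toGlobal (X ↘ Spec (CommRingCat.of k))) term iso t a).hom.app (op V) s) =
      t • tr (term a) (iso a) s := by
  have h1 : scalarEnd (Coh.toGlobal (X ↘ Spec (CommRingCat.of k))) term iso t a ≫ (iso a).hom =
      (iso a).hom ≫ Coh.smulAb (term a) (Coh.toGlobal (X ↘ Spec (CommRingCat.of k)) t) := by
    rw [scalarEnd, Category.assoc, Category.assoc, Iso.inv_hom_id, Category.comp_id]
  exact congrArg (fun g => g.hom.app (op V) s) h1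

variable (hT : TermwiseLinear (Coh.toGlobal (X ↘ Spec (CommRingCat.of k))) K term iso)

theorem Et_smul (c : C) (n : ℕ) (t : k) (x : CechHT.T (DJ U e) K n) :
    Et k U e hV₀ iso φ c n (CechHT.mapT (DJ U e) (scalarN hT t) n x) = t • Et k U e hV₀ iso φ c n x := by
  funext b
  rw [Pi.smul_apply]
  by_cases h : b ≤ n
  · rw [Et_at c x (n - b) b (by omega), Et_at c _ (n - b) b (by omega), CechHT.mapT_at, smul_comm]
    congr 1
    funext i
    rw [Pi.smul_apply]
    refine E_map U e hV₀ (iso (n - b)) (fun c => φ c (n - b)) (iso (n - b)) (fun c => φ c (n - b))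
      ((scalarN hT t : K ⟶ K).f (n - b)) c (fun w => t • w) (fun s => ?_) b _ i
    rw [← map_smul]
    exact congrArg (φ c (n - b)) (tr_scalarEnd t (n - b) s)
  · rw [Et_gt c _ b (by omega), Et_gt c _ b (by omega), smul_zero]

theorem toHt_smul (n : ℕ) (t : k) (x : (CechHT.dT (DJ U e) K n).ker) :
    toHt U e hV₀ iso φ dW hd n (CechHT.mapZ (scalarN hT t) n x) = t • toHt U e hV₀ iso φ dW hd n x := by
  funext c
  rw [Pi.smul_apply, toHt_apply, toHt_apply]
  exact congrArg (Submodule.Quotient.mk (p := (Bt (dW c) (sysZ (Nc k U hV₀ φ c)) n).submoduleOf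
        (Zt (dW c) (sysZ (Nc k U hV₀ φ c)) n)))
      (Subtype.ext (Et_smul hT c n t x.1) :
        (⟨Et k U e hV₀ iso φ c n (CechHT.mapT (DJ U e) (scalarN hT t) n x.1), _⟩ :
          Zt (dW c) (sysZ (Nc k U hV₀ φ c)) n) = t • ⟨Et k U e hV₀ iso φ c n x.1, _⟩)

end K904.TotHT
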