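import Groth.Agent.DelIll.K904.Tot

/-!
# Upper bound for the cohomology of the total complex

`finrank H^n(Tot) ≤ ∑_{a + b = n} finrank H^b(G a)`.
-/

set_option autoImplicit false
universe u

open CategoryTheory CategoryTheory.Limits Module

namespace K904.Tot

open Groth.Agent.Lefpen.H722.Sys Groth.Agent.Lefpen.H278 Groth.Agent.Lefpen.H278.SysFam

section LinAlg

variable {k : Type*} [Field k] {F Q H : Type*} [AddCommGroup F] [Module k F] [AddCommGroup Q] [Module k Q]
  [AddCommGroup H] [Module k H]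

/-- If `q x ∈ P` whenever `g x = 0`, the range of `q` has dimension at most `dim P + dim H`. -/
theorem finrank_range_le (q : F →ₗ[k] Q) (g : F →ₗ[k] H) (P : Submodule k Q)
    (h : ∀ x, g x = 0 → q x ∈ P) [Module.Finite k P] [Module.Finite k H] :
    Module.Finite k (LinearMap.range q) ∧ finrank k (LinearMap.range q) ≤ finrank k P + finrank k H := by
  -- factor `F → Q/P` through `range g`
  have hle : LinearMap.ker g ≤ LinearMap.ker (P.mkQ ∘ₗ q) := fun x hx => by
    rw [LinearMap.mem_ker, LinearMap.comp_apply, Submodule.mkQ_apply, Submodule.Quotient.mk_eq_zero]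
    exact h x hx
  let ψ : LinearMap.range g →ₗ[k] (Q ⧸ P) :=
    ((LinearMap.ker g).liftQ (P.mkQ ∘ₗ q) hle) ∘ₗ (g.quotKerEquivRange.symm : _ →ₗ[k] _)
  have hψ : ∀ x, P.mkQ (q x) = ψ (g.rangeRestrict x) := by
    intro x
    have h1 : g.quotKerEquivRange.symm (g.rangeRestrict x) = (LinearMap.ker g).mkQ x := by
      rw [LinearEquiv.symm_apply_eq]; rfl
    change _ = ((LinearMap.ker g).liftQ (P.mkQ ∘ₗ q) hle) (g.quotKerEquivRange.symm (g.rangeRestrict x))
    rw [h1]
    rfl
  have hR : LinearMap.range (P.mkQ ∘ₗ q) = LinearMap.range ψ := by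
    apply le_antisymm
    · rintro _ ⟨x, rfl⟩
      exact ⟨g.rangeRestrict x, (hψ x).symm⟩
    · rintro _ ⟨⟨_, x, rfl⟩, rfl⟩
      exact ⟨x, hψ x⟩
  have hmap : (LinearMap.range q).map P.mkQ = LinearMap.range ψ := by
    rw [← hR, LinearMap.range_comp]
  have hfin : (LinearMap.range q).FG := by
    apply Submodule.fg_of_fg_map_of_fg_inf_ker P.mkQ
    · rw [hmap]
      exact Module.Finite.iff_fg.1 inferInstance
    · rw [Submodule.ker_mkQ]
      have : Module.Finite k (LinearMap.range q ⊓ P : Submodule k Q) :=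
        Module.Finite.of_injective (Submodule.inclusion (inf_le_right : LinearMap.range q ⊓ P ≤ P))
          (Submodule.inclusion_injective _)
      exact Module.Finite.iff_fg.1 this
  have hf : Module.Finite k (LinearMap.range q) := Module.Finite.iff_fg.2 hfin
  refine ⟨hf, ?_⟩
  let φ : LinearMap.range q →ₗ[k] Q ⧸ P := P.mkQ.domRestrict (LinearMap.range q)
  have h1 := LinearMap.finrank_range_add_finrank_ker φ
  have h2 : LinearMap.range φ = LinearMap.range ψ := by
    rw [← hmap]
    ext y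
    constructor
    · rintro ⟨x, rfl⟩; exact ⟨x.1, x.2, rfl⟩
    · rintro ⟨x, hx, rfl⟩; exact ⟨⟨x, hx⟩, rfl⟩
  have h3 : finrank k (LinearMap.range φ) ≤ finrank k H := by
    rw [h2]
    exact (LinearMap.finrank_range_le ψ).trans (Submodule.finrank_le _)
  have h4 : finrank k (LinearMap.ker φ) ≤ finrank k P := by
    have hk : ∀ x : LinearMap.ker φ, (x.1.1 : Q) ∈ P := fun x => by
      have := LinearMap.mem_ker.1 x.2
      change P.mkQ x.1.1 = 0 at this
      rwa [Submodule.mkQ_apply, Submodule.Quotient.mk_eq_zero] at this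
    let i : LinearMap.ker φ →ₗ[k] P :=
      LinearMap.codRestrict P ((LinearMap.range q).subtype ∘ₗ (LinearMap.ker φ).subtype) hk
    have hi : Function.Injective i := fun x y hxy => by
      apply Subtype.ext
      apply Subtype.ext
      exact congrArg (fun z : P => (z : Q)) hxy
    exact LinearMap.finrank_le_finrank_of_injective hi
  omega

end LinAlg

/-- Gradings of a `DSys`. -/
structure Gr {k : Type u} [CommRing k] {ι : Type} (K : DSys k ι) where
  /-- the pieces -/
  G : ℕ → SubSys K.E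
  d_mem : ∀ a I hI x, x ∈ (G a).G I → K.d.app I hI x ∈ (G (a + 1)).G I
  ε_mem : ∀ a I hI x, x ∈ (G a).G I → K.ε.app I hI x ∈ (G a).G I

namespace Gr

variable {k : Type u} [CommRing k] {ι : Type} {K : DSys k ι} (G : Gr K)

/-- Total cochains of degree `n`. -/
def deg (n : ℕ) : Submodule k K.T where
  carrier := {x | (∀ a b, a + b = n → ∀ σ, x b σ ∈ (G.G a).G (Set.range σ)) ∧ ∀ b, n < b → x b = 0}
  zero_mem' := ⟨fun _ _ _ _ => zero_mem _, fun _ _ => rfl⟩
  add_mem' := fun hx hy => ⟨fun a b h σ => add_mem (hx.1 a b h σ) (hy.1 a b h σ),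
    fun b hb => by
      have h1 := hx.2 b hb
      have h2 := hy.2 b hb
      exact (congrArg₂ (· + ·) h1 h2).trans (add_zero _)⟩
  smul_mem' := fun c _ hx => ⟨fun a b h σ => Submodule.smul_mem _ c (hx.1 a b h σ),
    fun b hb => (congrArg (c • ·) (hx.2 b hb)).trans (smul_zero c)⟩

theorem c_d_mem {a b : ℕ} {s : C K.E b} (hs : ∀ σ, s σ ∈ (G.G a).G (Set.range σ))
    (σ : Fin (b + 2) → ι) : Groth.Agent.Lefpen.H722.Sys.d K.E b s σ ∈ (G.G a).G (Set.range σ) := by
  rw [d_apply]
  exact sum_mem fun j _ => zsmul_mem ((G.G a).res_mem _ (hs _)) _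

theorem D_mem {n : ℕ} {x : K.T} (hx : x ∈ G.deg n) : K.D x ∈ G.deg (n + 1) := by
  refine ⟨fun a b h σ => ?_, fun b hb => ?_⟩
  · cases b with
    | zero =>
      rw [DSys.D_zero]
      obtain rfl : a = n + 1 := by omega
      exact G.d_mem n _ _ _ (hx.1 n 0 (by omega) σ)
    | succ b =>
      rw [DSys.D_succ]
      refine add_mem ?_ ?_
      · cases a with
        | zero =>
          have h1 : x (b + 1) = 0 := hx.2 _ (by omega)
          rw [h1, map_zero]
          exact zero_mem _
        | succ a => exact G.d_mem a _ _ _ (hx.1 a (b + 1) (by omega) σ)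
      · exact G.ε_mem a _ _ _ (G.c_d_mem (hx.1 a b (by omega)) σ)
  · cases b with
    | zero => omega
    | succ b =>
      rw [DSys.D_succ, hx.2 (b + 1) (by omega), hx.2 b (by omega), map_zero, map_zero, map_zero, add_zero]

/-- Cocycles. -/
noncomputable def Z (n : ℕ) : Submodule k K.T := G.deg n ⊓ LinearMap.ker K.D

/-- Coboundaries. -/
noncomputable def B : ℕ → Submodule k K.T
  | 0 => ⊥
  | n + 1 => (G.deg n).map K.D

theorem B_le_Z (n : ℕ) : G.B n ≤ G.Z n := by
  cases n with
  | zero => exact bot_le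
  | succ n =>
    rintro _ ⟨x, hx, rfl⟩
    exact ⟨G.D_mem hx, K.D_D x⟩

/-- The cohomology of the total complex. -/
abbrev Ht (n : ℕ) : Type u := G.Z n ⧸ (G.B n).submoduleOf (G.Z n)

/-- Cocycles with vanishing components of Čech degree `≥ m`. -/
noncomputable def F (n m : ℕ) : Submodule k K.T := G.Z n ⊓ ⨅ b ≥ m, LinearMap.ker (LinearMap.proj (R := k) (φ := fun b => C K.E b) b)

theorem mem_F {n m : ℕ} {x : K.T} : x ∈ G.F n m ↔ x ∈ G.Z n ∧ ∀ b, m ≤ b → x b = 0 := by
  simp only [F, Submodule.mem_inf, Submodule.mem_iInf, LinearMap.mem_ker]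
  rfl

/-- The class map on the filtration. -/
noncomputable def q (n m : ℕ) : G.F n m →ₗ[k] G.Ht n :=
  (Submodule.mkQ _) ∘ₗ Submodule.inclusion (inf_le_left : G.F n m ≤ G.Z n)

theorem q_apply {n m : ℕ} (x : G.F n m) : G.q n m x = Submodule.Quotient.mk ⟨x.1, x.2.1⟩ := rfl

/-- The leading coefficient is a cocycle. -/
theorem lead_cocycle {n m : ℕ} (x : G.F n (m + 1)) :
    Groth.Agent.Lefpen.H722.Sys.d K.E m (x.1 m) = 0 := by
  have h1 : K.D x.1 (m + 1) = 0 := by
    have := LinearMap.mem_ker.1 x.2.1.2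
    exact congrFun this (m + 1)
  rw [DSys.D_succ, (G.mem_F.1 x.2).2 (m + 1) le_rfl, map_zero, zero_add] at h1
  rw [← K.εc_εc (m + 1) (Groth.Agent.Lefpen.H722.Sys.d K.E m (x.1 m)), h1, map_zero]

/-- The leading coefficient. -/
noncomputable def lead {n m a : ℕ} (ha : a + m = n) :
    G.F n (m + 1) →ₗ[k] LinearMap.ker (Groth.Agent.Lefpen.H722.Sys.d (G.G a).sys m) where
  toFun x := ⟨(G.G a).lift m (x.1 m) (fun σ => x.2.1.1.1 a m ha σ), by
    rw [LinearMap.mem_ker]
    apply (G.G a).inc_injective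
    rw [SubSys.inc_d, SubSys.inc_lift, lead_cocycle, map_zero]⟩
  map_add' _ _ := rfl
  map_smul' _ _ := rfl

theorem lead_inc {n m a : ℕ} (ha : a + m = n) (x : G.F n (m + 1)) :
    (G.G a).inc m (G.lead ha x).1 = x.1 m := rfl

end Gr

namespace Gr

variable {k : Type u} [Field k] {ι : Type} {K : DSys k ι} (G : Gr K)

theorem q_mem_of_lead {n m a : ℕ} (ha : a + m = n) (x : G.F n (m + 1))
    (hx : SecSys.clsV k (G.G a).sys m (G.lead ha x) = 0) :
    G.q n (m + 1) x ∈ LinearMap.range (G.q n m) := by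
  rw [cls_eq_zero_iff] at hx
  cases m with
  | zero =>
    have h0 : x.1 0 = 0 := by
      rw [← G.lead_inc ha x, show (G.lead ha x).1 = 0 from hx, map_zero]
    refine ⟨⟨x.1, G.mem_F.2 ⟨x.2.1, fun b _ => ?_⟩⟩, rfl⟩
    cases b with
    | zero => exact h0
    | succ b => exact (G.mem_F.1 x.2).2 _ (by omega)
  | succ m =>
    obtain ⟨t, ht⟩ := hx
    have hx' : x.1 (m + 1) = Groth.Agent.Lefpen.H722.Sys.d K.E m ((G.G a).inc m t) := by
      rw [← G.lead_inc ha x, ← ht, SubSys.inc_d]
    let y : K.T := Pi.single m (K.ε.c m ((G.G a).inc m t))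
    have hy0 : ∀ b, b ≠ m → y b = 0 := fun b hb => Pi.single_eq_of_ne hb _
    have hym : y m = K.ε.c m ((G.G a).inc m t) := Pi.single_eq_same _ _
    have hy : y ∈ G.deg (a + m) := by
      refine ⟨fun a' b h σ => ?_, fun b hb => hy0 b (by omega)⟩
      by_cases hb : b = m
      · subst hb
        obtain rfl : a' = a := by omega
        rw [hym]
        exact G.ε_mem a' _ _ _ (t σ).2
      · rw [hy0 b hb]
        exact zero_mem _
    have hn : n = (a + m) + 1 := by omega
    have hDy : K.D y ∈ G.B n := by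
      subst hn
      exact ⟨y, hy, rfl⟩
    have hz : x.1 - K.D y ∈ G.F n (m + 1) := by
      refine G.mem_F.2 ⟨sub_mem x.2.1 (G.B_le_Z n hDy), fun b hb => ?_⟩
      change x.1 b - K.D y b = 0
      obtain ⟨b, rfl⟩ : ∃ c, b = c + 1 := ⟨b - 1, by omega⟩
      rw [DSys.D_succ, hy0 (b + 1) (by omega), map_zero, zero_add]
      by_cases hbm : b = m
      · subst hbm
        rw [hym, ← FEnd.c_d, K.εc_εc, hx', sub_self]
      · rw [hy0 b hbm, map_zero, map_zero, sub_zero]
        exact (G.mem_F.1 x.2).2 _ (by omega)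
    refine ⟨⟨x.1 - K.D y, hz⟩, ?_⟩
    rw [q_apply, q_apply, Submodule.Quotient.eq]
    change x.1 - K.D y - x.1 ∈ G.B n
    rw [sub_sub_cancel_left]
    exact neg_mem hDy

theorem finrank_range_q_le {n : ℕ}
    (hfin : ∀ a b, a + b = n → Module.Finite k (H (G.G a).sys b)) (m : ℕ) (hm : m ≤ n + 1) :
    Module.Finite k (LinearMap.range (G.q n m)) ∧
      finrank k (LinearMap.range (G.q n m)) ≤
        ∑ b ∈ Finset.range m, finrank k (H (G.G (n - b)).sys b) := by
  induction m with
  | zero =>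
    have h0 : ∀ x : G.F n 0, x = 0 := fun x => Subtype.ext (funext fun b =>
      (G.mem_F.1 x.2).2 b (Nat.zero_le _))
    have : LinearMap.range (G.q n 0) = ⊥ := by
      rw [eq_bot_iff]
      rintro _ ⟨x, rfl⟩
      rw [h0 x, map_zero]
      exact zero_mem _
    rw [this]
    refine ⟨inferInstance, ?_⟩
    simp
  | succ m ih =>
    obtain ⟨h1, h2⟩ := ih (by omega)
    have ha : (n - m) + m = n := by omega
    have := hfin (n - m) m ha
    obtain ⟨h3, h4⟩ := finrank_range_le (G.q n (m + 1))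
      (SecSys.clsV k (G.G (n - m)).sys m ∘ₗ G.lead ha) (LinearMap.range (G.q n m))
      (fun x hx => G.q_mem_of_lead ha x hx)
    refine ⟨h3, h4.trans ?_⟩
    rw [Finset.sum_range_succ]
    exact Nat.add_le_add_right h2 _

theorem range_q_top (n : ℕ) : LinearMap.range (G.q n (n + 1)) = ⊤ := by
  rw [eq_top_iff]
  rintro x -
  obtain ⟨x, rfl⟩ := Submodule.Quotient.mk_surjective _ x
  exact ⟨⟨x.1, G.mem_F.2 ⟨x.2, fun b hb => x.2.1.2 b (by omega)⟩⟩, rfl⟩

/-- **Upper bound**. -/
theorem finite_Ht {n : ℕ} (hfin : ∀ a b, a + b = n → Module.Finite k (H (G.G a).sys b)) :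
    Module.Finite k (G.Ht n) := by
  have h := (G.finrank_range_q_le hfin (n + 1) le_rfl).1
  rw [range_q_top] at h
  exact Module.Finite.equiv (Submodule.topEquiv (R := k) (M := G.Ht n))

/-- **Upper bound**. -/
theorem finrank_Ht_le {n : ℕ} (hfin : ∀ a b, a + b = n → Module.Finite k (H (G.G a).sys b)) :
    finrank k (G.Ht n) ≤ ∑ a ∈ Finset.range (n + 1), finrank k (H (G.G a).sys (n - a)) := by
  have h := (G.finrank_range_q_le hfin (n + 1) le_rfl).2
  rw [range_q_top, finrank_top] at h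
  refine h.trans (le_of_eq ?_)
  rw [← Finset.sum_range_reflect]
  refine Finset.sum_congr rfl fun b hb => ?_
  rw [Finset.mem_range] at hb
  have h1 : n + 1 - 1 - b = n - b := by omega
  rw [h1]
  have h2 : n - (n - b) = b := by omega
  rw [h2]

end Gr

end K904.Tot
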