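import Groth.Agent.DelIll.K890.CechHT
import Groth.Agent.DelIll.K890.CechFull
import Groth.Agent.DelIll.K912.Fam
import Groth.Agent.DelIll.K912.Geo

/-!
# Čech cochains of the terms of a complex as families of functions on sequences

`X = ⊔ X_c`, each `X_c` covered by `U c i` (`i : ι c`), `V₀ c ≤ U c i`, `e : J ≃ Σ c, ι c`, `D` the full Čech datum
of the cover.  `E c b y` is the function on sequences in `ι c` with values in `W c` attached to a cochain `y` of degree
`b` of the sheaf `F ≅ Coh.toAb M`.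
-/

set_option autoImplicit false

universe w' u

open CategoryTheory CategoryTheory.Limits AlgebraicGeometry Opposite TopologicalSpace
open Groth.Agent.CohqA.CechBasic Groth.Agent.CohqA.CechSheaf Groth.Agent.CurvesB.HZero
open Groth.Agent.Fga.MumCech Groth.Agent.Ega3B Groth.Agent.Ega3B.CombRes
open K912.Seq K912.Dim K912.CechCmp K912.LatCmp K912.Fam K890

namespace K904.TotVal

attribute [local instance] modP

variable (k : Type u) [Field k] {X : Scheme.{u}} [X.Over (Spec (CommRingCat.of k))]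
  {C : Type u} {ι : C → Type u} (U : ∀ c, ι c → X.Opens) {J : Type} [Fintype J] [DecidableEq J]
  (e : J ≃ Σ c, ι c)

/-- the cover, indexed by `J` -/
abbrev UJ (j : J) : X.Opens := tot U (e j)

omit [Fintype J] [DecidableEq J] in
theorem iSup_UJ (hU : ⨆ s, tot U s = ⊤) : ⨆ j, UJ U e j = ⊤ := by
  rw [← hU]
  exact e.surjective.iSup_comp (tot U)

/-- the Čech datum -/
abbrev DJ : Data X.toPresheafedSpace.carrier := CechFull.full (X := X.toPresheafedSpace.carrier) (UJ U e)

/-- the beginning of a sequence of indices, as a simplex of `DJ` -/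
def smp (c : C) (b : ℕ) (i : ℕ → ι c) : (DJ U e).B b := fun j => e.symm ⟨c, i j⟩

theorem smp_face (c : C) (b : ℕ) (i : ℕ → ι c) (j : Fin (b + 2)) :
    smp U e c (b + 1) i ∘ j.succAbove = smp U e c b (face j i) := by
  funext a
  change e.symm ⟨c, i ((j.succAbove a : Fin (b + 2)) : ℕ)⟩ = e.symm ⟨c, face j i a⟩
  congr 2
  by_cases h : (a : ℕ) < j
  · rw [face_apply_lt i h, Fin.succAbove_of_castSucc_lt j a (by exact h)]
    rfl
  · rw [face_apply_ge i (not_lt.1 h), Fin.succAbove_of_le_castSucc j a (by exact not_lt.1 h)]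
    rfl

theorem smp_congr (c : C) (b : ℕ) {i i' : ℕ → ι c} (h : ∀ m ≤ b, i m = i' m) :
    smp U e c b i = smp U e c b i' := by
  funext a
  change e.symm ⟨c, i a⟩ = e.symm ⟨c, i' a⟩
  rw [h a (by have := a.2; omega)]

theorem W_smp (c : C) (b : ℕ) (i : ℕ → ι c) :
    (DJ U e).W b (smp U e c b i) = ⨅ a : Fin (b + 1), U c (i a) := by
  change (⨅ j : Fin (b + 1), tot U (e (e.symm ⟨c, i j⟩))) = _
  refine iInf_congr fun j => ?_
  rw [Equiv.apply_symm_apply]
  rfl

variable {V₀ : C → X.Opens} (hV₀ : ∀ c i, V₀ c ≤ U c i)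

include hV₀ in
theorem le_W (c : C) (b : ℕ) (i : ℕ → ι c) : V₀ c ≤ (DJ U e).W b (smp U e c b i) := by
  rw [W_smp]
  exact le_iInf fun a => hV₀ c _

variable (M : X.Modules) {F : Sheaf (Opens.grothendieckTopology X) AddCommGrpCat.{u}} (f : F ≅ Coh.toAb M)
  {W : C → Type*} [∀ c, AddCommGroup (W c)] [∀ c, Module k (W c)]
  (φ : ∀ c, M.presheaf.obj (op (V₀ c)) →ₗ[k] W c)

/-- the iso on sections -/
noncomputable def tr {V : X.Opens} : F.obj.obj (op V) →+ M.presheaf.obj (op V) := (f.hom.hom.app (op V)).hom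

theorem tr_bijective (V : X.Opens) : Function.Bijective (tr M f (V := V)) := by
  have h : IsIso f.hom.hom := inferInstanceAs (IsIso ((sheafToPresheaf _ _).map f.hom))
  exact ConcreteCategory.bijective_of_isIso (f.hom.hom.app (op V))

theorem tr_res {V V' : X.Opens} (h : V ≤ V') (s : F.obj.obj (op V')) :
    tr M f (F.obj.map (homOfLE h).op s) = res M.presheaf h (tr M f s) :=
  ConcreteCategory.congr_hom (f.hom.hom.naturality (homOfLE h).op) s

/-- the value in `W c` of a section over a bigger open -/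
noncomputable def val (c : C) {V : X.Opens} (h : V₀ c ≤ V) : F.obj.obj (op V) →+ W c :=
  (rho k M (φ c) h).toAddMonoidHom.comp (tr M f)

theorem val_apply (c : C) {V : X.Opens} (h : V₀ c ≤ V) (s : F.obj.obj (op V)) :
    val k M f φ c h s = rho k M (φ c) h (tr M f s) := rfl

theorem val_res (c : C) {V V' : X.Opens} (h : V₀ c ≤ V) (h' : V ≤ V') (s : F.obj.obj (op V')) :
    val k M f φ c h (F.obj.map (homOfLE h').op s) = val k M f φ c (h.trans h') s := by
  rw [val_apply, tr_res, rho_res, val_apply]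

/-- a cochain of degree `b` as a function on sequences -/
noncomputable def E (c : C) (b : ℕ) : (DJ U e).K b F.obj →+ ((ℕ → ι c) → W c) :=
  AddMonoidHom.mk' (fun y i => val k M f φ c (le_W U e hV₀ c b i) (y (smp U e c b i))) (fun y y' => by
    funext i
    exact map_add _ _ _)

theorem E_apply (c : C) (b : ℕ) (y : (DJ U e).K b F.obj) (i : ℕ → ι c) :
    E k U e hV₀ M f φ c b y i = val k M f φ c (le_W U e hV₀ c b i) (y (smp U e c b i)) := rfl

theorem val_congr (c : C) (b : ℕ) (y : (DJ U e).K b F.obj) {σ σ' : (DJ U e).B b} (h : σ = σ')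
    (hσ : V₀ c ≤ (DJ U e).W b σ) :
    val k M f φ c hσ (y σ) = val k M f φ c (h ▸ hσ : V₀ c ≤ (DJ U e).W b σ') (y σ') := by
  subst h
  rfl

theorem E_δ (c : C) (b : ℕ) (y : (DJ U e).K b F.obj) :
    E k U e hV₀ M f φ c (b + 1) ((DJ U e).δ b F.obj y) = δ b (E k U e hV₀ M f φ c b y) := by
  funext i
  rw [E_apply]
  refine (congrArg _ (CechFull.full_δ_apply (X := X.toPresheafedSpace.carrier) (U := UJ U e) b y (smp U e c (b + 1) i))).trans ?_
  refine (map_sum (val k M f φ c (le_W U e hV₀ c (b + 1) i)) _ _).trans ?_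
  rw [δ_apply, Finset.sum_range]
  refine Finset.sum_congr rfl fun j _ => ?_
  refine (map_zsmul (val k M f φ c (le_W U e hV₀ c (b + 1) i)) _ _).trans ?_
  congr 1
  refine (val_res k M f φ c (le_W U e hV₀ c (b + 1) i) (CechFull.face_le (U := UJ U e) (smp U e c (b + 1) i) j)
    (y (smp U e c (b + 1) i ∘ j.succAbove))).trans ?_
  exact val_congr k U e M f φ c b y (smp_face U e c b i j) _

theorem E_mem (c : C) (b : ℕ) (y : (DJ U e).K b F.obj) :
    E k U e hV₀ M f φ c b y ∈ Coch (Nl k (U c) (hV₀ c) M (φ c)) b := by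
  refine ⟨fun i i' h => ?_, fun i => ?_⟩
  · rw [E_apply, E_apply]
    exact val_congr k U e M f φ c b y (smp_congr U e c b h) _
  · rw [Nl_nonempty k (U c) (hV₀ c) M (φ c) (rg_nonempty b i), range_rho_congr k M (φ c) _
      (le_W U e hV₀ c b i) ((Us_rg (U c) b i).trans (W_smp U e c b i).symm)]
    exact ⟨_, rfl⟩

section Inj

omit [Fintype J] [DecidableEq J] in
theorem rho_injective_of_eq (c : C) (b : ℕ) (i : Fin (b + 1) → ι c)
    (h : Function.Injective (rho k M (φ c) (le_iInf_U (U c) (hV₀ c) i))) {V : X.Opens} (hV : V₀ c ≤ V)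
    (hVi : V = ⨅ a, U c (i a)) : Function.Injective (rho k M (φ c) hV) := by
  subst hVi
  exact h

theorem val_injective (c : C) (b : ℕ) (i : ℕ → ι c)
    (h : Function.Injective (rho k M (φ c) (le_iInf_U (U c) (hV₀ c) (fun a : Fin (b + 1) => i a)))) :
    Function.Injective (val k M f φ c (le_W U e hV₀ c b i)) :=
  (rho_injective_of_eq k U hV₀ M φ c b _ h (le_W U e hV₀ c b i) (W_smp U e c b i)).comp
    (tr_bijective M f _).1

include f in
/-- a simplex is either a simplex of one component or lies over the empty set -/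
theorem exists_smp_or (hd : Disj U) (b : ℕ) (σ : (DJ U e).B b) :
    (∃ c i, smp U e c b i = σ) ∨ Subsingleton (F.obj.obj (op ((DJ U e).W b σ))) := by
  let σ' : Fin (b + 1) → Σ c, ι c := fun a => e (σ a)
  by_cases hi : ∀ a, (σ' a).1 = (σ' 0).1
  · obtain ⟨i', hi'⟩ := sigma_eq σ' hi
    refine Or.inl ⟨_, ext i', funext fun a => ?_⟩
    change e.symm ⟨_, ext i' a⟩ = σ a
    rw [ext_apply, Equiv.symm_apply_eq]
    exact congrFun hi' a
  · push Not at hi
    obtain ⟨a, ha⟩ := hi
    have h1 : Subsingleton (M.presheaf.obj (op ((DJ U e).W b σ))) := subsingleton_of_mixed M hd σ' ha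
    exact Or.inr ((tr_bijective M f _).1.subsingleton)

theorem E_ext (hd : Disj U) (hinj : ∀ c (p : ℕ) (i : Fin (p + 1) → ι c),
    Function.Injective (rho k M (φ c) (le_iInf_U (U c) (hV₀ c) i))) (b : ℕ)
    {y y' : (DJ U e).K b F.obj} (h : ∀ c, E k U e hV₀ M f φ c b y = E k U e hV₀ M f φ c b y') : y = y' := by
  funext σ
  rcases exists_smp_or U e M f hd b σ with ⟨c, i, rfl⟩ | hs
  · exact val_injective k U e hV₀ M f φ c b i (hinj c b _) (congrFun (h c) i)
  · exact Subsingleton.elim _ _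

theorem smp_inj {c c' : C} {b : ℕ} {i : ℕ → ι c} {i' : ℕ → ι c'} (h : smp U e c b i = smp U e c' b i') :
    ∃ hc : c = c', ∀ m ≤ b, hc ▸ i m = i' m := by
  have h1 : ∀ m ≤ b, (⟨c, i m⟩ : Σ c, ι c) = ⟨c', i' m⟩ := fun m hm =>
    e.symm.injective (congrFun h ⟨m, by omega⟩)
  have hc : c = c' := congrArg Sigma.fst (h1 0 (Nat.zero_le _))
  subst hc
  exact ⟨rfl, fun m hm => eq_of_heq (Sigma.mk.inj (h1 m hm)).2⟩

theorem E_surj (b : ℕ) {z : ∀ c, (ℕ → ι c) → W c}
    (hz : ∀ c, z c ∈ Coch (Nl k (U c) (hV₀ c) M (φ c)) b) :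
    ∃ y : (DJ U e).K b F.obj, ∀ c, E k U e hV₀ M f φ c b y = z c := by
  have h1 : ∀ σ : (DJ U e).B b, ∃ s : F.obj.obj (op ((DJ U e).W b σ)),
      ∀ (c : C) (i : ℕ → ι c) (_ : smp U e c b i = σ) (hσ : V₀ c ≤ (DJ U e).W b σ),
        val k M f φ c hσ s = z c i := by
    intro σ
    by_cases hi : ∃ (c : C) (i : ℕ → ι c), smp U e c b i = σ
    · obtain ⟨c, i, rfl⟩ := hi
      have h2 := (hz c).2 i
      rw [Nl_nonempty k (U c) (hV₀ c) M (φ c) (rg_nonempty b i), range_rho_congr k M (φ c) _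
        (le_W U e hV₀ c b i) ((Us_rg (U c) b i).trans (W_smp U e c b i).symm)] at h2
      obtain ⟨m, hm⟩ := h2
      obtain ⟨s, rfl⟩ := (tr_bijective M f _).2 m
      refine ⟨s, fun c' i' h' hσ => ?_⟩
      obtain ⟨hc, hi'⟩ := smp_inj U e h'
      subst hc
      rw [(hz c').1 i' i hi']
      exact hm
    · exact ⟨0, fun c i h => (hi ⟨c, i, h⟩).elim⟩
  choose y hy using h1
  exact ⟨y, fun c => funext fun i => hy _ c i rfl _⟩

end Inj

section Map

variable {k} {M}

/-- compatibility with an additive morphism realised by `g` -/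
theorem E_map {M' : X.Modules} {F' : Sheaf (Opens.grothendieckTopology X) AddCommGrpCat.{u}}
    (f' : F' ≅ Coh.toAb M') (φ' : ∀ c, M'.presheaf.obj (op (V₀ c)) →ₗ[k] W c) (t : F ⟶ F')
    (c : C) (g : W c → W c) (ht : ∀ s : F.obj.obj (op (V₀ c)),
      φ' c (tr M' f' (t.hom.app (op (V₀ c)) s)) = g (φ c (tr M f s))) (b : ℕ)
    (y : (DJ U e).K b F.obj) (i : ℕ → ι c) :
    E k U e hV₀ M' f' φ' c b ((DJ U e).Kmap b t.hom y) i = g (E k U e hV₀ M f φ c b y i) := by
  have h1 : F'.obj.map (homOfLE (le_W U e hV₀ c b i)).op (t.hom.app _ (y (smp U e c b i))) =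
      t.hom.app _ (F.obj.map (homOfLE (le_W U e hV₀ c b i)).op (y (smp U e c b i))) :=
    (ConcreteCategory.congr_hom (t.hom.naturality (homOfLE (le_W U e hV₀ c b i)).op) _).symm
  have h2 := ht (F.obj.map (homOfLE (le_W U e hV₀ c b i)).op (y (smp U e c b i)))
  rw [← h1, tr_res, tr_res] at h2
  exact h2

end Map

end K904.TotVal
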